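import Cfsg.Agent.Monster.Seven.Span
import Cfsg.Agent.Monster.Conjugates
import Cfsg.Agent.Monster.NoncentralCentralizer

/-!
# An element of order seven fixing two commuting conjugates, in normalised coordinates
-/

set_option autoImplicit false
set_option maxRecDepth 100000
set_option maxHeartbeats 1000000
set_option linter.style.haveILetI false

namespace CfsgLib.Monster.Seven

open Cfsg CfsgLib CfsgLib.Golay CfsgLib.Leech

attribute [local irreducible] shortVecs halfTable quarterTable codeFinset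

/-- The projection to the simple quotient. -/
noncomputable def mk1 : Co0 →* Spor.Co1 := QuotientGroup.mk' (Subgroup.center Co0)

theorem center_cases {g : Co0} (h : g ∈ Subgroup.center Co0) : g = 1 ∨ g = negAut := by
  have h' : g ∈ (Subgroup.center Co0 : Set Co0) := h
  rw [center_eq] at h'
  exact h'

theorem eq_or_neg_of_mk {a b : Co0} (h : mk1 a = mk1 b) : b = a ∨ b = negAut * a := by
  have hm : a⁻¹ * b ∈ Subgroup.center Co0 := QuotientGroup.eq.1 h
  have hb : b = a * (a⁻¹ * b) := (mul_inv_cancel_left a b).symm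
  rcases center_cases hm with e | e
  · left; rw [hb, e, mul_one]
  · right; rw [hb, e, Subgroup.mem_center_iff.1 negAut_central a]

theorem cls_negAut (v : leechLattice) :
    cls ((negAut • v : leechLattice) : GolayPt → ℤ) = cls (v : GolayPt → ℤ) := by
  rw [negAut_smul]; exact cls_neg v.2

theorem negAut_mem_mono : negAut ∈ monoGroup :=
  (mem_monoGroup_iff _).2 ⟨(oneWord, 1), by rw [monoAut, map_one, mul_one, signAut_one]⟩

/-- An element whose image commutes up to a power with the image of `bh` does so exactly. -/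
theorem conj_of_mk {g : Co0} {k : ℕ} (h : mk1 g * mk1 bh = mk1 bh ^ k * mk1 g) :
    g * bh = bh ^ k * g := by
  rw [← map_pow, ← map_mul, ← map_mul] at h
  rcases eq_or_neg_of_mk h.symm with e | e
  · exact e
  exfalso
  have h1 : g * bh * g⁻¹ = negAut * bh ^ k := by rw [e]; group
  have h7 : (g * bh * g⁻¹) ^ 7 = 1 := by rw [conj_pow, bh_pow_seven, mul_one, mul_inv_cancel]
  rw [h1, (Commute.mul_pow (Subgroup.mem_center_iff.1 negAut_central (bh ^ k)).symm 7),
    ← pow_mul, mul_comm k, pow_mul, bh_pow_seven, one_pow, mul_one, show (7 : ℕ) = 2 * 3 + 1 from rfl,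
    pow_succ, pow_mul, pow_two, negAut_sq, one_pow, one_mul] at h7
  exact negAut_ne_one h7

variable {G : Type*} [Group G] {z : G}

theorem card_ker [Finite G] (D : Data z) : Nat.card D.π.ker = 2 ^ 25 := by
  rw [← D.card]
  have : D.π.ker = D.Q.subgroupOf (Subgroup.centralizer ({z} : Set G)) := Subgroup.ext fun c => D.mem_ker c
  rw [this]
  exact Nat.card_congr (Subgroup.subgroupOfEquivOfLe D.le_C).toEquiv

/-- Two elements of order seven with the same image are conjugate under the two-group. -/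
theorem conj_in_Q [Finite G] (D : Data z) {a b : Subgroup.centralizer ({z} : Set G)}
    (ha : orderOf a = 7) (hb : orderOf b = 7) (h : D.π a = D.π b) :
    ∃ q : Subgroup.centralizer ({z} : Set G), (q : G) ∈ D.Q ∧ q * a * q⁻¹ = b := by
  haveI : Fact (Nat.Prime 7) := ⟨by norm_num⟩
  let S : Subgroup (Subgroup.centralizer ({z} : Set G)) := (Subgroup.zpowers (D.π a)).comap D.π
  have hpa : orderOf (D.π a) = 7 := by
    refine orderOf_eq_prime ?_ fun e => ?_
    · rw [← map_pow, ← ha, pow_orderOf_eq_one, map_one]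
    · have hd := orderOf_dvd_natCard (⟨a, e⟩ : D.π.ker)
      rw [← Subgroup.orderOf_coe, ha, card_ker] at hd
      norm_num at hd
  have hS : Nat.card S = 2 ^ 25 * 7 := by
    let f : S →* Spor.Co1 := D.π.comp S.subtype
    have hr : f.range = Subgroup.zpowers (D.π a) := by
      rw [MonoidHom.range_comp, Subgroup.range_subtype]
      exact Subgroup.map_comap_eq_self (Subgroup.zpowers_le.2 ⟨a, rfl⟩)
    have hk : Nat.card f.ker = Nat.card D.π.ker := by
      refine Nat.card_congr
        { toFun := fun x => ⟨x.1.1, x.2⟩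
          invFun := fun x => ⟨⟨x.1, show D.π x.1 ∈ Subgroup.zpowers (D.π a) by rw [x.2]; exact one_mem _⟩, x.2⟩
          left_inv := fun x => rfl
          right_inv := fun x => rfl }
    rw [← Subgroup.card_mul_index f.ker, Subgroup.index_ker, hr, hk, card_ker, Nat.card_zpowers, hpa]
  have hfac : (Nat.card S).factorization 7 = 1 := by
    rw [hS, Nat.factorization_mul (by norm_num) (by norm_num), Finsupp.add_apply,
      Nat.Prime.factorization_self (by norm_num : Nat.Prime 7),
      Nat.factorization_eq_zero_of_not_dvd (by norm_num)]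
  have haS : a ∈ S := Subgroup.mem_zpowers (D.π a)
  have hbS : b ∈ S := by
    show D.π b ∈ Subgroup.zpowers (D.π a)
    rw [← h]; exact Subgroup.mem_zpowers _
  have c1 : Nat.card (Subgroup.zpowers (⟨a, haS⟩ : S)) = 7 ^ (Nat.card S).factorization 7 := by
    rw [hfac, pow_one, Nat.card_zpowers, Subgroup.orderOf_mk, ha]
  have c2 : Nat.card (Subgroup.zpowers (⟨b, hbS⟩ : S)) = 7 ^ (Nat.card S).factorization 7 := by
    rw [hfac, pow_one, Nat.card_zpowers, Subgroup.orderOf_mk, hb]
  obtain ⟨x, hx⟩ := MulAction.exists_smul_eq S (Sylow.ofCard _ c1) (Sylow.ofCard _ c2)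
  have hx' : (Subgroup.zpowers (⟨a, haS⟩ : S)).map (MulAut.conj x).toMonoidHom =
      Subgroup.zpowers ⟨b, hbS⟩ := by
    have := congrArg Sylow.toSubgroup hx
    simp only [Sylow.coe_subgroup_smul, Sylow.coe_ofCard] at this
    exact this
  rw [MonoidHom.map_zpowers] at hx'
  obtain ⟨i, hi⟩ : x * ⟨a, haS⟩ * x⁻¹ ∈ Subgroup.zpowers (⟨b, hbS⟩ : S) := hx' ▸ Subgroup.mem_zpowers _
  have hi' : x.1 * a * x.1⁻¹ = b ^ i := (congrArg Subtype.val hi).symm
  obtain ⟨j, hj⟩ := Subgroup.mem_zpowers_iff.1 (show D.π x.1 ∈ Subgroup.zpowers (D.π a) from x.2)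
  have hb' : b ^ i = b := by
    have h' := congrArg D.π hi'
    rw [map_mul, map_mul, map_inv, map_zpow, ← hj, ← h, (Commute.zpow_self (D.π a) j).eq,
      mul_inv_cancel_right] at h'
    have h'' : D.π a ^ i = D.π a ^ (1 : ℤ) := by rw [zpow_one]; exact h'.symm
    rw [zpow_eq_zpow_iff_modEq, hpa] at h''
    conv_rhs => rw [← zpow_one b]
    rw [zpow_eq_zpow_iff_modEq, hb]
    exact h''
  refine ⟨x.1 * a ^ (-j), ?_, ?_⟩
  · rw [← D.mem_ker, map_mul, map_zpow, ← hj, ← zpow_add, add_neg_cancel, zpow_zero]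
  · calc x.1 * a ^ (-j) * a * (x.1 * a ^ (-j))⁻¹ = x.1 * (a ^ (-j) * a * (a ^ (-j))⁻¹) * x.1⁻¹ := by group
      _ = x.1 * a * x.1⁻¹ := by rw [((Commute.refl a).zpow_left (-j)).eq, mul_inv_cancel_right]
      _ = b := hi'.trans hb'

/-- The data of the normalised situation. -/
structure Cfg (z s : G) where
  /-- the coordinates -/
  D : Data z
  /-- the element of order seven -/
  β : G
  hs : s ∈ D.Q
  hsz : s ≠ z
  hconj : ∃ g : G, g * z * g⁻¹ = s
  hβz : β ∈ Subgroup.centralizer ({z} : Set G)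
  hβs : β * s = s * β
  ord : orderOf β = 7
  πβ : D.π ⟨β, hβz⟩ = mk1 bh
  cls_s : D.cl s = cls (eightAt none : GolayPt → ℤ)

/-- The image of a class under an automorphism. -/
noncomputable def pushCls (D : Data z) (k : Co0) (q : G) : (GolayPt → ℤ) ⧸ twoLeech :=
  haveI := Classical.dec (∃ v : leechLattice, D.cl q = cls (v : GolayPt → ℤ))
  cls ((k • (if h : ∃ v : leechLattice, D.cl q = cls (v : GolayPt → ℤ) then h.choose else 0) : leechLattice) :
    GolayPt → ℤ)

theorem pushCls_eq (D : Data z) (k : Co0) {q : G} {v : leechLattice} (h : D.cl q = cls (v : GolayPt → ℤ)) :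
    pushCls D k q = cls ((k • v : leechLattice) : GolayPt → ℤ) := by
  have he : ∃ v : leechLattice, D.cl q = cls (v : GolayPt → ℤ) := ⟨v, h⟩
  rw [pushCls, dif_pos he]
  exact cls_smul k (he.choose_spec.symm.trans h)

/-- Change of coordinates. -/
noncomputable def transport (D : Data z) (k : Co0) : Data z where
  Q := D.Q
  π := (MulAut.conj (mk1 k)).toMonoidHom.comp D.π
  cl := pushCls D k
  order_z := D.order_z
  le_C := D.le_C
  mem_ker c := by
    rw [← D.mem_ker]
    exact MulEquiv.map_eq_one_iff (MulAut.conj (mk1 k))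
  surj := (MulAut.conj (mk1 k)).surjective.comp D.surj
  gen := D.gen
  card := D.card
  cl_rep q hq := by
    obtain ⟨v, hv⟩ := D.cl_rep q hq
    exact ⟨k • v, pushCls_eq D k hv⟩
  cl_surj v := by
    obtain ⟨q, hq, hv⟩ := D.cl_surj (k⁻¹ • v)
    exact ⟨q, hq, by rw [pushCls_eq D k hv, smul_inv_smul]⟩
  cl_mul q hq r hr := by
    obtain ⟨v, hv⟩ := D.cl_rep q hq
    obtain ⟨w, hw⟩ := D.cl_rep r hr
    have hvw : D.cl (q * r) = cls ((v + w : leechLattice) : GolayPt → ℤ) := by
      rw [D.cl_mul q hq r hr, hv, hw, ← cls_add]; rfl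
    rw [pushCls_eq D k hv, pushCls_eq D k hw, pushCls_eq D k hvw, smul_add', ← cls_add]
    rfl
  cl_zero q hq := by
    obtain ⟨v, hv⟩ := D.cl_rep q hq
    rw [← D.cl_zero q hq, pushCls_eq D k hv, hv]
    have h0 : ∀ (a : Co0) (u : leechLattice), cls (u : GolayPt → ℤ) = cls 0 →
        cls ((a • u : leechLattice) : GolayPt → ℤ) = cls 0 := fun a u h => by
      have := cls_smul a (v := u) (w := 0) h
      rwa [Leech.smul_zero'] at this
    exact ⟨fun h => by simpa using h0 k⁻¹ _ h, h0 k v⟩
  act c g hg q hq v hv := by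
    obtain ⟨w, hw⟩ := D.cl_rep q hq
    rw [pushCls_eq D k hw] at hv
    have hg' : D.π c = QuotientGroup.mk (k⁻¹ * g * k) := by
      have h' : mk1 k * D.π c * (mk1 k)⁻¹ = mk1 g := hg
      show _ = mk1 _
      rw [map_mul, map_mul, map_inv, ← h']
      group
    rw [pushCls_eq D k (D.act c _ hg' q hq w hw), ← mul_smul,
      show k * (k⁻¹ * g * k) = g * k by group, mul_smul]
    exact cls_smul g hv

theorem mono_order : (4096 * 244823040 : ℕ) = 2 * (7 * 71628226560) ∧ ¬ 7 ∣ 71628226560 := by norm_num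

/-- Normalised coordinates exist. -/
theorem exists_cfg [Finite G] (D : Data z) {s : G} (hs : s ∈ D.Q) (hsz : s ≠ z)
    (hconj : ∃ g : G, g * z * g⁻¹ = s) (B : Subgroup G) (hB : B ≤ Subgroup.centralizer ({z, s} : Set G))
    (hBp : Nat.card B = 7 ^ (Nat.card ↥(Subgroup.centralizer ({z, s} : Set G))).factorization 7) :
    ∃ c : Cfg z s, c.D.Q = D.Q ∧ B = Subgroup.zpowers c.β := by
  classical
  haveI : Fact (Nat.Prime 7) := ⟨by norm_num⟩
  obtain ⟨g, hg⟩ := hconj
  obtain ⟨v, hv, hn⟩ := norm_of_conj D hs hsz hg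
  obtain ⟨hs1, -⟩ := ne_of_cls D hs hv (by omega)
  obtain ⟨g0, hg0⟩ := frame_transitive (v := v) (w := eightAt none) hn (sqNorm_eightAt none)
  set L := Subgroup.centralizer ({z, s} : Set G) with hL
  set C := Subgroup.centralizer ({z} : Set G) with hC
  have hLC : L ≤ C := Subgroup.centralizer_le (by simp)
  have hLs : ∀ {x : G}, x ∈ L → x * s = s * x := fun hx =>
    (Subgroup.mem_centralizer_iff.1 hx s (by simp)).symm
  have hmemL : ∀ {x : G}, x ∈ C → x * s = s * x → x ∈ L := fun hx hxs =>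
    Subgroup.mem_centralizer_iff.2 (by
      intro y hy
      simp only [Set.mem_insert_iff, Set.mem_singleton_iff] at hy
      rcases hy with rfl | rfl
      · exact (Subgroup.mem_centralizer_singleton_iff.1 hx).symm
      · exact hxs.symm)
  let πL : L →* Spor.Co1 := D.π.comp (Subgroup.inclusion hLC)
  let φ : monoGroup →* Spor.Co1 := mk1.comp ((MulAut.conj g0⁻¹).toMonoidHom.comp monoGroup.subtype)
  have hφ : ∀ m : monoGroup, φ m = mk1 (g0⁻¹ * m * g0) := fun m => by
    show mk1 (g0⁻¹ * m * g0⁻¹⁻¹) = _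
    rw [inv_inv]
  have hrange : πL.range = φ.range := by
    ext x
    obtain ⟨a, rfl⟩ := QuotientGroup.mk'_surjective (Subgroup.center Co0) x
    have h1 : QuotientGroup.mk' (Subgroup.center Co0) a ∈ πL.range ↔
        cls ((a • v : leechLattice) : GolayPt → ℤ) = cls (v : GolayPt → ℤ) := by
      rw [← image_fix_iff D hs hs1 hsz hv a]
      constructor
      · rintro ⟨x, hx⟩
        exact ⟨Subgroup.inclusion hLC x, by
          rw [Subgroup.coe_inclusion, hLs x.2, mul_inv_cancel_right], hx⟩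
      · rintro ⟨c, hcs, hc⟩
        exact ⟨⟨c, hmemL c.2 (mul_inv_eq_iff_eq_mul.1 hcs)⟩, hc⟩
    rw [h1, cls_fix_iff_mono hg0]
    constructor
    · intro h
      refine ⟨⟨_, h⟩, ?_⟩
      rw [hφ]
      show mk1 (g0⁻¹ * (g0 * a * g0⁻¹) * g0) = _
      congr 1; group
    · rintro ⟨m, hm⟩
      rw [hφ] at hm
      rcases eq_or_neg_of_mk hm with e | e <;> rw [e]
      · rw [show g0 * (g0⁻¹ * (m : Co0) * g0) * g0⁻¹ = m by group]
        exact m.2
      · rw [show g0 * (negAut * (g0⁻¹ * (m : Co0) * g0)) * g0⁻¹ = (g0 * negAut) * g0⁻¹ * m by group,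
          Subgroup.mem_center_iff.1 negAut_central g0, mul_inv_cancel_right]
        exact mul_mem negAut_mem_mono m.2
  have hfac : (Nat.card L).factorization 7 = 1 := by
    have hk : Nat.card φ.ker = 2 := by
      rw [← card_center]
      refine Nat.card_congr
        { toFun := fun m => ⟨(m.1 : Co0), ?_⟩
          invFun := fun c => ⟨⟨c.1, ?_⟩, ?_⟩
          left_inv := fun m => rfl
          right_inv := fun c => rfl }
      · have hm : g0⁻¹ * (m.1 : Co0) * g0 ∈ Subgroup.center Co0 :=
          (QuotientGroup.eq_one_iff _).1 ((hφ m.1).symm.trans m.2)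
        have := Subgroup.Normal.conj_mem inferInstance _ hm g0
        rwa [show g0 * (g0⁻¹ * (m.1 : Co0) * g0) * g0⁻¹ = m.1 by group] at this
      · rcases center_cases c.2 with e | e <;> rw [e]
        exacts [one_mem _, negAut_mem_mono]
      · show φ _ = 1
        rw [hφ]
        refine (QuotientGroup.eq_one_iff _).2 ?_
        have := Subgroup.Normal.conj_mem inferInstance _ c.2 g0⁻¹
        rwa [inv_inv] at this
    have hi := Subgroup.card_mul_index φ.ker
    rw [Subgroup.index_ker, hk, card_monoGroup, mono_order.1] at hi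
    have hL' := Subgroup.card_mul_index πL.ker
    rw [Subgroup.index_ker, hrange, show Nat.card φ.range = 7 * 71628226560 by omega] at hL'
    obtain ⟨e, -, he⟩ : ∃ e ≤ 25, Nat.card πL.ker = 2 ^ e := by
      refine (Nat.dvd_prime_pow Nat.prime_two).1 ?_
      rw [← card_ker D]
      exact Subgroup.card_dvd_of_injective
        (((Subgroup.inclusion hLC).comp πL.ker.subtype).codRestrict D.π.ker fun x => x.2) fun a b h => by
          have := congrArg (fun y : D.π.ker => ((y.1 : C) : G)) h
          exact Subtype.ext (Subtype.ext this)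
    rw [← hL', he, Nat.factorization_mul (pow_ne_zero _ (by norm_num)) (by norm_num), Finsupp.add_apply,
      Nat.factorization_mul (by norm_num) (by norm_num), Finsupp.add_apply,
      Nat.Prime.factorization_self (by norm_num : Nat.Prime 7), Nat.factorization_eq_zero_of_not_dvd mono_order.2,
      Nat.factorization_eq_zero_of_not_dvd (fun h => absurd ((Fact.out : Nat.Prime 7).dvd_of_dvd_pow h) (by norm_num))]
    norm_num
  rw [hfac, pow_one] at hBp
  haveI : Nontrivial B := Finite.one_lt_card_iff_nontrivial.1 (by rw [hBp]; norm_num)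
  obtain ⟨⟨b0, hb0B⟩, hb0⟩ := exists_ne (1 : B)
  have hob0 : orderOf b0 = 7 := by
    have h := orderOf_dvd_natCard (⟨b0, hb0B⟩ : B)
    rw [Subgroup.orderOf_mk, hBp] at h
    rcases (Nat.dvd_prime (by norm_num)).1 h with e | e
    · exact absurd (Subtype.ext (orderOf_eq_one_iff.1 e)) hb0
    · exact e
  set bC : C := ⟨b0, hLC (hB hb0B)⟩ with hbC
  have hobC : orderOf bC = 7 := by rw [hbC, Subgroup.orderOf_mk, hob0]
  have hπne : D.π bC ≠ 1 := fun e => by
    have h := orderOf_dvd_natCard (⟨bC, e⟩ : D.π.ker)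
    rw [← Subgroup.orderOf_coe, hobC, card_ker] at h
    norm_num at h
  have hπ7 : D.π bC ^ 7 = 1 := by rw [← map_pow, ← hobC, pow_orderOf_eq_one, map_one]
  obtain ⟨m0, hm0⟩ : D.π bC ∈ φ.range := hrange ▸ ⟨⟨b0, hB hb0B⟩, rfl⟩
  -- a preimage of order seven
  set m := m0 ^ 8 with hmdef
  have hmφ : φ m = D.π bC := by
    rw [hmdef, map_pow, hm0, show (8 : ℕ) = 7 + 1 from rfl, pow_succ, hπ7, one_mul]
  have hm7 : (m : Co0) ^ 7 = 1 := by
    have h1 : g0⁻¹ * ((m0 : Co0) ^ 7) * g0 ∈ Subgroup.center Co0 := by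
      refine (QuotientGroup.eq_one_iff _).1 ?_
      show mk1 _ = 1
      have : φ (m0 ^ 7) = 1 := by rw [map_pow, hm0, hπ7]
      rw [hφ, SubgroupClass.coe_pow] at this
      exact this
    have h2 : (m0 : Co0) ^ 7 ∈ Subgroup.center Co0 := by
      have := Subgroup.Normal.conj_mem inferInstance _ h1 g0
      rwa [show g0 * (g0⁻¹ * (m0 : Co0) ^ 7 * g0) * g0⁻¹ = (m0 : Co0) ^ 7 by group] at this
    rw [hmdef, SubgroupClass.coe_pow, ← pow_mul, show 8 * 7 = 7 * 8 from rfl, pow_mul]
    rcases center_cases h2 with e | e <;> rw [e]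
    · exact one_pow 8
    · rw [show (8 : ℕ) = 2 * 4 from rfl, pow_mul, pow_two, negAut_sq, one_pow]
  have hmord : orderOf (m : Co0) = 7 := orderOf_eq_prime hm7 fun e => hπne (by
    rw [← hmφ, show m = 1 from Subtype.ext e, map_one])
  have hfacm : (Nat.card monoGroup).factorization 7 = 1 := by
    rw [card_monoGroup, mono_order.1, Nat.factorization_mul (by norm_num) (by norm_num), Finsupp.add_apply,
      Nat.factorization_mul (by norm_num) (by norm_num), Finsupp.add_apply,
      Nat.Prime.factorization_self (by norm_num : Nat.Prime 7), Nat.factorization_eq_zero_of_not_dvd mono_order.2,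
      Nat.factorization_eq_zero_of_not_dvd (by norm_num : ¬ 7 ∣ 2)]
    norm_num
  have c1 : Nat.card (Subgroup.zpowers m) = 7 ^ (Nat.card monoGroup).factorization 7 := by
    rw [hfacm, pow_one, Nat.card_zpowers, ← Subgroup.orderOf_coe, hmord]
  have c2 : Nat.card (Subgroup.zpowers (⟨bh, bh_mem_mono⟩ : monoGroup)) =
      7 ^ (Nat.card monoGroup).factorization 7 := by
    rw [hfacm, pow_one, Nat.card_zpowers, Subgroup.orderOf_mk, orderOf_bh]
  obtain ⟨h, hh⟩ := MulAction.exists_smul_eq monoGroup (Sylow.ofCard _ c1) (Sylow.ofCard _ c2)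
  have hh' : (Subgroup.zpowers m).map (MulAut.conj h).toMonoidHom =
      Subgroup.zpowers ⟨bh, bh_mem_mono⟩ := by
    have := congrArg Sylow.toSubgroup hh
    simp only [Sylow.coe_subgroup_smul, Sylow.coe_ofCard] at this
    exact this
  rw [MonoidHom.map_zpowers] at hh'
  obtain ⟨j, hj⟩ : (⟨bh, bh_mem_mono⟩ : monoGroup) ∈ Subgroup.zpowers (h * m * h⁻¹) :=
    hh'.symm ▸ Subgroup.mem_zpowers _
  have hj' : (h : Co0) * (m : Co0) ^ j * (h : Co0)⁻¹ = bh := by
    rw [← conj_zpow]
    exact congrArg Subtype.val hj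
  set k := (h : Co0) * g0 with hk
  have hπ' : (transport D k).π (bC ^ j) = mk1 bh := by
    show mk1 k * D.π (bC ^ j) * (mk1 k)⁻¹ = _
    rw [map_zpow, ← hmφ, hφ, ← map_zpow, ← map_inv, ← map_mul, ← map_mul, ← hj']
    congr 1
    rw [show g0⁻¹ * (m : Co0) * g0 = g0⁻¹ * (m : Co0) * g0⁻¹⁻¹ by rw [inv_inv], conj_zpow, hk]
    group
  have hne : bC ^ j ≠ 1 := fun e => bh_ne (by
    rw [e, map_one] at hπ'
    rcases eq_or_neg_of_mk (a := 1) (b := bh) ((map_one mk1).trans hπ') with e' | e'
    · exact e'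
    · exfalso
      have h7 := bh_pow_seven
      rw [e', mul_one, show (7 : ℕ) = 2 * 3 + 1 from rfl, pow_succ, pow_mul, pow_two, negAut_sq, one_pow, one_mul] at h7
      exact negAut_ne_one h7)
  have hordj : orderOf (bC ^ j) = 7 := by
    refine orderOf_eq_prime ?_ hne
    rw [← zpow_natCast, ← zpow_mul, mul_comm, zpow_mul, zpow_natCast, ← hobC, pow_orderOf_eq_one, one_zpow]
  refine ⟨⟨transport D k, (bC ^ j : C), hs, hsz, ⟨g, hg⟩, (bC ^ j).2, ?_, ?_, ?_, ?_⟩, rfl, ?_⟩
  · have hmem : ((bC ^ j : C) : G) ∈ L := by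
      rw [SubgroupClass.coe_zpow]; exact zpow_mem (hB hb0B) j
    exact hLs hmem
  · exact (Subgroup.orderOf_coe _).trans hordj
  · exact hπ'
  · show pushCls D k s = _
    rw [pushCls_eq D k hv, hk, mul_smul, hg0]
    exact h.2
  · refine (Subgroup.eq_of_le_of_card_ge (Subgroup.zpowers_le.2 ?_) ?_).symm
    · exact (show ((bC ^ j : C) : G) ∈ B by rw [SubgroupClass.coe_zpow]; exact zpow_mem hb0B j)
    · rw [hBp, Nat.card_zpowers, Subgroup.orderOf_coe, hordj]

end CfsgLib.Monster.Seven
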