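import Mathlib.Data.List.Range
import Mathlib.Data.Int.Init

/-!
# Lists for the sublattice fixed by an element of order seven
-/

set_option autoImplicit false

namespace CfsgLib.Monster.Seven

/-- The cycle containing each position: three fixed points, then three cycles of length seven. -/
def orbIx : List ℕ := [3,3,3,3,4,3,4,4,4,0,5,5,5,5,3,4,5,1,2,5,4,5,4,3]

/-- One position in each cycle. -/
def orbRep : List ℕ := [9, 17, 18, 0, 4, 10]

/-- A vector of squared length 64 in each of the fourteen invariant classes. -/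
def repA : List (List ℤ) := [[8,0,0,0,0,0],
  [-6,0,0,0,0,2],
  [-5,-3,-3,1,1,-1],
  [-5,-3,3,1,-1,-1],
  [-5,3,-3,-1,1,-1],
  [-5,3,3,-1,-1,-1],
  [-4,-4,-2,0,-2,0],
  [-4,-2,-4,-2,0,0],
  [-4,-2,4,-2,0,0],
  [-4,4,-2,0,-2,0],
  [-2,-4,-4,0,0,-2],
  [-2,-4,4,0,0,-2],
  [-2,-2,0,-2,0,-2],
  [-2,0,-2,0,-2,-2]]

/-- A triangular basis of the fixed sublattice. -/
def baseA : List (List ℤ) := [[1,-1,-1,-1,-1,-3],
  [0,2,0,-2,0,-4],
  [0,0,2,0,-2,-4],
  [0,0,0,4,0,-4],
  [0,0,0,0,4,-4],
  [0,0,0,0,0,8]]

/-- Classes adding up to the class of each basis vector. -/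
def baseCert : List (List ℕ) := [[5,11],[1,6],[1,7],[6,12],[7,13],[0]]

/-- The code words fixed by the element. -/
def fixWords : List ℕ := [0,2702848,5538256,8241104,8536111,11238959,14074367,16777215]

/-- Two elements fixing the first class: permutations, signs, and their action on the classes. -/
def genPerm : List (List ℕ) := [[0,1,2,3,19,5,13,16,10,18,8,20,15,6,14,12,7,17,9,4,11,22,21,23],
  [10,11,21,12,1,13,23,0,2,18,20,22,6,7,16,14,4,9,17,8,3,15,5,19]]

/-- The signs of the two elements. -/
def genSign : List ℕ := [0,2702848]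

/-- The permutations of the classes induced by them. -/
def genAct : List (List ℕ) := [[0,12,4,3,2,5,10,7,8,11,6,9,1,13],
  [0,12,3,5,4,2,8,10,11,7,9,6,13,1]]

/-- The three classes spanning the first of the two totally singular subspaces. -/
def basisIx : List ℕ := [0,6,7]

/-- The class of each combination of the three. -/
def combIx : List ℕ := [0,0,6,9,7,8,10,11]

/-- A word for an involution inverting the element, conjugate to a sign change. -/
def invWord : List ℕ := [10,11,2,11,11,17,28,3,8,28,0,2,0,3,2,16,17,18,19,22,10,11,8,10,8,28,0,11,28,17,3,3,10,3,2]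

/-- A word conjugating the sign change to it. -/
def conjWord : List ℕ := [10,11,2,11,11,17,28,3,8,28,0,2,0,3,2]

/-- The sign change. -/
def signWord : List ℕ := [16,17,18,19,22]

end CfsgLib.Monster.Seven
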