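import Cfsg.Agent.Monster.Seven.Data
import Cfsg.Agent.Leech.Cross
import Cfsg.Agent.Golay.Centralisers
import Cfsg.Agent.Leech.ModTwoStab

/-!
# The classes fixed by a lattice automorphism of order seven of shape `7^3 1^3`
-/

set_option autoImplicit false
set_option maxRecDepth 100000
set_option maxHeartbeats 1000000

namespace CfsgLib.Monster.Seven

open Cfsg CfsgLib CfsgLib.Golay CfsgLib.Golay.Cert CfsgLib.Leech

attribute [local irreducible] shortVecs halfTable quarterTable codeFinset

/-! ### A decision procedure on coordinate lists -/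

/-- Bits read from a predicate. -/
def maskF (f : ℕ → Bool) : ℕ → ℕ
  | 0 => 0
  | n + 1 => maskF f n + if f n then 2 ^ n else 0

theorem maskF_spec (f : ℕ → Bool) : ∀ n, maskF f n < 2 ^ n ∧
    ∀ i, (maskF f n).testBit i = (decide (i < n) && f i) := by
  intro n
  induction n with
  | zero => simp [maskF]
  | succ n ih =>
    obtain ⟨hlt, hb⟩ := ih
    rw [maskF]
    cases hf : f n with
    | false =>
      simp only [Bool.false_eq_true, if_false, add_zero]
      refine ⟨hlt.trans (Nat.pow_lt_pow_right (by norm_num) (Nat.lt_succ_self n)), fun i => ?_⟩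
      rw [hb i]
      rcases Nat.lt_trichotomy i n with h | rfl | h
      · simp [h, Nat.lt_succ_of_lt h]
      · simp [hf]
      · simp [show ¬ i < n by omega, show ¬ i < n + 1 by omega]
    | true =>
      simp only [if_true]
      refine ⟨by rw [pow_succ]; omega, fun i => ?_⟩
      rw [add_comm]
      rcases Nat.lt_trichotomy i n with h | rfl | h
      · rw [Nat.testBit_two_pow_add_gt h, hb i]
        simp [h, Nat.lt_succ_of_lt h]
      · rw [Nat.testBit_two_pow_add_eq, hb i]
        simp [hf]
      · rw [Nat.testBit_lt_two_pow (lt_of_lt_of_le (show 2 ^ n + maskF f n < 2 ^ (n + 1) by rw [pow_succ]; omega)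
          (Nat.pow_le_pow_right (by norm_num) h))]
        simp [show ¬ i < n + 1 by omega]

/-- The mask of the second bits of a coordinate list. -/
def maskL (l : List ℤ) : ℕ := maskF (fun i => decide (l.getD i 0 / 2 % 2 = 1)) 24

/-- Membership in the lattice, on coordinate lists. -/
def memB (l : List ℤ) : Bool :=
  ((List.range 24).all fun i => decide ((l.getD i 0 - l.getD 23 0) % 2 = 0)) &&
    decide ((l.sum - 4 * l.getD 23 0) % 8 = 0) && decide (word (maskL l % 4096) = maskL l)

/-- The list of coordinates. -/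
def vL (x : GolayPt → ℤ) : List ℤ := (List.range 24).map fun i => x (pt i)

theorem vL_getD (x : GolayPt → ℤ) {i : ℕ} (hi : i < 24) : (vL x).getD i 0 = x (pt i) := by
  rw [vL, List.getD_eq_getElem _ _ (by simpa using hi), List.getElem_map, List.getElem_range]

theorem vL_getD_idx (x : GolayPt → ℤ) (p : GolayPt) : (vL x).getD (idx p) 0 = x p := by
  rw [vL_getD x (idx_lt p), pt_idx]

theorem pt_none : pt 23 = none := rfl

theorem sum_vL (x : GolayPt → ℤ) : ∑ i, x i = (vL x).sum := by
  let e : Fin 24 ≃ GolayPt :=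
    { toFun := fun i => pt i
      invFun := fun p => ⟨idx p, idx_lt p⟩
      left_inv := fun i => Fin.ext (idx_pt i i.2)
      right_inv := pt_idx }
  rw [← Equiv.sum_comp e x, ← Fin.sum_ofFn, List.ofFn_eq_map]
  show (List.map (fun i : Fin 24 => x (pt i)) (List.finRange 24)).sum = _
  rw [vL, ← List.map_coe_finRange_eq_range, List.map_map]
  rfl

theorem vec_maskL (x : GolayPt → ℤ) : vec (maskL (vL x)) = hi x := by
  funext p
  simp only [vec, maskL, (maskF_spec _ 24).2, idx_lt p, decide_true, Bool.true_and, decide_eq_true_eq]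
  rw [vL_getD_idx]
  by_cases h : x p / 2 % 2 = 1
  · rw [if_pos h]
    show (1 : ZMod 2) = ((x p / 2 : ℤ) : ZMod 2)
    rw [← Int.cast_one (R := ZMod 2), ZMod.intCast_eq_intCast_iff']
    omega
  · rw [if_neg h]
    show (0 : ZMod 2) = ((x p / 2 : ℤ) : ZMod 2)
    rw [← Int.cast_zero (R := ZMod 2), ZMod.intCast_eq_intCast_iff']
    omega

theorem memB_iff (x : GolayPt → ℤ) : memB (vL x) = true ↔ x ∈ leechLattice := by
  have h23 : (vL x).getD 23 0 = x none := by rw [vL_getD x (by norm_num), pt_none]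
  rw [memB, Bool.and_eq_true, Bool.and_eq_true, List.all_eq_true, decide_eq_true_eq,
    decide_eq_true_eq, ← sum_vL, h23, mem_leech_iff]
  simp only [List.mem_range, decide_eq_true_eq]
  constructor
  · rintro ⟨⟨hp, hs⟩, hw⟩
    refine ⟨fun p => ?_, Int.dvd_of_emod_eq_zero hs, ?_⟩
    · have := hp (idx p) (idx_lt p)
      rw [vL_getD_idx] at this
      exact Int.dvd_of_emod_eq_zero this
    · rw [← vec_maskL, ← hw]
      exact vec_word_mem _
  · intro h
    refine ⟨⟨fun i hi => ?_, Int.emod_eq_zero_of_dvd h.sum⟩, ?_⟩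
    · rw [vL_getD x hi]
      exact Int.emod_eq_zero_of_dvd (h.par _)
    · obtain ⟨c, hc, hcv⟩ := (mem_code_iff _).1 h.code
      have := vec_inj (maskF_spec _ 24).1 (word_lt c hc) ((vec_maskL x).trans hcv)
      rw [maskL] at *
      rw [this, word_mod c hc]

/-- Equality of classes, on coordinate lists. -/
def clsB (l m : List ℤ) : Bool :=
  ((List.range 24).all fun i => decide ((l.getD i 0 - m.getD i 0) % 2 = 0)) &&
    memB ((List.range 24).map fun i => (l.getD i 0 - m.getD i 0) / 2)

theorem clsB_iff (x y : GolayPt → ℤ) : clsB (vL x) (vL y) = true ↔ cls x = cls y := by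
  have hl : ((List.range 24).map fun i => ((vL x).getD i 0 - (vL y).getD i 0) / 2) =
      vL fun p => (x p - y p) / 2 := by
    refine List.map_congr_left fun i hi => ?_
    rw [vL_getD x (List.mem_range.1 hi), vL_getD y (List.mem_range.1 hi)]
  rw [clsB, Bool.and_eq_true, List.all_eq_true, hl, memB_iff, cls_eq_iff]
  simp only [List.mem_range, decide_eq_true_eq]
  constructor
  · rintro ⟨h2, hm⟩
    refine ⟨_, hm, funext fun p => ?_⟩
    have := h2 (idx p) (idx_lt p)
    rw [vL_getD_idx, vL_getD_idx] at this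
    simp only [Pi.sub_apply, Pi.smul_apply, nsmul_eq_mul, Nat.cast_ofNat]
    omega
  · rintro ⟨z, hz, he⟩
    have he' : ∀ p, x p - y p = 2 * z p := fun p => by
      have := congrFun he p
      simpa [Pi.sub_apply, Pi.smul_apply, nsmul_eq_mul] using this
    refine ⟨fun i hi => ?_, ?_⟩
    · rw [vL_getD x hi, vL_getD y hi, he']
      omega
    · rw [show (fun p => (x p - y p) / 2) = z from funext fun p => by rw [he']; omega]
      exact hz

/-! ### The element and the vectors it fixes -/

/-- The automorphism of order seven. -/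
noncomputable def bh : Co0 := permHom rho

/-- The vector constant on each cycle with given values. -/
def embA (a : List ℤ) : GolayPt → ℤ := fun p => a.getD (orbIx.getD (idx p) 0) 0

/-- Its coordinate list. -/
def embL (a : List ℤ) : List ℤ := (List.range 24).map fun i => a.getD (orbIx.getD i 0) 0

theorem vL_embA (a : List ℤ) : vL (embA a) = embL a :=
  List.map_congr_left fun i hi => by rw [embA, idx_pt i (List.mem_range.1 hi)]

theorem bh_pow_seven : bh ^ 7 = 1 := by
  rw [bh, ← map_pow, ← orderOf_rho, pow_orderOf_eq_one, map_one]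

theorem bh_apply (v : leechLattice) (p : GolayPt) :
    ((bh • v : leechLattice) : GolayPt → ℤ) ((rho : Equiv.Perm GolayPt) p) =
      (v : GolayPt → ℤ) p := by
  rw [bh, permHom_apply, Equiv.Perm.inv_def, Equiv.symm_apply_apply]

theorem orbit_path : ∀ i < 24, orbIx.getD i 0 < 6 ∧
    ∃ j < 7, (sevPow.getD j []).getD (orbRep.getD (orbIx.getD i 0) 0) 0 = i := by decide +kernel

theorem orbRep_lt : ∀ n < 6, orbRep.getD n 0 < 24 := by decide +kernel

/-- A fixed vector is constant on the cycles. -/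
theorem eq_embA {v : leechLattice} (h : bh • v = v) :
    (v : GolayPt → ℤ) = embA (orbRep.map fun r => (v : GolayPt → ℤ) (pt r)) := by
  have hstep : ∀ (j : ℕ) (p : GolayPt), (v : GolayPt → ℤ) ((rho ^ j : M24).1 p) = (v : GolayPt → ℤ) p := by
    intro j
    induction j with
    | zero => intro p; rfl
    | succ j ih =>
      intro p
      rw [pow_succ, Subgroup.coe_mul, Equiv.Perm.mul_apply, ih]
      conv_lhs => rw [← h]
      exact bh_apply v p
  funext p
  obtain ⟨h6, j, hj, hr⟩ := orbit_path (idx p) (idx_lt p)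
  have hr24 := orbRep_lt _ h6
  rw [embA, List.getD_eq_getElem _ _ (by simpa [orbRep] using h6), List.getElem_map,
    ← List.getD_eq_getElem _ 0]
  rw [← sevPow_ok j hj, ← toList_rho_pow] at hr
  rw [toList_getD _ hr24] at hr
  conv_lhs => rw [← pt_idx p, ← hr, pt_idx, hstep]

theorem embA_fixed (a : List ℤ) (h : embA a ∈ leechLattice) :
    bh • (⟨embA a, h⟩ : leechLattice) = ⟨embA a, h⟩ := by
  refine Subtype.ext (funext fun p => ?_)
  obtain ⟨q, rfl⟩ := (rho : Equiv.Perm GolayPt).surjective p
  rw [bh_apply]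
  show a.getD _ 0 = a.getD _ 0
  have : ∀ i < 24, orbIx.getD (sevR.getD i 0) 0 = orbIx.getD i 0 := by decide +kernel
  rw [← toList_getD_idx (rho : Equiv.Perm GolayPt) q, toList_rho, this _ (idx_lt q)]

/-- The classes as additive images. -/
def clsHom : (GolayPt → ℤ) →+ (GolayPt → ℤ) ⧸ twoLeech := QuotientAddGroup.mk' twoLeech

theorem clsHom_apply (x : GolayPt → ℤ) : clsHom x = cls x := rfl

theorem cls_two_smul (v : leechLattice) : cls (v : GolayPt → ℤ) + cls (v : GolayPt → ℤ) = 0 := by
  rw [← cls_add, ← cls_zero, cls_eq_iff]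
  exact ⟨v, v.2, by rw [sub_zero, two_nsmul]⟩

/-- An invariant class contains a fixed vector. -/
theorem fixed_of_class {v : leechLattice}
    (h : cls ((bh • v : leechLattice) : GolayPt → ℤ) = cls (v : GolayPt → ℤ)) :
    ∃ w : leechLattice, bh • w = w ∧ cls (w : GolayPt → ℤ) = cls (v : GolayPt → ℤ) := by
  refine ⟨∑ j ∈ Finset.range 7, bh ^ j • v, ?_, ?_⟩
  · rw [smul_sum', Finset.sum_congr rfl fun j _ => show bh • (bh ^ j • v) = bh ^ (j + 1) • v by
      rw [← mul_smul, ← pow_succ']]
    have h1 := Finset.sum_range_succ' (fun j => bh ^ j • v) 7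
    have h2 := Finset.sum_range_succ (fun j => bh ^ j • v) 7
    rw [h2, bh_pow_seven, pow_zero] at h1
    exact (add_right_cancel h1).symm
  · have hc : ∀ j, cls ((bh ^ j • v : leechLattice) : GolayPt → ℤ) = cls (v : GolayPt → ℤ) := by
      intro j
      induction j with
      | zero => rw [pow_zero, one_smul]
      | succ j ih => rw [pow_succ', mul_smul]; exact (cls_smul bh ih).trans h
    rw [← clsHom_apply, AddSubmonoidClass.coe_finset_sum, map_sum,
      Finset.sum_congr rfl fun j _ => (clsHom_apply _).trans (hc j), Finset.sum_const, Finset.card_range,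
      show (7 : ℕ) = 2 + 2 + 2 + 1 from rfl, add_nsmul, add_nsmul, add_nsmul, one_nsmul, two_nsmul,
      cls_two_smul, zero_add, zero_add, zero_add]

/-! ### The fourteen classes of squared length 64 -/

theorem repA_ok : ∀ j < 14, memB (embL (repA.getD j [])) = true ∧
    ((embL (repA.getD j [])).map fun a => a * a).sum = 64 := by decide +kernel

theorem rep_mem (j : Fin 14) : embA (repA.getD j []) ∈ leechLattice := by
  rw [← memB_iff, vL_embA]
  exact (repA_ok j j.2).1

/-- The chosen vector of each of the fourteen classes. -/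
def repV (j : Fin 14) : leechLattice := ⟨embA (repA.getD j []), rep_mem j⟩

theorem sqNorm_embA (a : List ℤ) : sqNorm (embA a) = ((embL a).map fun t => t * t).sum := by
  rw [← vL_embA, vL, List.map_map]
  show ∑ i, embA a i ^ 2 = _
  rw [sum_vL, vL]
  exact congrArg List.sum (List.map_congr_left fun i _ => by simp [pow_two])

theorem repV_norm (j : Fin 14) : sqNorm (repV j : GolayPt → ℤ) = 64 :=
  (sqNorm_embA _).trans (repA_ok j j.2).2

theorem repV_fixed (j : Fin 14) : bh • repV j = repV j := embA_fixed _ _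

theorem rep_distinct : ∀ i < 14, ∀ j < 14, i ≠ j →
    clsB (embL (repA.getD i [])) (embL (repA.getD j [])) = false := by decide +kernel

theorem repV_injective {i j : Fin 14}
    (h : cls (repV i : GolayPt → ℤ) = cls (repV j : GolayPt → ℤ)) : i = j := by
  by_contra hne
  have h1 := rep_distinct i i.2 j j.2 (fun e => hne (Fin.ext e))
  rw [← vL_embA, ← vL_embA, Bool.eq_false_iff] at h1
  exact h1 ((clsB_iff _ _).2 h)

/-- The range of the three fixed coordinates. -/
def range8 : List ℤ := (List.range 17).map fun n : ℕ => (n : ℤ) - 8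

/-- The range of the three cycle values. -/
def range3 : List ℤ := (List.range 7).map fun n : ℕ => (n : ℤ) - 3

theorem enum_ok : ∀ d ∈ range3, ∀ e ∈ range3, ∀ f ∈ range3, 7 * (d * d + e * e + f * f) ≤ 64 →
    ∀ a ∈ range8, (a - d) % 2 = 0 → a * a + 7 * (d * d + e * e + f * f) ≤ 64 →
    ∀ b ∈ range8, (b - d) % 2 = 0 → ∀ c ∈ range8,
      a * a + b * b + c * c + 7 * (d * d + e * e + f * f) = 64 → memB (embL [a, b, c, d, e, f]) = true →
      ∃ j < 14, clsB (embL [a, b, c, d, e, f]) (embL (repA.getD j [])) = true := by decide +kernel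

theorem norm_formula (a : List ℤ) : sqNorm (embA a) = a.getD 0 0 * a.getD 0 0 + a.getD 1 0 * a.getD 1 0 +
    a.getD 2 0 * a.getD 2 0 + 7 * (a.getD 3 0 * a.getD 3 0 + a.getD 4 0 * a.getD 4 0 + a.getD 5 0 * a.getD 5 0) := by
  rw [sqNorm_embA, embL, List.map_map]
  simp only [orbIx, List.range, List.range.loop, List.map_cons, List.map_nil, Function.comp_apply,
    List.sum_cons, List.sum_nil, List.getD_cons_zero, List.getD_cons_succ]
  ring

theorem mem_range8 {t : ℤ} (h : t * t ≤ 64) : t ∈ range8 := by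
  have h1 : -8 ≤ t := by nlinarith
  have h2 : t ≤ 8 := by nlinarith
  exact List.mem_map.2 ⟨(t + 8).toNat, List.mem_range.2 (show (t + 8).toNat < 17 by omega),
    show ((t + 8).toNat : ℤ) - 8 = t by omega⟩

theorem mem_range3 {t : ℤ} (h : 7 * (t * t) ≤ 64) : t ∈ range3 := by
  have h1 : -3 ≤ t := by nlinarith
  have h2 : t ≤ 3 := by nlinarith
  exact List.mem_map.2 ⟨(t + 3).toNat, List.mem_range.2 (show (t + 3).toNat < 7 by omega),
    show ((t + 3).toNat : ℤ) - 3 = t by omega⟩

/-- A vector of squared length 64 with invariant class lies in one of the fourteen classes. -/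
theorem fixed_class {v : leechLattice} (hn : sqNorm (v : GolayPt → ℤ) = 64)
    (h : cls ((bh • v : leechLattice) : GolayPt → ℤ) = cls (v : GolayPt → ℤ)) :
    ∃ j, cls (v : GolayPt → ℤ) = cls (repV j : GolayPt → ℤ) := by
  classical
  -- some member of the class is fixed
  let S := {w : leechLattice // sqNorm (w : GolayPt → ℤ) = 64 ∧ cls (w : GolayPt → ℤ) = cls (v : GolayPt → ℤ)}
  have hS : Nat.card S = 48 := by
    rw [← ncard_cross v.2 hn, ← Nat.card_coe_set_eq]
    refine Nat.card_congr
      { toFun := fun w => ⟨(w.1 : GolayPt → ℤ), ?_⟩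
        invFun := fun y => ⟨⟨y.1, ?_⟩, ?_⟩
        left_inv := fun w => rfl
        right_inv := fun y => rfl }
    · rw [cross_eq hn, Finset.mem_coe, Finset.mem_filter]
      exact ⟨(mem_shortVecs (Or.inr (Or.inr rfl)) _).mpr ⟨w.1.2, by rw [w.2.1]; norm_num⟩, w.2.2⟩
    · obtain ⟨y, hy⟩ := y
      rw [cross_eq hn, Finset.mem_coe, Finset.mem_filter] at hy
      exact ((mem_shortVecs (Or.inr (Or.inr rfl)) _).mp hy.1).1
    · obtain ⟨y, hy⟩ := y
      rw [cross_eq hn, Finset.mem_coe, Finset.mem_filter] at hy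
      exact ⟨by simpa using ((mem_shortVecs (Or.inr (Or.inr rfl)) _).mp hy.1).2, hy.2⟩
  haveI : Finite S := Nat.finite_of_card_ne_zero (by rw [hS]; norm_num)
  haveI : Fintype S := Fintype.ofFinite S
  have hmem : ∀ (g : Co0), g ∈ Subgroup.zpowers bh → ∀ w : S,
      sqNorm ((g • w.1 : leechLattice) : GolayPt → ℤ) = 64 ∧
        cls ((g • w.1 : leechLattice) : GolayPt → ℤ) = cls (v : GolayPt → ℤ) := by
    rintro g hg w
    refine ⟨(sqNorm_smul g _).trans w.2.1, (cls_smul g w.2.2).trans ?_⟩
    haveI : Fact (Nat.Prime 7) := ⟨by norm_num⟩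
    obtain ⟨n, rfl⟩ := mem_powers_iff_mem_zpowers.2 hg
    show cls ((bh ^ n • v : leechLattice) : GolayPt → ℤ) = _
    clear hg
    induction n with
    | zero => rw [pow_zero, one_smul]
    | succ n ih => rw [pow_succ', mul_smul]; exact (cls_smul bh ih).trans h
  let π : Equiv.Perm S :=
    { toFun := fun w => ⟨bh • w.1, hmem bh (Subgroup.mem_zpowers _) w⟩
      invFun := fun w => ⟨bh⁻¹ • w.1, hmem _ (inv_mem (Subgroup.mem_zpowers _)) w⟩
      left_inv := fun w => Subtype.ext (inv_smul_smul bh w.1)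
      right_inv := fun w => Subtype.ext (smul_inv_smul bh w.1) }
  have hπ : ∀ (n : ℕ) (w : S), ((π ^ n) w).1 = bh ^ n • w.1 := by
    intro n
    induction n with
    | zero => intro w; simp
    | succ n ih => intro w; rw [pow_succ', pow_succ', Equiv.Perm.mul_apply, mul_smul, ← ih]; rfl
  haveI : Fact (Nat.Prime 7) := ⟨by norm_num⟩
  obtain ⟨w, hw⟩ := Equiv.Perm.exists_fixed_point_of_prime (p := 7) (n := 1) (σ := π)
    (by rw [← Nat.card_eq_fintype_card, hS]; norm_num)
    (Equiv.ext fun w => Subtype.ext (by rw [pow_one, hπ, bh_pow_seven, one_smul]; rfl))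
  have hfix : bh • w.1 = w.1 := congrArg Subtype.val hw
  -- its six values
  have he := eq_embA hfix
  set a := orbRep.map fun r => (w.1 : GolayPt → ℤ) (pt r) with ha
  obtain ⟨x₀, x₁, x₂, x₃, x₄, x₅, hx⟩ : ∃ x₀ x₁ x₂ x₃ x₄ x₅, a = [x₀, x₁, x₂, x₃, x₄, x₅] :=
    ⟨_, _, _, _, _, _, rfl⟩
  have hN : x₀ * x₀ + x₁ * x₁ + x₂ * x₂ + 7 * (x₃ * x₃ + x₄ * x₄ + x₅ * x₅) = 64 := by
    have := norm_formula a
    rw [← he, w.2.1, hx] at this
    simpa using this.symm
  have hm : memB (embL [x₀, x₁, x₂, x₃, x₄, x₅]) = true := by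
    rw [← hx, ← vL_embA, memB_iff, ← he]; exact w.1.2
  have hp0 := (mem_leech w.1.2).par
  have hp : ∀ i, (w.1 : GolayPt → ℤ) i = embA a i := fun i => congrFun he i
  have hpar : (x₀ - x₃) % 2 = 0 ∧ (x₁ - x₃) % 2 = 0 := by
    have e0 := hp0 (pt 9); have e1 := hp0 (pt 17); have e3 := hp0 (pt 0)
    have q0 : (w.1 : GolayPt → ℤ) (pt 9) = x₀ := by
      rw [hp, hx, embA, idx_pt 9 (by norm_num)]; rfl
    have q1 : (w.1 : GolayPt → ℤ) (pt 17) = x₁ := by
      rw [hp, hx, embA, idx_pt 17 (by norm_num)]; rfl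
    have q3 : (w.1 : GolayPt → ℤ) (pt 0) = x₃ := by
      rw [hp, hx, embA, idx_pt 0 (by norm_num)]; rfl
    omega
  have n0 := mul_self_nonneg x₀; have n1 := mul_self_nonneg x₁; have n2 := mul_self_nonneg x₂
  have n3 := mul_self_nonneg x₃; have n4 := mul_self_nonneg x₄; have n5 := mul_self_nonneg x₅
  obtain ⟨j, hj, hjc⟩ := enum_ok x₃ (mem_range3 (by omega)) x₄ (mem_range3 (by omega)) x₅
    (mem_range3 (by omega)) (by omega) x₀ (mem_range8 (by omega)) hpar.1 (by omega) x₁
    (mem_range8 (by omega)) hpar.2 x₂ (mem_range8 (by omega)) hN hm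
  rw [← hx, ← vL_embA, ← vL_embA, clsB_iff, ← he, w.2.2] at hjc
  exact ⟨⟨j, hj⟩, hjc⟩

end CfsgLib.Monster.Seven
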