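import Cfsg.Agent.Monster.Seven.Config
import Cfsg.Agent.Monster.PrimeSection

/-!
# The fixed subgroup of the extraspecial group and the action of the centraliser on it
-/

set_option autoImplicit false
set_option maxRecDepth 100000
set_option maxHeartbeats 1000000
set_option linter.style.haveILetI false
set_option linter.unusedSectionVars false

namespace CfsgLib.Monster.Seven

open Cfsg CfsgLib CfsgLib.Golay CfsgLib.Leech CfsgLib.Extra2

attribute [local irreducible] shortVecs halfTable quarterTable codeFinset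

theorem seven_prime : Nat.Prime 7 := by norm_num

theorem bh_mem_C0 : bh ∈ C0 := mem_C0.2 rfl

theorem negAut_mem_C0 : negAut ∈ C0 := mem_C0.2 (Subgroup.mem_center_iff.1 negAut_central bh).symm

theorem φ0_eq_one {g : C0}
    (h : ∀ i : Fin 3, cls ((g.1 • baseW i : leechLattice) : GolayPt → ℤ) = cls (baseW i : GolayPt → ℤ)) :
    φ0 g = 1 := by
  refine Subtype.ext ?_
  show matW g = 1
  ext r i
  have e : (fun r => matW g r i) = Pi.single i 1 := clsW_injective (by
    rw [matW_col, h, clsW_single])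
  rw [congrFun e r, Matrix.one_apply, Pi.single_apply]

theorem φ0_bh : φ0 ⟨bh, bh_mem_C0⟩ = 1 := φ0_eq_one fun i => by
  show cls ((bh • repV _ : leechLattice) : GolayPt → ℤ) = _
  rw [repV_fixed]; rfl

theorem φ0_negAut : φ0 ⟨negAut, negAut_mem_C0⟩ = 1 := φ0_eq_one fun _ => cls_negAut _

theorem φ0_congr {g g' : C0} (h : mk1 (g : Co0) = mk1 (g' : Co0)) : φ0 g = φ0 g' := by
  rcases eq_or_neg_of_mk h with e | e
  · rw [Subtype.ext e]
  · rw [show g' = ⟨negAut, negAut_mem_C0⟩ * g from Subtype.ext e, map_mul, φ0_negAut, one_mul]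

theorem mk1_negAut : mk1 negAut = 1 := (QuotientGroup.eq_one_iff negAut).2 negAut_central

theorem dot_eight (x : GolayPt → ℤ) :
    dotInt x (eightAt none : GolayPt → ℤ) = 8 * x none := by
  simp [dotInt, eightAt_apply, mul_comm]

/-- The last coordinate of a combination. -/
def lastC (c : Fin 6 → ZMod 2) : ℤ := ∑ j : Fin 6, ((c j).val : ℤ) * (embL (baseA.getD j.1 [])).getD 23 0

theorem lastC_spec (c : Fin 6 → ZMod 2) : (fVec c : GolayPt → ℤ) none = lastC c := by
  rw [fVec, AddSubmonoidClass.coe_finset_sum, Finset.sum_apply]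
  refine Finset.sum_congr rfl fun j _ => ?_
  rw [AddSubmonoidClass.coe_nsmul, Pi.smul_apply, nsmul_eq_mul, ← vL_embA, vL_getD _ (by norm_num), pt_none]
  rfl

theorem two_ok : ∃ c : Fin 6 → ZMod 2, ∃ i : Fin 6,
    lastC c % 2 = 0 ∧ (embL (baseA.getD i.1 [])).getD 23 0 % 2 = 0 ∧ pairB c i = false := by
  decide +kernel

variable {G : Type*} [Group G] {z s : G} (c : Cfg z s)

/-- The element of order seven inside the centraliser of the involution. -/
def bC : Subgroup.centralizer ({z} : Set G) := ⟨c.β, c.hβz⟩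

theorem orderOf_bC : orderOf (bC c : G) = 7 := c.ord

theorem π_bC : c.D.π (bC c) = QuotientGroup.mk bh := c.πβ

theorem comm_iff [Finite G] {q : G} (hq : q ∈ c.D.Q) {v : leechLattice}
    (hv : c.D.cl q = cls (v : GolayPt → ℤ)) :
    c.β * q = q * c.β ↔ cls ((bh • v : leechLattice) : GolayPt → ℤ) = cls (v : GolayPt → ℤ) :=
  comm_iff_fixed c.D (π_bC c) (by rw [orderOf_bC]; decide) hq hv

/-- The centraliser of the element inside the centraliser of the involution. -/
abbrev Kc : Subgroup (Subgroup.centralizer ({z} : Set G)) :=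
  Subgroup.centralizer ({bC c} : Set (Subgroup.centralizer ({z} : Set G)))

theorem exists_cent (k : Kc c) : ∃ g ∈ C0, c.D.π k = mk1 g := by
  obtain ⟨g, hg⟩ := exists_lift c.D (k : Subgroup.centralizer ({z} : Set G))
  refine ⟨g, mem_C0.2 ?_, hg⟩
  have h := conj_of_mk (g := g) (k := 1) (by
    rw [pow_one]
    show QuotientGroup.mk g * QuotientGroup.mk bh = QuotientGroup.mk bh * QuotientGroup.mk g
    rw [← hg, ← π_bC c, ← map_mul, ← map_mul, Subgroup.mem_centralizer_singleton_iff.1 k.2])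
  rwa [pow_one] at h

/-- The action on the subspace. -/
noncomputable def φC : Kc c →* Matrix.SpecialLinearGroup (Fin 3) (ZMod 2) :=
  MonoidHom.mk' (fun k => φ0 ⟨(exists_cent c k).choose, (exists_cent c k).choose_spec.1⟩)
    fun k l => by
      rw [← map_mul]
      refine φ0_congr ?_
      show mk1 _ = mk1 (_ * _)
      rw [← (exists_cent c (k * l)).choose_spec.2, map_mul, ← (exists_cent c k).choose_spec.2,
        ← (exists_cent c l).choose_spec.2, Subgroup.coe_mul, map_mul]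

theorem φC_eq {k : Kc c} {g : C0} (h : c.D.π k = mk1 (g : Co0)) : φC c k = φ0 g := by
  refine φ0_congr ?_
  show mk1 (exists_cent c k).choose = _
  rw [← (exists_cent c k).choose_spec.2, h]

theorem φ0_bh_mul (j : ℤ) (g : C0) : φ0 ((⟨bh, bh_mem_C0⟩ : C0) ^ j * g) = φ0 g := by
  rw [map_mul, map_zpow, φ0_bh, one_zpow, one_mul]

theorem φC_surjective [Finite G] : Function.Surjective (φC c) := by
  intro p
  obtain ⟨g, rfl⟩ := φ0_surjective p
  obtain ⟨x, hx⟩ := c.D.surj (mk1 (g : Co0))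
  obtain ⟨x', -, hx', j, hj⟩ := adjust c.D seven_prime (by norm_num)
    (M := Subgroup.centralizer ({z} : Set G)) (b := bC c) (c := x) (bC c).2 x.2 (orderOf_bC c) (a := 1) (by
      rw [pow_one, hx, π_bC, mul_inv_eq_iff_eq_mul]
      show mk1 (g : Co0) * mk1 bh = mk1 bh * mk1 (g : Co0)
      rw [← map_mul, ← map_mul, mem_C0.1 g.2])
  rw [pow_one] at hx'
  refine ⟨⟨x', Subgroup.mem_centralizer_singleton_iff.2
    (Subtype.ext (mul_inv_eq_iff_eq_mul.1 hx'))⟩, ?_⟩
  rw [φC_eq c (g := (⟨bh, bh_mem_C0⟩ : C0) ^ j * g), φ0_bh_mul]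
  show c.D.π x' = _
  rw [hj, hx, π_bC, Subgroup.coe_mul, Subgroup.coe_zpow, map_mul, map_zpow]
  rfl

theorem φC_ker {k : Kc c} (h : φC c k = 1) :
    ∃ j : ℤ, ((k : Subgroup.centralizer ({z} : Set G)) : G) * (c.β ^ j)⁻¹ ∈ c.D.Q := by
  have hg := (exists_cent c k).choose_spec
  obtain ⟨n, -, e⟩ := φ0_ker (g := ⟨_, hg.1⟩) h
  refine ⟨n, ?_⟩
  have he : c.D.π k = c.D.π (bC c) ^ (n : ℤ) := by
    rw [hg.2, π_bC, zpow_natCast]
    rcases e with e | e
    · rw [show (exists_cent c k).choose = bh ^ n from e, map_pow]; rfl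
    · rw [show (exists_cent c k).choose = negAut * bh ^ n from e, map_mul, mk1_negAut, one_mul, map_pow]; rfl
  have := (c.D.mem_ker ((k : Subgroup.centralizer ({z} : Set G)) * (bC c ^ (n : ℤ))⁻¹)).1 (by
    rw [map_mul, map_inv, map_zpow, he, mul_inv_cancel])
  simpa [bC] using this

theorem φC_b (k : Kc c) (hk : c.D.π k ∈ Subgroup.zpowers (c.D.π (bC c))) : φC c k = 1 := by
  obtain ⟨j, hj⟩ := Subgroup.mem_zpowers_iff.1 hk
  rw [φC_eq c (g := (⟨bh, bh_mem_C0⟩ : C0) ^ j * 1), φ0_bh_mul, map_one]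
  rw [← hj, π_bC, mul_one, Subgroup.coe_zpow, map_zpow]
  rfl

/-- The fixed subgroup. -/
def R : Subgroup G := c.D.Q ⊓ Subgroup.centralizer ({c.β} : Set G)

theorem mem_R {q : G} : q ∈ R c ↔ q ∈ c.D.Q ∧ c.β * q = q * c.β := by
  simp [R, Subgroup.mem_inf, Subgroup.mem_centralizer_singleton_iff, eq_comm]

theorem z_mem_R : z ∈ R c :=
  (mem_R c).2 ⟨c.D.gen.mem, Subgroup.mem_centralizer_singleton_iff.1 c.hβz⟩

theorem s_mem_R : s ∈ R c := (mem_R c).2 ⟨c.hs, c.hβs⟩

variable [Finite G]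

theorem exists_R_vec {q : G} (hq : q ∈ R c) : ∃ d, c.D.cl q = fCls d := by
  obtain ⟨hqQ, hqb⟩ := (mem_R c).1 hq
  obtain ⟨v, hv⟩ := c.D.cl_rep q hqQ
  obtain ⟨d, hd⟩ := exists_comb ((comm_iff c hqQ hv).1 hqb)
  exact ⟨d, hv.trans hd.symm⟩

theorem exists_R_of_vec (d : Fin 6 → ZMod 2) :
    ∃ q ∈ R c, c.D.cl q = cls (fVec d : GolayPt → ℤ) := by
  obtain ⟨q, hq, hv⟩ := c.D.cl_surj (fVec d)
  exact ⟨q, (mem_R c).2 ⟨hq, (comm_iff c hq hv).2 (by rw [fVec_fixed])⟩, hv⟩

theorem exists_R_of_fixed {v : leechLattice} (h : bh • v = v) :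
    ∃ q ∈ R c, c.D.cl q = cls (v : GolayPt → ℤ) := by
  obtain ⟨q, hq, hv⟩ := c.D.cl_surj v
  exact ⟨q, (mem_R c).2 ⟨hq, (comm_iff c hq hv).2 (by rw [h])⟩, hv⟩

theorem card_R : Nat.card (R c) = 2 ^ 7 := by
  choose q hq hcl using exists_R_of_vec c
  let F : (Fin 6 → ZMod 2) × Bool → R c := fun x =>
    ⟨q x.1 * (if x.2 then z else 1), mul_mem (hq _) (by
      split; exacts [z_mem_R c, one_mem _])⟩
  have hQ : ∀ m, q m ∈ c.D.Q := fun m => ((mem_R c).1 (hq m)).1
  have hclF : ∀ m (e : Bool), c.D.cl (q m * (if e then z else 1)) = fCls m := by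
    intro m e
    cases e
    · simp [hcl, cls_fVec]
    · simp [cl_mul_z c.D (hQ m), hcl, cls_fVec]
  have hbij : Function.Bijective F := by
    constructor
    · rintro ⟨m, e⟩ ⟨m', e'⟩ h
      have h' : q m * (if e then z else 1) = q m' * (if e' then z else 1) := congrArg Subtype.val h
      obtain rfl : m = m' := fCls_injective (by rw [← hclF m e, ← hclF m' e', h'])
      have h'' := mul_left_cancel h'
      refine Prod.ext rfl ?_
      show e = e'
      cases e <;> cases e' <;> simp at h'' ⊢ <;>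
        first | exact c.D.gen.ne_one h'' | exact c.D.gen.ne_one h''.symm
    · rintro ⟨r, hr⟩
      obtain ⟨m, e⟩ := exists_R_vec c hr
      rcases eq_or_mul_of_cl_eq c.D (hQ m) ((mem_R c).1 hr).1 ((hcl m).trans ((cls_fVec m).trans e.symm))
        with e' | e'
      · exact ⟨(m, false), Subtype.ext (by simp [F, e'])⟩
      · exact ⟨(m, true), Subtype.ext (by simp [F, e'])⟩
  rw [← Nat.card_eq_of_bijective F hbij, Nat.card_prod, Nat.card_eq_fintype_card, Fintype.card_fun,
    Nat.card_eq_fintype_card, Fintype.card_bool, ZMod.card, Fintype.card_fin]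
  norm_num

theorem R_center {r : G} (hr : r ∈ R c) (h : ∀ x ∈ R c, r * x = x * r) : r = 1 ∨ r = z := by
  obtain ⟨d, e⟩ := exists_R_vec c hr
  have hrQ := ((mem_R c).1 hr).1
  have hd : d = 0 := by
    by_contra hne
    obtain ⟨i, hi⟩ := exists_odd hne
    obtain ⟨x, hx, ex⟩ := exists_R_of_fixed c (fV_fixed i)
    exact hi ((commute_iff c.D hrQ ((mem_R c).1 hx).1 (e.trans (cls_fVec d).symm) ex).1 (h x hx))
  subst hd
  exact (c.D.cl_zero r hrQ).1 (e.trans ((map_zero fCls).trans cls_zero.symm))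

/-- Two non-commuting elements of the fixed subgroup commuting with the conjugate involution. -/
theorem R_pair : ∃ a ∈ R c, ∃ b ∈ R c, a * s = s * a ∧ b * s = s * b ∧ a * b ≠ b * a := by
  obtain ⟨d, i, h1, h2, h3⟩ := two_ok
  obtain ⟨a, ha, ea⟩ := exists_R_of_vec c d
  obtain ⟨b, hb, eb⟩ := exists_R_of_fixed c (fV_fixed i)
  have he : ∀ x : ℤ, x % 2 = 0 → (16 : ℤ) ∣ 8 * x := fun x hx => by omega
  refine ⟨a, ha, b, hb, ?_, ?_, fun e => ?_⟩
  · refine (commute_iff c.D ((mem_R c).1 ha).1 c.hs ea c.cls_s).2 ?_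
    rw [dot_eight, lastC_spec]
    exact he _ h1
  · refine (commute_iff c.D ((mem_R c).1 hb).1 c.hs eb c.cls_s).2 ?_
    rw [dot_eight, ← pt_none, ← vL_getD (fV i : GolayPt → ℤ) (by norm_num : 23 < 24)]
    show (16 : ℤ) ∣ 8 * (vL (embA _)).getD 23 0
    rw [vL_embA]
    exact he _ h2
  · have := (pairB_spec d i).2 ((commute_iff c.D ((mem_R c).1 ha).1 ((mem_R c).1 hb).1 ea eb).1 e)
    rw [h3] at this
    exact Bool.noConfusion this

theorem φC_of_centralising {k : Kc c}
    (h : ∀ r ∈ R c, ((k : Subgroup.centralizer ({z} : Set G)) : G) * r *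
      (((k : Subgroup.centralizer ({z} : Set G)) : G))⁻¹ = r) : φC c k = 1 := by
  obtain ⟨g, hg, hk⟩ := exists_cent c k
  rw [φC_eq c (g := ⟨g, hg⟩) hk]
  refine φ0_eq_one fun i => ?_
  obtain ⟨r, hr, er⟩ := exists_R_of_fixed c (v := baseW i) (repV_fixed _)
  have h1 := c.D.act _ g hk r ((mem_R c).1 hr).1 _ er
  rw [h r hr, er] at h1
  exact h1.symm

end CfsgLib.Monster.Seven
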