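import Cfsg.Agent.Monster.Seven.FixedGroup

/-!
# Fusion of the central involution inside the centraliser of the element of order seven
-/

set_option autoImplicit false
set_option maxRecDepth 100000
set_option maxHeartbeats 1000000
set_option linter.style.haveILetI false
set_option linter.unusedSectionVars false

namespace CfsgLib.Monster.Seven

open Cfsg CfsgLib CfsgLib.Golay CfsgLib.Leech CfsgLib.Extra2

attribute [local irreducible] shortVecs halfTable quarterTable codeFinset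

variable {G : Type*} [Group G] {z s : G}

theorem mem_L_iff {x : G} :
    x ∈ Subgroup.centralizer ({z, s} : Set G) ↔ x * z = z * x ∧ x * s = s * x := by
  simp only [Subgroup.mem_centralizer_iff, Set.mem_insert_iff, Set.mem_singleton_iff,
    forall_eq_or_imp, forall_eq, eq_comm (a := z * x), eq_comm (a := s * x)]

variable [Finite G] (c : Cfg z s)

/-- An element of the normaliser lifts with the same exponent. -/
theorem exists_lift_pow {n : Co0} {k : ℕ} (hn : n * bh = bh ^ k * n) :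
    ∃ y : Subgroup.centralizer ({z} : Set G),
      (y : G) * c.β * (y : G)⁻¹ = c.β ^ k ∧ ∃ i : ℤ, c.D.π y = mk1 (bh ^ i * n) := by
  obtain ⟨x, hx⟩ := c.D.surj (mk1 n)
  obtain ⟨y, -, hy, j, hj⟩ := adjust c.D seven_prime (by norm_num)
    (M := Subgroup.centralizer ({z} : Set G)) (b := bC c) (c := x) (bC c).2 x.2 (orderOf_bC c) (a := k) (by
      rw [hx, π_bC, mul_inv_eq_iff_eq_mul]
      show mk1 n * mk1 bh = mk1 bh ^ k * mk1 n
      rw [← map_pow, ← map_mul, ← map_mul, hn])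
  refine ⟨y, hy, j, ?_⟩
  rw [hj, hx, π_bC, map_mul, map_zpow]
  rfl

/-- Each of the fourteen classes contains a conjugate under the normaliser. -/
theorem fusion_rep (j : Fin 14) : ∃ (y : Subgroup.centralizer ({z} : Set G)) (k : ℕ), ¬ 7 ∣ k ∧
    (y : G) * c.β * (y : G)⁻¹ = c.β ^ k ∧
    c.D.cl ((y : G) * s * (y : G)⁻¹) = cls (repV j : GolayPt → ℤ) := by
  obtain ⟨⟨n, hn⟩, rfl⟩ := classIx_surjective j
  obtain ⟨k, hk, hk0, hnk⟩ := mem_N0.1 hn
  obtain ⟨y, hy, i, hyi⟩ := exists_lift_pow c hnk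
  refine ⟨y, k, fun h => hk0 (Nat.eq_zero_of_dvd_of_lt h hk), hy, ?_⟩
  rw [c.D.act y _ hyi s c.hs _ c.cls_s, mul_smul]
  have h2 := cls_smul (bh ^ i) (classIx_spec ⟨n, hn⟩)
  rw [h2]
  have hfix : bh ^ i • repV (classIx ⟨n, hn⟩) = repV (classIx ⟨n, hn⟩) :=
    (zpow_mem (show bh ∈ MulAction.stabilizer Co0 (repV (classIx ⟨n, hn⟩)) from repV_fixed _) i :)
  rw [hfix]

include c in
theorem not_49_dvd : ¬ 7 ^ 2 ∣ Nat.card (Subgroup.centralizer ({z, s} : Set G)) := by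
  intro hd
  have hle : Subgroup.centralizer ({z, s} : Set G) ≤ Subgroup.centralizer ({z} : Set G) :=
    Subgroup.centralizer_le (by simp)
  set M := (Subgroup.centralizer ({z, s} : Set G)).subgroupOf (Subgroup.centralizer ({z} : Set G))
  obtain ⟨hs1, -⟩ := ne_of_cls c.D c.hs c.cls_s (Or.inr (Or.inr (sqNorm_eightAt none)))
  let I : Subgroup Spor.Co1 := monoGroup.map mk1
  have hI : ∀ x ∈ M, c.D.π x ∈ I := fun x hx => by
    obtain ⟨a, ha⟩ := exists_lift c.D x
    have hfix := (image_fix_iff c.D c.hs hs1 c.hsz c.cls_s a).1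
      ⟨x, mul_inv_eq_iff_eq_mul.2 (mem_L_iff.1 hx).2, ha⟩
    exact ⟨a, hfix, ha.symm⟩
  rw [← Nat.card_congr (Subgroup.subgroupOfEquivOfLe hle).toEquiv] at hd
  have h1 := hd.trans ((card_dvd_of_image c.D M hI).trans
    (Nat.mul_dvd_mul_left _ (Subgroup.card_map_dvd monoGroup _)))
  rw [card_monoGroup] at h1
  norm_num at h1

/-- An element centralising the element of order seven and moving `z` to `s`. -/
theorem exists_swap : ∃ x : G, x * c.β = c.β * x ∧ x * z * x⁻¹ = s := by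
  haveI : Fact (Nat.Prime 7) := ⟨seven_prime⟩
  obtain ⟨g, hg⟩ := c.hconj
  have hn : sqNorm (eightAt none : GolayPt → ℤ) = 64 := sqNorm_eightAt none
  -- an element exchanging the two involutions
  have ht := z_mem_conj c.D c.hs c.hsz hg
  have htz : g⁻¹ * z * g ≠ z := fun e => c.hsz (by
    rw [← hg]
    calc g * z * g⁻¹ = g * (g⁻¹ * z * g) * g⁻¹ := by rw [e]
      _ = z := by group)
  have htconj : g⁻¹ * z * (g⁻¹)⁻¹ = g⁻¹ * z * g := by rw [inv_inv]
  obtain ⟨w, hw, hwn⟩ := norm_of_conj c.D ht htz htconj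
  obtain ⟨k₀, hk₀⟩ := frame_transitive (v := w) (w := eightAt none) hwn hn
  obtain ⟨ht1, -⟩ := ne_of_cls c.D ht hw (Or.inr (Or.inr hwn))
  obtain ⟨e, -, he⟩ := conj_of_cls c.D ht c.hs ht1 htz hw c.cls_s (g := k₀) (by rw [hk₀])
  set g' := g * (e : G)⁻¹ with hg'
  have hez : (e : G)⁻¹ * z * (e : G) = z := by
    have h := z_comm (inv_mem e.2)
    rwa [inv_inv] at h
  have h1 : g' * z * g'⁻¹ = s := by
    rw [← hg]
    calc g' * z * g'⁻¹ = g * ((e : G)⁻¹ * z * (e : G)) * g⁻¹ := by rw [hg']; group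
      _ = g * z * g⁻¹ := by rw [hez]
  have h2 : g' * s * g'⁻¹ = z := by
    calc g' * s * g'⁻¹ = g * ((e : G)⁻¹ * ((e : G) * (g⁻¹ * z * g) * (e : G)⁻¹) * (e : G)) * g⁻¹ := by
          rw [he, hg']; group
      _ = z := by group
  -- correct it to normalise the cyclic group
  have hbL : c.β ∈ Subgroup.centralizer ({z, s} : Set G) :=
    mem_L_iff.2 ⟨Subgroup.mem_centralizer_singleton_iff.1 c.hβz, c.hβs⟩
  have hb1 : g' * c.β * g'⁻¹ ∈ Subgroup.centralizer ({z, s} : Set G) := by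
    refine mem_L_iff.2 ⟨?_, ?_⟩
    · calc g' * c.β * g'⁻¹ * z = g' * c.β * g'⁻¹ * (g' * s * g'⁻¹) := by rw [h2]
        _ = g' * (c.β * s) * g'⁻¹ := by group
        _ = g' * (s * c.β) * g'⁻¹ := by rw [c.hβs]
        _ = (g' * s * g'⁻¹) * (g' * c.β * g'⁻¹) := by group
        _ = z * (g' * c.β * g'⁻¹) := by rw [h2]
    · calc g' * c.β * g'⁻¹ * s = g' * c.β * g'⁻¹ * (g' * z * g'⁻¹) := by rw [h1]
        _ = g' * (c.β * z) * g'⁻¹ := by group
        _ = g' * (z * c.β) * g'⁻¹ := by rw [Subgroup.mem_centralizer_singleton_iff.1 c.hβz]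
        _ = (g' * z * g'⁻¹) * (g' * c.β * g'⁻¹) := by group
        _ = s * (g' * c.β * g'⁻¹) := by rw [h1]
  have ho : orderOf (⟨c.β, hbL⟩ : Subgroup.centralizer ({z, s} : Set G)) = 7 := by
    rw [← Subgroup.orderOf_coe]; exact c.ord
  have ho' : orderOf (⟨g' * c.β * g'⁻¹, hb1⟩ : Subgroup.centralizer ({z, s} : Set G)) = 7 := by
    rw [← Subgroup.orderOf_coe]
    exact (SemiconjBy.orderOf_eq (a := g') (x := c.β) (y := g' * c.β * g'⁻¹)
      (by unfold SemiconjBy; group)).symm.trans c.ord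
  obtain ⟨k, hk7, hk⟩ := PrimeNorm.exists_isConj_pow (not_49_dvd c) ho ho'
  obtain ⟨l, hl⟩ := isConj_iff.1 hk
  have hl' : (l : G) * c.β ^ k * (l : G)⁻¹ = g' * c.β * g'⁻¹ := congrArg Subtype.val hl
  obtain ⟨-, hls⟩ := mem_L_iff.1 l.2
  set g₂ := (l : G)⁻¹ * g' with hg₂
  have h3 : g₂ * c.β * g₂⁻¹ = c.β ^ k := by
    calc g₂ * c.β * g₂⁻¹ = (l : G)⁻¹ * (g' * c.β * g'⁻¹) * (l : G) := by rw [hg₂]; group
      _ = c.β ^ k := by rw [← hl']; group
  have h4 : g₂ * z * g₂⁻¹ = s := by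
    calc g₂ * z * g₂⁻¹ = (l : G)⁻¹ * (g' * z * g'⁻¹) * (l : G) := by rw [hg₂]; group
      _ = (l : G)⁻¹ * (s * (l : G)) := by rw [h1]; group
      _ = s := by rw [← hls]; group
  -- cancel the exponent inside the centraliser of the central involution
  obtain ⟨j, hj7, hj⟩ : ∃ j < 7, k * j % 7 = 1 := by
    obtain ⟨j, hj, hjk⟩ := Nat.exists_mul_mod_eq_one_of_coprime
      ((seven_prime.coprime_iff_not_dvd.2 hk7).symm) (by norm_num : 1 < 7)
    exact ⟨j, hj, hjk⟩
  obtain ⟨n, -, hn'⟩ := exists_conj_pow hj7 (fun e => by simp [e] at hj)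
  obtain ⟨y, hy, -⟩ := exists_lift_pow c hn'
  refine ⟨g₂ * (y : G), mul_inv_eq_iff_eq_mul.1 ?_, ?_⟩
  · calc g₂ * (y : G) * c.β * (g₂ * (y : G))⁻¹ = g₂ * ((y : G) * c.β * (y : G)⁻¹) * g₂⁻¹ := by group
      _ = c.β ^ (k * j) := by rw [hy, ← conj_pow, h3, ← pow_mul]
      _ = c.β := by
        conv_rhs => rw [← pow_one c.β]
        rw [pow_eq_pow_iff_modEq, c.ord]
        exact hj
  · calc g₂ * (y : G) * z * (g₂ * (y : G))⁻¹ = g₂ * ((y : G) * z * (y : G)⁻¹) * g₂⁻¹ := by group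
      _ = s := by rw [z_comm y.2, h4]

/-- Both elements over each of the fourteen classes are conjugate to `z` under the centraliser of
the element of order seven. -/
theorem fusion {r : G} (hr : r ∈ R c) {j : Fin 14} (hj : c.D.cl r = cls (repV j : GolayPt → ℤ)) :
    ∃ x : G, x * c.β = c.β * x ∧ x * z * x⁻¹ = r := by
  obtain ⟨h, hhβ, hhz⟩ := exists_swap c
  obtain ⟨y, k, hk, hy, hys⟩ := fusion_rep c j
  set a := (y : G) * s * (y : G)⁻¹ with ha
  have haQ : a ∈ c.D.Q := conj_mem c.D y.2 c.hs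
  set x := (y : G) * h * (y : G)⁻¹ with hx
  have hxk : x * c.β ^ k = c.β ^ k * x := by
    rw [hx, ← hy]
    calc (y : G) * h * (y : G)⁻¹ * ((y : G) * c.β * (y : G)⁻¹) = (y : G) * (h * c.β) * (y : G)⁻¹ := by group
      _ = (y : G) * (c.β * h) * (y : G)⁻¹ := by rw [hhβ]
      _ = _ := by group
  have hxβ : x * c.β = c.β * x := by
    obtain ⟨i, -, hi⟩ := Nat.exists_mul_mod_eq_one_of_coprime
      ((seven_prime.coprime_iff_not_dvd.2 hk).symm) (by norm_num : 1 < 7)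
    have e : (c.β ^ k) ^ i = c.β := by
      rw [← pow_mul]
      conv_rhs => rw [← pow_one c.β]
      rw [pow_eq_pow_iff_modEq, c.ord]
      exact hi
    rw [← e]
    exact ((show Commute x (c.β ^ k) from hxk).pow_right i).eq
  have hxz : x * z * x⁻¹ = a := by
    calc x * z * x⁻¹ = (y : G) * (h * ((y : G)⁻¹ * z * (y : G)) * h⁻¹) * (y : G)⁻¹ := by rw [hx]; group
      _ = a := by
        have h' := z_comm (inv_mem y.2)
        rw [inv_inv] at h'
        rw [h', hhz]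
  have haR : a ∈ R c := (mem_R c).2 ⟨haQ, ((comm_iff c haQ hys).2 (by rw [repV_fixed]))⟩
  obtain ⟨ha1, haz⟩ := ne_of_cls c.D haQ hys (Or.inr (Or.inr (repV_norm j)))
  rcases eq_or_mul_of_cl_eq c.D haQ ((mem_R c).1 hr).1 (hys.trans hj.symm) with e | e
  · exact ⟨x, hxβ, hxz.trans e.symm⟩
  · -- move by an element of the fixed subgroup
    obtain ⟨q, hq, hqa⟩ : ∃ q ∈ R c, a * q ≠ q * a := by
      by_contra hne
      push Not at hne
      rcases R_center c haR hne with e' | e'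
      exacts [ha1 e', haz e']
    obtain ⟨hqQ, hqβ⟩ := (mem_R c).1 hq
    refine ⟨q * x, ?_, ?_⟩
    · rw [mul_assoc, hxβ, ← mul_assoc, ← hqβ, mul_assoc]
    · calc q * x * z * (q * x)⁻¹ = q * (x * z * x⁻¹) * q⁻¹ := by group
        _ = r := by
          rw [hxz, e]
          rcases conj_eq c.D.gen hqQ haQ with e' | e'
          · exact absurd (mul_inv_eq_iff_eq_mul.1 e').symm hqa
          · exact e'.trans (c.D.gen.comm_z a haQ).symm.eq

/-- A conjugate of `z` other than itself in the fixed subgroup has one of the fourteen classes. -/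
theorem class_of_conj {r : G} (hr : r ∈ R c) (hc : IsConj z r) (hrz : r ≠ z) :
    ∃ j, c.D.cl r = cls (repV j : GolayPt → ℤ) := by
  obtain ⟨hrQ, hrβ⟩ := (mem_R c).1 hr
  obtain ⟨g, hg⟩ := c.hconj
  obtain ⟨v, hn, hv⟩ := (isConj_iff_norm c.D ⟨g, hg ▸ c.hs, hg ▸ c.hsz⟩ hrQ).1 ⟨hc, hrz⟩
  obtain ⟨j, hj⟩ := fixed_class hn ((comm_iff c hrQ hv).1 hrβ)
  exact ⟨j, hv.trans hj⟩

end CfsgLib.Monster.Seven
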