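import Cfsg.Agent.Monster.Seven.Section
import Cfsg.Agent.LargeExtra.SimpleCriterion
import Cfsg.Agent.S1258

/-!
# The section is simple and its preimage has the commutator group as layer
-/

set_option autoImplicit false
set_option maxRecDepth 100000
set_option maxHeartbeats 1000000
set_option linter.style.haveILetI false
set_option linter.unusedSectionVars false

namespace CfsgLib.Monster.Seven

open Cfsg CfsgLib CfsgLib.Golay CfsgLib.Leech CfsgLib.Extra2

attribute [local irreducible] shortVecs halfTable quarterTable codeFinset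

variable {G : Type*} [Group G] [Finite G] {z s : G} (c : Cfg z s)

/-- A normal subgroup of the section containing the involution contains the fixed subgroup. -/
theorem rb_mem_normal {N : Subgroup (HB c)} (hN : N.Normal) (hz : zb c ∈ N) (r : R c) : rb c r ∈ N := by
  let P : AddSubmonoid ((GolayPt → ℤ) ⧸ twoLeech) :=
    { carrier := {x | ∃ q : R c, c.D.cl q = x ∧ rb c q ∈ N}
      zero_mem' := ⟨1, cl_one c.D, by rw [map_one]; exact one_mem _⟩
      add_mem' := by
        rintro _ _ ⟨q, rfl, hq⟩ ⟨q', rfl, hq'⟩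
        exact ⟨q * q', c.D.cl_mul q ((mem_R c).1 q.2).1 q' ((mem_R c).1 q'.2).1,
          by rw [map_mul]; exact mul_mem hq hq'⟩ }
  have hP : ∀ j, cls (repV j : GolayPt → ℤ) ∈ P := fun j => by
    obtain ⟨q, hq, hv⟩ := exists_R_of_fixed c (repV_fixed j)
    obtain ⟨g, hg⟩ := isConj_iff.1 ((isConj_rb c (r := ⟨q, hq⟩)).2 (Or.inr ⟨j, hv⟩))
    exact ⟨⟨q, hq⟩, hv, hg ▸ hN.conj_mem _ hz g⟩
  obtain ⟨d, hd⟩ := exists_R_vec c r.2
  obtain ⟨q, hq, hqN⟩ := reps_span P hP d
  rcases eq_or_mul_of_cl_eq c.D ((mem_R c).1 q.2).1 ((mem_R c).1 r.2).1 (hq.trans hd.symm) with e | e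
  · rwa [Subtype.ext e]
  · rw [show r = q * ⟨z, z_mem_R c⟩ from Subtype.ext e, map_mul]
    exact mul_mem hqN hz

theorem centralizer_le_normal {N : Subgroup (HB c)} (hN : N.Normal) (hz : zb c ∈ N) :
    Subgroup.centralizer ({zb c} : Set (HB c)) ≤ N := by
  set M := N.subgroupOf (Subgroup.centralizer ({zb c} : Set (HB c))) with hM
  have hRM : RB c ≤ M := fun y hy => by
    obtain ⟨r, hr⟩ := (rR_bijective c).2 ⟨y, hy⟩
    have e : y = (rR c r : Subgroup.centralizer ({zb c} : Set (HB c))) := (congrArg Subtype.val hr).symm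
    rw [hM, Subgroup.mem_subgroupOf, e]
    exact rb_mem_normal c hN hz r
  haveI := sl32_simple
  rcases (Subgroup.Normal.map (inferInstance : M.Normal) (Φ c) (Φ_surjective c)).eq_bot_or_eq_top with h | h
  · exfalso
    rw [Subgroup.map_eq_bot_iff] at h
    have hinN : ∀ u : HB c, u * zb c = zb c * u → u ∈ N → ∃ r : R c, rb c r = u := fun u hu huN => by
      have hm : (⟨u, Subgroup.mem_centralizer_singleton_iff.2 hu⟩ :
          Subgroup.centralizer ({zb c} : Set (HB c))) ∈ RB c := h (Subgroup.mem_subgroupOf.2 huN)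
      obtain ⟨r, hr⟩ := (rR_bijective c).2 ⟨_, hm⟩
      exact ⟨r, congrArg (fun w : RB c => ((w : Subgroup.centralizer ({zb c} : Set (HB c))) : HB c)) hr⟩
    obtain ⟨x, hx⟩ := isConj_iff.1 ((isConj_rb c (r := ⟨s, s_mem_R c⟩)).2
      (Or.inr ⟨0, c.cls_s.trans cls_eight_eq⟩))
    set sb := rb c ⟨s, s_mem_R c⟩
    obtain ⟨a, ha, b, hb, has, hbs, hab⟩ := R_pair c
    have back : ∀ q : R c, (q : G) * s = s * q → ∃ r : R c, rb c r = x⁻¹ * rb c q * x := fun q hq => by
      have hqs : rb c q * sb = sb * rb c q := by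
        rw [← map_mul, ← map_mul]; exact congrArg (rb c) (Subtype.ext hq)
      refine hinN _ ?_ ?_
      · rw [← hx] at hqs
        calc x⁻¹ * rb c q * x * zb c = x⁻¹ * (rb c q * (x * zb c * x⁻¹)) * x := by group
          _ = x⁻¹ * ((x * zb c * x⁻¹) * rb c q) * x := by rw [hqs]
          _ = zb c * (x⁻¹ * rb c q * x) := by group
      · have := hN.conj_mem _ (rb_mem_normal c hN hz q) x⁻¹
        rwa [inv_inv] at this
    obtain ⟨a', ha'⟩ := back ⟨a, ha⟩ has
    obtain ⟨b', hb'⟩ := back ⟨b, hb⟩ hbs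
    have hcom : ∀ p q : R c, (p : G) * q * (p : G)⁻¹ * (q : G)⁻¹ = 1 ∨ (p : G) * q * (p : G)⁻¹ * (q : G)⁻¹ = z :=
      fun p q => c.D.gen.comm p ((mem_R c).1 p.2).1 q ((mem_R c).1 q.2).1
    have hz' : (⟨a, ha⟩ : R c) * ⟨b, hb⟩ * (⟨a, ha⟩ : R c)⁻¹ * (⟨b, hb⟩ : R c)⁻¹ = ⟨z, z_mem_R c⟩ :=
      Subtype.ext ((hcom ⟨a, ha⟩ ⟨b, hb⟩).resolve_left fun e =>
        hab (mul_inv_eq_iff_eq_mul.1 (mul_inv_eq_one.1 e)))
    have h1 := congrArg (rb c) hz'
    simp only [map_mul, map_inv] at h1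
    have h2 : rb c ⟨a, ha⟩ * rb c ⟨b, hb⟩ * (rb c ⟨a, ha⟩)⁻¹ * (rb c ⟨b, hb⟩)⁻¹ =
        x * rb c (a' * b' * a'⁻¹ * b'⁻¹) * x⁻¹ := by
      simp only [map_mul, map_inv, ha', hb']
      group
    rw [h2] at h1
    rcases hcom a' b' with e | e
    · rw [show a' * b' * a'⁻¹ * b'⁻¹ = 1 from Subtype.ext e, map_one, mul_one, mul_inv_cancel] at h1
      exact zb_ne_one c h1.symm
    · rw [show a' * b' * a'⁻¹ * b'⁻¹ = ⟨z, z_mem_R c⟩ from Subtype.ext e] at h1
      exact c.hsz (congrArg Subtype.val (rb_injective c (hx.symm.trans h1)))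
  · intro u hu
    have ht : M = ⊤ := by
      have := congrArg (Subgroup.comap (Φ c)) h
      rwa [Subgroup.comap_map_eq, Subgroup.comap_top, sup_eq_left.2 hRM] at this
    exact (Subgroup.mem_subgroupOf.1 (ht ▸ Subgroup.mem_top (⟨u, hu⟩ : Subgroup.centralizer ({zb c} : Set (HB c)))) : _)

theorem simple_HB : IsSimpleGroup (HB c) := by
  set Q := (RB c).map (Subgroup.centralizer ({zb c} : Set (HB c))).subtype with hQdef
  have hQ : IsExtraspecial 2 Q :=
    LargeExtra.isExtraspecial_equiv ((RB c).equivMapOfInjective _ (Subgroup.subtype_injective _))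
      (extraspecial_RB c)
  have hpre := LargeExtra.pre_of_fstar (orderOf_zb c) (Q := Q) (by rw [Fstar_RB c]) hQ
  obtain ⟨g, ⟨hg, hgR⟩, hgne⟩ := not_weakly_closed c
  exact LargeExtra.simple_of hpre (LargeExtra.large_of_conj hpre hQ ⟨_, hgR, rfl⟩ hgne)
    fun N hN hz => centralizer_le_normal c hN hz

theorem HB_noncomm : ¬ IsMulCommutative (HB c) := fun h => by
  obtain ⟨a, ha, b, hb, -, -, hab⟩ := R_pair c
  refine hab (congrArg Subtype.val (rb_injective c (a₁ := ⟨a, ha⟩ * ⟨b, hb⟩) (a₂ := ⟨b, hb⟩ * ⟨a, ha⟩) ?_))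
  rw [map_mul, map_mul]
  exact h.is_comm.comm _ _

theorem center_CB : Subgroup.center (CB c) = BB c := by
  refine le_antisymm ?_ fun x hx => Subgroup.mem_center_iff.2 fun y => Subtype.ext ?_
  · haveI := simple_HB c
    rcases (Subgroup.Normal.map (inferInstance : (Subgroup.center (CB c)).Normal) (qH c)
      (QuotientGroup.mk'_surjective _)).eq_bot_or_eq_top with h | h
    · rwa [Subgroup.map_eq_bot_iff, QuotientGroup.ker_mk'] at h
    · refine absurd ⟨⟨fun u v => ?_⟩⟩ (HB_noncomm c)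
      obtain ⟨a, ha, rfl⟩ : u ∈ (Subgroup.center (CB c)).map (qH c) := h ▸ Subgroup.mem_top u
      obtain ⟨b, rfl⟩ := QuotientGroup.mk'_surjective (BB c) v
      rw [← map_mul, ← map_mul, Subgroup.mem_center_iff.1 ha b]
  · exact (Subgroup.mem_centralizer_iff.1 y.2 x hx).symm

/-- Involutions of the centraliser of the element lie in its layer. -/
theorem mem_layer {x : CB c} (hx : x * x = 1) : x ∈ Cfsg.layer (CB c) := by
  haveI := simple_HB c
  let e : CB c ⧸ Subgroup.center (CB c) ≃* HB c := QuotientGroup.quotientMulEquivOfEq (center_CB c)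
  haveI hs : IsSimpleGroup (CB c ⧸ Subgroup.center (CB c)) := e.isSimpleGroup
  obtain ⟨hsup, hqs⟩ := Cfsg.Agent.S1258.result (X := CB c) hs fun h => HB_noncomm c
    ⟨⟨fun u v => e.symm.injective (by rw [map_mul, map_mul]; exact h.is_comm.comm _ _)⟩⟩
  obtain ⟨u, hu, b, hb, rfl⟩ := Subgroup.mem_sup_of_normal_right.1 (hsup ▸ Subgroup.mem_top x)
  have hb7 : b ^ 7 = 1 := by
    rw [center_CB c, Subgroup.mem_subgroupOf] at hb
    have := Subgroup.orderOf_dvd_natCard _ hb
    rw [Nat.card_zpowers, c.ord, Subgroup.orderOf_coe] at this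
    exact orderOf_dvd_iff_pow_eq_one.1 this
  have e7 : u * b = u ^ 7 := by
    calc u * b = (u * b) ^ 7 := by
          rw [show (7 : ℕ) = 2 * 3 + 1 from rfl, pow_succ, pow_mul, pow_two, hx, one_pow, one_mul]
      _ = u ^ 7 := by
          rw [(show Commute u b from Subgroup.mem_center_iff.1 hb u).mul_pow, hb7, mul_one]
  rw [e7]
  exact pow_mem (Comp.component_le_layer (L := commutator (CB c))
    ⟨(inferInstance : (commutator (CB c)).Normal).isSubnormal, hqs⟩ hu) 7

end CfsgLib.Monster.Seven
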