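import Cfsg.Agent.Monster.Seven.Section

/-!
# Conjugates of `z` in the fixed subgroup and the subgroup of the second central involution

Only `z`, `s` and their product are shared: the other classes are moved by a signed permutation fixing `s` to
classes not orthogonal to themselves, and the two subgroups meet in an abelian group.
-/

set_option autoImplicit false
set_option maxRecDepth 100000
set_option maxHeartbeats 1000000

namespace CfsgLib.Monster.Seven

open Cfsg CfsgLib CfsgLib.Golay CfsgLib.Golay.Cert CfsgLib.Leech CfsgLib.Extra2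

attribute [local irreducible] shortVecs halfTable quarterTable codeFinset

/-- A permutation of the code fixing the last point. -/
def swapPerm : List ℕ := [0,3,5,10,12,21,8,22,1,19,6,14,17,13,20,15,18,7,2,11,9,16,4,23]

/-- For each class the sign change that goes with the permutation: zero or a generator of the code. -/
def flipMask (j : Fin 14) : ℕ :=
  [0,1363324,0,0,340831,1363324,681662,0,0,681662,1363324,1363324,681662,5453296].getD j.1 0

/-- The inner product of two coordinate lists. -/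
def dotL (a b : List ℤ) : ℤ := ((List.range 24).map fun k => a.getD k 0 * b.getD k 0).sum

theorem swap_ok : genOK swapPerm = true ∧ ∀ j : Fin 14, (flipMask j = 0 ∨ flipMask j ∈ genMasks) ∧
    clsB (actL (flipMask j) swapPerm (embL (repA.getD 0 []))) (embL (repA.getD 0 [])) = true ∧
    (j.1 = 0 ∨ dotL (embL (repA.getD j.1 [])) (actL (flipMask j) swapPerm (embL (repA.getD j.1 []))) % 16 ≠ 0) := by
  decide +kernel

theorem dotInt_vL (x y : GolayPt → ℤ) : dotInt x y = dotL (vL x) (vL y) := by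
  rw [dotInt, sum_vL, dotL]
  refine congrArg List.sum (List.map_congr_left fun k hk => ?_)
  rw [vL_getD _ (List.mem_range.1 hk), vL_getD _ (List.mem_range.1 hk)]

/-- A signed permutation fixing the class of `s` for each class. -/
theorem exists_mono (j : Fin 14) : ∃ g : Co0,
    cls ((g • eightAt none : leechLattice) : GolayPt → ℤ) = cls (eightAt none : GolayPt → ℤ) ∧
      (j ≠ 0 → ¬ (16 : ℤ) ∣ dotInt (repV j : GolayPt → ℤ) ((g • repV j : leechLattice) : GolayPt → ℤ)) := by
  obtain ⟨hL, h⟩ := swap_ok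
  obtain ⟨hm, hfix, hdot⟩ := h j
  have hm' : vec (flipMask j) ∈ golayCode := by
    rcases hm with h | h
    · rw [h, show vec 0 = 0 from funext fun p => by simp [vec]]; exact zero_mem _
    · exact vec_genMasks_mem _ h
  refine ⟨monoAut (⟨vec (flipMask j), hm'⟩, ofList swapPerm), ?_, fun hj hd => ?_⟩
  · rw [cls_eight_eq, cls_smul _ cls_eight_eq, ← clsB_iff, vL_monoAut, toList_ofList hL]
    show clsB (actL _ _ (vL (embA _))) (vL (embA _)) = true
    rw [vL_embA]
    exact hfix
  · rw [dotInt_vL, vL_monoAut, toList_ofList hL] at hd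
    change (16 : ℤ) ∣ dotL (vL (embA _)) (actL _ _ (vL (embA _))) at hd
    rw [vL_embA] at hd
    exact hdot.resolve_left (fun e => hj (Fin.ext e)) (Int.emod_eq_zero_of_dvd hd)

variable {G : Type*} [Group G] [Finite G] {z s : G} (c : Cfg z s)

/-- An element carrying `z` to `s` does not bring the classes other than that of `s` into `Q`. -/
theorem not_mem_conj {r : G} (hr : r ∈ c.D.Q) {j : Fin 14} (hj0 : j ≠ 0)
    (hj : c.D.cl r = cls (repV j : GolayPt → ℤ)) {g : G} (hg : g * z * g⁻¹ = s) :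
    g⁻¹ * r * g ∉ c.D.Q := by
  intro hp
  have hs1 : s ≠ 1 := (ne_of_cls c.D c.hs c.cls_s (Or.inr (Or.inr (sqNorm_eightAt none)))).1
  obtain ⟨g₀, hfix, hodd⟩ := exists_mono j
  obtain ⟨l, hls, hlπ⟩ := (image_fix_iff c.D c.hs hs1 c.hsz c.cls_s g₀).2 hfix
  have hlz : (l : G) * z * (l : G)⁻¹ = z := z_comm l.2
  have hr' := conj_mem c.D l.2 hr
  have hcl := c.D.act l _ hlπ r hr _ hj
  -- the conjugate is brought into the subgroup as well
  have hmC : g⁻¹ * (l : G) * g ∈ Subgroup.centralizer ({z} : Set G) := by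
    refine mem_C_of_conj ?_
    calc g⁻¹ * (l : G) * g * z * (g⁻¹ * (l : G) * g)⁻¹ =
        g⁻¹ * ((l : G) * (g * z * g⁻¹) * (l : G)⁻¹) * g := by group
      _ = z := by rw [hg, hls, ← hg]; group
  have hp' : g⁻¹ * ((l : G) * r * (l : G)⁻¹) * g ∈ c.D.Q := by
    have := conj_mem c.D hmC hp
    rwa [show g⁻¹ * (l : G) * g * (g⁻¹ * r * g) * (g⁻¹ * (l : G) * g)⁻¹ =
      g⁻¹ * ((l : G) * r * (l : G)⁻¹) * g by group] at this
  have hcomm : r * ((l : G) * r * (l : G)⁻¹) = (l : G) * r * (l : G)⁻¹ * r := by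
    set r' := (l : G) * r * (l : G)⁻¹ with hr'def
    have e : r * r' * r⁻¹ * r'⁻¹ = g * ((g⁻¹ * r * g) * (g⁻¹ * r' * g) * (g⁻¹ * r * g)⁻¹ *
        (g⁻¹ * r' * g)⁻¹) * g⁻¹ := by group
    have h1 : r * r' * r⁻¹ * r'⁻¹ = 1 ∨ r * r' * r⁻¹ * r'⁻¹ = s := by
      rw [e]
      rcases c.D.gen.comm _ hp _ hp' with h | h <;> rw [h]
      · exact Or.inl (by group)
      · exact Or.inr hg
    have h2 : r * r' * r⁻¹ * r'⁻¹ = 1 := by
      rcases h1 with h | h
      · exact h
      · rcases c.D.gen.comm _ hr _ hr' with h' | h'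
        · exact h'
        · exact absurd (h.symm.trans h') c.hsz
    exact mul_inv_eq_iff_eq_mul.1 (mul_inv_eq_one.1 h2)
  have hdot := (commute_iff c.D hr hr' hj hcl).1 hcomm
  exact hodd hj0 hdot

/-- Apart from the two involutions and their product, no conjugate of `z` in the fixed subgroup is
carried into `Q` by an element of the section carrying `z` to `s`. -/
theorem not_mem_RB {r : R c} {j : Fin 14} (hj0 : j ≠ 0)
    (hj : c.D.cl r = cls (repV j : GolayPt → ℤ)) {n : HB c}
    (hn : n * zb c * n⁻¹ = rb c ⟨s, s_mem_R c⟩) (r' : R c) : rb c r' ≠ n⁻¹ * rb c r * n := by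
  intro h
  obtain ⟨x, rfl⟩ := QuotientGroup.mk'_surjective (BB c) n
  have hQ := ((mem_R c).1 r.2).1
  have hz : (x : G) * z * (x : G)⁻¹ = s := by
    have h1 : qH c (rC c ⟨s, s_mem_R c⟩) = qH c (x * rC c ⟨z, z_mem_R c⟩ * x⁻¹) := by
      rw [map_mul, map_mul, map_inv]; exact hn.symm
    have h2 := (qH_eq c).1 h1
    set b := ((rC c ⟨s, s_mem_R c⟩ : CB c) : G)⁻¹ * ((x * rC c ⟨z, z_mem_R c⟩ * x⁻¹ : CB c) : G) with hb
    have he : (x : G) * z * (x : G)⁻¹ = s * b := by rw [hb]; simp [rC, mul_assoc]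
    have hbs : b * s = s * b := Subgroup.mem_centralizer_iff.1 (rC c ⟨s, s_mem_R c⟩).2 b h2
    have hs2 : s * s = 1 := by
      obtain ⟨g, hg⟩ := c.hconj
      rw [← hg, conj_mul, c.D.gen.sq, mul_one, mul_inv_cancel]
    have hb2 : b * b = 1 := by
      have h5 : ((x : G) * z * (x : G)⁻¹) * ((x : G) * z * (x : G)⁻¹) = 1 := by
        rw [conj_mul, c.D.gen.sq, mul_one, mul_inv_cancel]
      rw [he, show s * b * (s * b) = s * (b * s) * b by group, hbs,
        show s * (s * b) * b = (s * s) * (b * b) by group, hs2, one_mul] at h5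
      exact h5
    rw [he, B_sq c h2 hb2, mul_one]
  have h1 : qH c (rC c r') = qH c (x⁻¹ * rC c r * x) := by
    rw [map_mul, map_mul, map_inv]; exact h
  have h2 := (qH_eq c).1 h1
  set b := ((rC c r' : CB c) : G)⁻¹ * ((x⁻¹ * rC c r * x : CB c) : G) with hb
  have he : (x : G)⁻¹ * r * x = r' * b := by rw [hb]; simp [rC, mul_assoc]
  have hbr : b * (r' : G) = (r' : G) * b := Subgroup.mem_centralizer_iff.1 (rC c r').2 b h2
  have hr2 : (r : G) * r = 1 := by
    obtain ⟨y, -, hy⟩ := fusion c r.2 hj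
    rw [← hy, conj_mul, c.D.gen.sq, mul_one, mul_inv_cancel]
  have h4 : ((r' : G) * b) * ((r' : G) * b) = 1 := by
    rw [← he, show (x : G)⁻¹ * r * x * ((x : G)⁻¹ * r * x) = (x : G)⁻¹ * ((r : G) * r) * x by group, hr2]
    group
  have h7 : b ^ 7 = 1 := by
    have := Subgroup.orderOf_dvd_natCard _ h2
    rw [Nat.card_zpowers, c.ord] at this
    exact orderOf_dvd_iff_pow_eq_one.1 this
  -- the square of the product is the square of the odd part times that of the even part
  have hb1 : b = 1 := by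
    have hcm : Commute (r' : G) b := hbr.symm
    rw [← pow_two, hcm.mul_pow, pow_two, pow_two] at h4
    have hbb : b * b = ((r' : G) * r')⁻¹ := eq_inv_of_mul_eq_one_right h4
    have hbQ : b * b ∈ c.D.Q := by
      rw [hbb]; exact inv_mem (mul_mem ((mem_R c).1 r'.2).1 ((mem_R c).1 r'.2).1)
    exact B_sq c h2 (B_Q c (mul_mem h2 h2) hbQ)
  rw [hb1, mul_one] at he
  exact not_mem_conj c hQ hj0 hj hz (he ▸ ((mem_R c).1 r'.2).1)

end CfsgLib.Monster.Seven
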