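import Cfsg.Agent.HeldType.FrameOfCount
import Cfsg.Agent.Monster.Seven.Simple
import Cfsg.Agent.Monster.Seven.Swap

/-!
# The centralizer of the involution in the section is the model
-/

set_option autoImplicit false
set_option maxRecDepth 100000
set_option maxHeartbeats 1000000
set_option linter.style.haveILetI false
set_option linter.unusedSectionVars false

namespace CfsgLib.Monster.Seven

open Cfsg CfsgLib CfsgLib.Golay CfsgLib.Leech CfsgLib.Extra2

attribute [local irreducible] shortVecs halfTable quarterTable codeFinset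

variable {G : Type*} [Group G] [Finite G] {z s : G} (c : Cfg z s)

theorem centralizer_RB_le :
    Subgroup.centralizer (RB c : Set (Subgroup.centralizer ({zb c} : Set (HB c)))) ≤ RB c := by
  intro y hy
  obtain ⟨k, rfl⟩ := fK_surjective c y
  rw [MonoidHom.mem_ker, Φ_fK]
  refine φC_of_centralising c fun r hr => ?_
  have h1 := (Subgroup.mem_centralizer_iff.1 hy) _ (rb_mem c ⟨r, hr⟩)
  have hrQ := ((mem_R c).1 hr).1
  set kk := ((k : Subgroup.centralizer ({z} : Set G)) : G) with hkk
  have h3 : (r * kk)⁻¹ * (kk * r) ∈ Subgroup.zpowers c.β := by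
    have h2 : rb c ⟨r, hr⟩ * (fK c k : HB c) = (fK c k : HB c) * rb c ⟨r, hr⟩ := congrArg Subtype.val h1
    have h2' : qH c (rC c ⟨r, hr⟩ * inK c k) = qH c (inK c k * rC c ⟨r, hr⟩) := by
      rw [map_mul, map_mul]; exact h2
    exact (qH_eq c).1 h2' 
  have h4 : (r * kk)⁻¹ * (kk * r) ∈ c.D.Q := by
    have hkC : kk⁻¹ ∈ Subgroup.centralizer ({z} : Set G) :=
      inv_mem (k : Subgroup.centralizer ({z} : Set G)).2
    rw [show (r * kk)⁻¹ * (kk * r) = (kk⁻¹ * r⁻¹ * kk⁻¹⁻¹) * r by group]
    exact mul_mem (conj_mem c.D hkC (inv_mem hrQ)) hrQ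
  have h5 := B_Q c h3 h4
  calc kk * r * kk⁻¹ = (r * kk) * ((r * kk)⁻¹ * (kk * r)) * kk⁻¹ := by group
    _ = r := by rw [h5]; group

/-- The section has a frame at the image of the involution. -/
theorem exists_frame : Nonempty (CfsgLib.HeldUniq.Frame (zb c)) := by
  haveI := simple_HB c
  refine CfsgLib.HeldFrame.exists_frame_of_count (zb c) (orderOf_zb c) (RB c) (extraspecial_RB c)
    (card_RB c) (centralizer_RB_le c) (QuotientGroup.quotientKerEquivOfSurjective (Φ c) (Φ_surjective c)) ?_
  have h := ncard_conj c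
  rw [← Nat.card_coe_set_eq] at h
  have h' := Nat.card_le_card_of_injective
    (fun x : {x : Subgroup.centralizer ({zb c} : Set (HB c)) | x ∈ RB c ∧ IsConj (zb c) (x : HB c)} =>
      (⟨x.1, x.2.2⟩ : {x : Subgroup.centralizer ({zb c} : Set (HB c)) // IsConj (zb c) (x : HB c)}))
    fun a b e => Subtype.ext (congrArg (fun v : {x : Subgroup.centralizer ({zb c} : Set (HB c)) //
      IsConj (zb c) (x : HB c)} => v.1) e)
  rw [h] at h'
  omega

end CfsgLib.Monster.Seven
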