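import Cfsg.Agent.Monster.Seven.Swap

/-!
# No element of the section carries a second conjugate of `zb` back into the extraspecial subgroup
-/

set_option autoImplicit false
set_option maxRecDepth 100000
set_option maxHeartbeats 1000000
set_option linter.unusedSectionVars false

namespace CfsgLib.Monster.Seven

open Cfsg CfsgLib CfsgLib.Golay CfsgLib.Leech CfsgLib.Extra2

attribute [local irreducible] shortVecs halfTable quarterTable codeFinset

variable {G : Type*} [Group G] [Finite G] {z s : G} (c : Cfg z s)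

/-- A conjugation in the section between involutions of the fixed subgroup holds in the group. -/
theorem lift_conj {x : CB c} {a b : R c} (ha : (a : G) * a = 1)
    (h : qH c x * rb c a * (qH c x)⁻¹ = rb c b) : (x : G) * a * (x : G)⁻¹ = b := by
  have h1 : qH c (rC c b) = qH c (x * rC c a * x⁻¹) := by
    rw [map_mul, map_mul, map_inv]; exact h.symm
  have h2 := (qH_eq c).1 h1
  set β := ((rC c b : CB c) : G)⁻¹ * ((x * rC c a * x⁻¹ : CB c) : G) with hβ
  have hcomm : Commute (b : G) β :=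
    (Subgroup.mem_centralizer_iff.1 (rC c b).2 β h2).symm
  have he : (x : G) * a * (x : G)⁻¹ = (b : G) * β := by rw [hβ]; simp [rC, mul_assoc]
  have h4 : ((b : G) * β) * ((b : G) * β) = 1 := by
    rw [← he, conj_mul, ha, mul_one, mul_inv_cancel]
  rw [← pow_two, hcomm.mul_pow, pow_two, pow_two] at h4
  have hQ : β * β ∈ c.D.Q := by
    rw [eq_inv_of_mul_eq_one_right h4]
    exact inv_mem (mul_mem ((mem_R c).1 b.2).1 ((mem_R c).1 b.2).1)
  rw [he, B_sq c h2 (B_Q c (mul_mem h2 h2) hQ), mul_one]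

theorem isConj_of_rb {r : R c} (h : IsConj (zb c) (rb c r)) : IsConj z (r : G) := by
  rcases (isConj_rb c).1 h with e | ⟨j, hj⟩
  · rw [e]
  · obtain ⟨x, -, hx⟩ := fusion c r.2 hj
    exact isConj_iff.2 ⟨x, hx⟩

theorem sq_of_rb {r : R c} (h : IsConj (zb c) (rb c r)) : (r : G) * r = 1 := by
  obtain ⟨g, hg⟩ := isConj_iff.1 (isConj_of_rb c h)
  rw [← hg, conj_mul, c.D.gen.sq, mul_one, mul_inv_cancel]

/-- An element of the normaliser of the cyclic group carries `s` to any other conjugate of `z` in the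
fixed subgroup. -/
theorem exists_to (r₀ : R c) (h : IsConj (zb c) (rb c r₀)) (hz : (r₀ : G) ≠ z) :
    ∃ (y : Subgroup.centralizer ({z} : Set G)) (k : ℕ),
      (y : G) * c.β * (y : G)⁻¹ = c.β ^ k ∧ (y : G) * s * (y : G)⁻¹ = r₀ := by
  obtain ⟨j, hj⟩ := ((isConj_rb c).1 h).resolve_left hz
  obtain ⟨y, k, hk, hy, hys⟩ := fusion_rep c j
  set a := (y : G) * s * (y : G)⁻¹ with ha
  have haQ : a ∈ c.D.Q := conj_mem c.D y.2 c.hs
  rcases eq_or_mul_of_cl_eq c.D haQ ((mem_R c).1 r₀.2).1 (hys.trans hj.symm) with e | e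
  · exact ⟨y, k, hy, e.symm⟩
  have haR : a ∈ R c := (mem_R c).2 ⟨haQ, (comm_iff c haQ hys).2 (by rw [repV_fixed])⟩
  obtain ⟨ha1, haz⟩ := ne_of_cls c.D haQ hys (Or.inr (Or.inr (repV_norm j)))
  obtain ⟨q, hq, hqa⟩ : ∃ q ∈ R c, a * q ≠ q * a := by
    by_contra hne
    push Not at hne
    rcases R_center c haR hne with e' | e'
    exacts [ha1 e', haz e']
  obtain ⟨hqQ, hqβ⟩ := (mem_R c).1 hq
  refine ⟨⟨q, c.D.le_C hqQ⟩ * y, k, ?_, ?_⟩
  · have hc : Commute q (c.β ^ k) := (show Commute q c.β from hqβ.symm).pow_right k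
    calc q * (y : G) * c.β * (q * (y : G))⁻¹ = q * ((y : G) * c.β * (y : G)⁻¹) * q⁻¹ := by group
      _ = c.β ^ k := by rw [hy, hc.eq, mul_inv_cancel_right]
  · calc q * (y : G) * s * (q * (y : G))⁻¹ = q * a * q⁻¹ := by rw [ha]; group
      _ = r₀ := by
        rw [e]
        rcases conj_eq c.D.gen hqQ haQ with e' | e'
        · exact absurd (mul_inv_eq_iff_eq_mul.1 e').symm hqa
        · exact e'.trans (c.D.gen.comm_z a haQ).symm.eq

/-- If `zb` goes to a second conjugate in the fixed subgroup, the conjugates in the fixed subgroup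
outside their join do not come back into it. -/
theorem not_mem_RB_all {r₀ r r' : R c} (h₀ : IsConj (zb c) (rb c r₀)) (hr : IsConj (zb c) (rb c r))
    (h₀z : (r₀ : G) ≠ z) (hrz : (r : G) ≠ z) (hr0 : (r : G) ≠ r₀) (hr0z : (r : G) ≠ (r₀ : G) * z)
    {n : HB c} (hn : n * zb c * n⁻¹ = rb c r₀) : rb c r' ≠ n⁻¹ * rb c r * n := by
  intro h
  obtain ⟨x, rfl⟩ := QuotientGroup.mk'_surjective (BB c) n
  have hx : (x : G) * z * (x : G)⁻¹ = r₀ :=
    lift_conj c (a := ⟨z, z_mem_R c⟩) c.D.gen.sq hn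
  have hx' : (x⁻¹ : CB c).1 * r * ((x⁻¹ : CB c).1)⁻¹ = r' :=
    lift_conj c (sq_of_rb c hr) (by rw [map_inv, inv_inv]; exact h.symm)
  obtain ⟨y, k, hy, hys⟩ := exists_to c r₀ h₀ h₀z
  have hyz : (y : G) * z * (y : G)⁻¹ = z := z_comm y.2
  obtain ⟨hrQ, hrβ⟩ := (mem_R c).1 r.2
  have hrk : Commute (c.β ^ k) (r : G) := (show Commute c.β (r : G) from hrβ).pow_left k
  set q := (y : G)⁻¹ * r * (y : G) with hqdef
  have hqQ : q ∈ c.D.Q := by
    have := conj_mem c.D (inv_mem y.2) hrQ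
    rwa [inv_inv] at this
  have hqR : q ∈ R c := (mem_R c).2 ⟨hqQ, by
    calc c.β * q = (y : G)⁻¹ * (((y : G) * c.β * (y : G)⁻¹) * r) * (y : G) := by rw [hqdef]; group
      _ = (y : G)⁻¹ * ((r : G) * ((y : G) * c.β * (y : G)⁻¹)) * (y : G) := by rw [hy, hrk.eq]
      _ = q * c.β := by rw [hqdef]; group⟩
  have hqz : IsConj z q :=
    (isConj_of_rb c hr).trans (isConj_iff.2 ⟨(y : G)⁻¹, by rw [inv_inv]⟩)
  have hback : (r : G) = (y : G) * q * (y : G)⁻¹ := by rw [hqdef]; group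
  have hqne : q ≠ z := fun e => hrz (by rw [hback, e, hyz])
  obtain ⟨j, hj⟩ := class_of_conj c hqR hqz hqne
  have hj0 : j ≠ 0 := by
    rintro rfl
    rcases eq_or_mul_of_cl_eq c.D c.hs hqQ ((c.cls_s.trans cls_eight_eq).trans hj.symm) with e | e
    · exact hr0 (by rw [hback, e, hys])
    · exact hr0z (by rw [hback, e, ← conj_mul, hys, hyz])
  refine not_mem_conj c hqQ hj0 hj (g := (y : G)⁻¹ * (x : G)) ?_ ?_
  · calc (y : G)⁻¹ * (x : G) * z * ((y : G)⁻¹ * (x : G))⁻¹
        = (y : G)⁻¹ * ((x : G) * z * (x : G)⁻¹) * (y : G) := by group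
      _ = s := by rw [hx, ← hys]; group
  · have e : ((y : G)⁻¹ * (x : G))⁻¹ * q * ((y : G)⁻¹ * (x : G)) = (r' : G) := by
      rw [← hx', InvMemClass.coe_inv, hqdef]; group
    rw [e]
    exact ((mem_R c).1 r'.2).1

end CfsgLib.Monster.Seven
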