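import Cfsg.Agent.Monster.Seven.HeldFrame
import Cfsg.Agent.Monster.Seven.SwapAll
import Cfsg.Agent.Trichotomy.BranchHe
import Cfsg.Agent.Trichotomy.PatternMirror

/-!
# The section is the Held group

Twenty-nine conjugates in the extraspecial subgroup fuse both axes, and the symmetry of the section
excludes the action found in `SL(5, 2)` on either side.
-/

set_option autoImplicit false
set_option maxRecDepth 100000
set_option maxHeartbeats 1000000
set_option linter.unusedSectionVars false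

namespace CfsgLib.Monster.Seven

open Cfsg CfsgLib CfsgLib.Golay CfsgLib.Leech CfsgLib.Extra2
open CfsgLib.HeldUniq CfsgLib.Trichotomy

attribute [local irreducible] shortVecs halfTable quarterTable codeFinset

/-- The codes of the extraspecial subgroup. -/
def qList : List Nat := Mdl.codesOf [(Mdl.mone, Mdl.mone)]

theorem axis_count : (qList.filter (isT patNone)).length ≠ 29 ∧ (qList.filter (isT patV)).length ≠ 29 ∧
    (qList.filter (isT patP)).length ≠ 29 := by decide +kernel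

theorem mone_mul : (Mdl.slPairs.all fun x =>
    Nat.beq (Mdl.mmul x.1 Mdl.mone) x.1 && Nat.beq (Mdl.mmul Mdl.mone x.2) x.2) = true := by
  decide +kernel

/-- A word on which the action of `SL(5, 2)` keeps an axis inside the extraspecial subgroup. -/
theorem badWord_chk : Mdl.evalW Mdl.dGens [0, 2, 1, 0, 2, 1] = 17926328 ∧
    Mdl.evalW (Mdl.actTable.getD 3 []) [0, 2, 1, 0, 2, 1] = 17926376 ∧
    (17926328 : Nat) ∈ qList ∧ (17926376 : Nat) ∈ qList ∧ Mdl.swX ∈ qList ∧
    17926328 ≠ Mdl.tN ∧ 17926328 ≠ Mdl.swX ∧ 17926328 ≠ Mdl.mulN Mdl.swX Mdl.tN ∧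
    Mdl.swX ≠ Mdl.tN ∧
    ∀ d0 d3 : Bool, isT (patBoth d0 d3) 17926328 = true ∧ isT (patBoth d0 d3) Mdl.swX = true := by
  decide +kernel

variable {G : Type*} [Group G] [Finite G] {z s : G} (c : Cfg z s) (F : Frame (zb c))

/-- The extraspecial subgroup in the coordinates of a frame. -/
theorem over_eq_RB : (F.over [(Mdl.mone, Mdl.mone)] Mdl.q_ok).subgroupOf
    (Subgroup.centralizer ({zb c} : Set (HB c))) = RB c := by
  set C := Subgroup.centralizer ({zb c} : Set (HB c))
  set W := (F.over [(Mdl.mone, Mdl.mone)] Mdl.q_ok).subgroupOf C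
  have hcard : Nat.card W = 128 :=
    (Nat.card_congr (Subgroup.subgroupOfEquivOfLe (F.over_le_cent _ _)).toEquiv).trans
      (F.card_over _ Mdl.q_ok)
  haveI : W.Normal := ⟨by
    rintro ⟨x, hx⟩ hxW ⟨g, hg⟩
    rw [Subgroup.mem_subgroupOf] at hxW ⊢
    obtain ⟨a, ha, rfl⟩ := hxW
    obtain ⟨n, hn, rfl⟩ := F.exists_code (Subgroup.mem_centralizer_singleton_iff.1 hg)
    obtain ⟨m, hm, hme⟩ := F.exists_code (Subgroup.mem_centralizer_singleton_iff.1 (inv_mem hg))
    have ham := Frame.mem_of_pair Mdl.q_ok ha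
    have hnm : Mdl.mulN n m = Mdl.one := by
      rw [← F.eq_one_iff (Mdl.mem_mulN hn hm), F.map_mul _ _ hn hm, hme, mul_inv_cancel]
    refine ⟨Mdl.mulN (Mdl.mulN n a) m, ?_, by
      rw [F.map_mul _ _ (Mdl.mem_mulN hn ham) hm, F.map_mul _ _ hn ham, hme]; rfl⟩
    simp only [List.mem_singleton, Prod.mk.injEq] at ha ⊢
    have h1 := (Mdl.mulN_fields n m).2.2
    rw [hnm] at h1
    have h2 := List.all_eq_true.1 mone_mul _ ((Mdl.mem_iff_pair n).1 hn)
    simp only [Bool.and_eq_true, Nat.beq_eq] at h2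
    rw [(Mdl.mulN_fields (Mdl.mulN n a) m).2.2.1, (Mdl.mulN_fields (Mdl.mulN n a) m).2.2.2,
      (Mdl.mulN_fields n a).2.2.1, (Mdl.mulN_fields n a).2.2.2, ha.1, ha.2, h2.1, h2.2,
      ← h1.1, ← h1.2]
    exact ⟨rfl, rfl⟩⟩
  have hle : W ≤ RB c := by
    haveI := sl32_simple
    haveI : (W.map (Φ c)).Normal := Subgroup.Normal.map inferInstance _ (Φ_surjective c)
    have hd : Nat.card (W.map (Φ c)) ∣ 128 := hcard ▸ Subgroup.card_map_dvd W (Φ c)
    rcases IsSimpleGroup.eq_bot_or_eq_top_of_normal _ (inferInstance : (W.map (Φ c)).Normal) with h | h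
    · exact (Subgroup.map_eq_bot_iff W).1 h
    · rw [h, Subgroup.card_top, card_sl32] at hd
      norm_num at hd
  exact Subgroup.eq_of_le_of_card_ge hle (by rw [hcard, card_RB]; norm_num)

theorem mem_qList {a : Nat} (ha : a ∈ qList) :
    Mdl.mem a = true ∧ (Mdl.gOf a, Mdl.hOf a) ∈ [(Mdl.mone, Mdl.mone)] := by
  have h := (Mdl.mem_codesOf (Mdl.subOk_lt Mdl.q_ok) a).1 ha
  exact ⟨Frame.mem_of_pair Mdl.q_ok h, h⟩

theorem exists_rb {a : Nat} (ha : a ∈ qList) : ∃ r : R c, rb c r = F.ev a := by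
  obtain ⟨hm, hp⟩ := mem_qList ha
  have hC : F.ev a ∈ Subgroup.centralizer ({zb c} : Set (HB c)) := (F.mem_iff _).2 ⟨a, hm, rfl⟩
  have h : (⟨F.ev a, hC⟩ : Subgroup.centralizer ({zb c} : Set (HB c))) ∈ RB c := by
    rw [← over_eq_RB c F, Subgroup.mem_subgroupOf]
    exact ⟨a, hp, rfl⟩
  obtain ⟨r, hr⟩ := (rR_bijective c).2 ⟨_, h⟩
  exact ⟨r, congrArg (fun w : RB c => ((w : Subgroup.centralizer ({zb c} : Set (HB c))) : HB c)) hr⟩

theorem count_axes {b : List Bool} (hb : IsPat F b) : (qList.filter (isT b)).length = 29 := by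
  have h := ncard_conj c
  rw [← Nat.card_coe_set_eq] at h
  rw [← h]
  set X : Set (HB c) := {g | g ∈ F.over [(Mdl.mone, Mdl.mone)] Mdl.q_ok ∧ IsConj (zb c) g}
  have hX : Nat.card X = (qList.filter (isT b)).length := by
    refine F.card_of_codes _ ((Mdl.nodup_codesOf (Mdl.subOk_lt Mdl.q_ok) (List.nodup_singleton _)).filter _)
      (fun a ha => (mem_qList (List.mem_filter.1 ha).1).1) fun g => ⟨?_, ?_⟩
    · rintro ⟨⟨a, ha, rfl⟩, hc⟩
      exact ⟨a, List.mem_filter.2 ⟨(Mdl.mem_codesOf (Mdl.subOk_lt Mdl.q_ok) a).2 ha,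
        (isT_iff F hb (Frame.mem_of_pair Mdl.q_ok ha)).2 hc⟩, rfl⟩
    · rintro ⟨a, ha, rfl⟩
      obtain ⟨ha, ht⟩ := List.mem_filter.1 ha
      exact ⟨⟨a, (mem_qList ha).2, rfl⟩, (isT_iff F hb (mem_qList ha).1).1 ht⟩
  rw [← hX]
  refine Nat.card_congr
    { toFun := fun x => ⟨⟨x.1, F.over_le_cent _ _ x.2.1⟩, ?_, x.2.2⟩
      invFun := fun x => ⟨(x.1 : HB c), ?_, x.2.2⟩
      left_inv := fun x => rfl
      right_inv := fun x => rfl }
  · exact (over_eq_RB c F).le x.2.1
  · exact (over_eq_RB c F).ge x.2.1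

theorem fused_first {d0 d3 : Bool} (hb : IsPat F (patBoth d0 d3)) : d0 = true := by
  cases d0 with
  | true => rfl
  | false =>
    exfalso
    obtain ⟨k, hk, n, hn, hsw, hact⟩ := exists_act_both hb
    have h := killed_chk d3
    simp only [Bool.and_eq_true] at h
    obtain ⟨⟨⟨-, h0⟩, h1⟩, h2⟩ := h
    have hk3 : k = 3 := by
      rcases (show k = 0 ∨ k = 1 ∨ k = 2 ∨ k = 3 by omega) with rfl | rfl | rfl | rfl
      exacts [(false_of_killed hb hk hn hact h0).elim, (false_of_killed hb hk hn hact h1).elim,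
        (false_of_killed hb hk hn hact h2).elim, rfl]
    subst hk3
    obtain ⟨ea, ea', ma, ma', mx, nt, nx, nxt, xt, hT⟩ := badWord_chk
    obtain ⟨ta, tx⟩ := hT false d3
    obtain ⟨-, -, e⟩ := conj_word hk hn hact (w := [0, 2, 1, 0, 2, 1]) (by decide)
    rw [ea, ea'] at e
    obtain ⟨r, hr⟩ := exists_rb c F ma
    obtain ⟨r', hr'⟩ := exists_rb c F ma'
    obtain ⟨r₀, hr₀⟩ := exists_rb c F mx
    have hM := (mem_qList ma).1
    have hX := (mem_qList mx).1
    have rbz : rb c ⟨z, z_mem_R c⟩ = F.ev Mdl.tN := F.ev_t.symm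
    refine not_mem_RB_all c (r₀ := r₀) (r := r) (r' := r') (n := n)
      (hr₀ ▸ (isT_iff F hb hX).1 tx) (hr ▸ (isT_iff F hb hM).1 ta) ?_ ?_ ?_ ?_ (hsw.1.trans hr₀.symm) ?_
    · intro he
      have := congrArg (rb c) (show r₀ = ⟨z, z_mem_R c⟩ from Subtype.ext he)
      rw [hr₀, rbz] at this
      exact xt (F.inj _ _ hX Mdl.mem_tN this)
    · intro he
      have := congrArg (rb c) (show r = ⟨z, z_mem_R c⟩ from Subtype.ext he)
      rw [hr, rbz] at this
      exact nt (F.inj _ _ hM Mdl.mem_tN this)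
    · intro he
      have := congrArg (rb c) (show r = r₀ from Subtype.ext he)
      rw [hr, hr₀] at this
      exact nx (F.inj _ _ hM hX this)
    · intro he
      have := congrArg (rb c) (show r = r₀ * ⟨z, z_mem_R c⟩ from Subtype.ext he)
      rw [map_mul, hr, hr₀, rbz, ← F.map_mul _ _ hX Mdl.mem_tN] at this
      exact nxt (F.inj _ _ hM (Mdl.mem_mulN hX Mdl.mem_tN) this)
    · rw [inv_eq_of_mul_eq_one_right hn, hr, hr']
      exact e.symm

/-- The section is the Held group. -/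
theorem isoHe : Spor.IsoHe (HB c) := by
  haveI := simple_HB c
  obtain ⟨F⟩ := exists_frame c
  obtain ⟨d0, d3, h | h | h | h⟩ := patOf_cases F
  · exact absurd (count_axes c F h) axis_count.1
  · exact absurd (count_axes c F h) axis_count.2.1
  · exact absurd (count_axes c F h) axis_count.2.2
  obtain rfl := fused_first c F h
  have hm := h.mirror Mdl.one Mdl.mem_one
  rw [(mirPat_vals true d3).2.2.2] at hm
  obtain rfl := fused_first c _ hm
  rcases he_or_m24 F h with ⟨-, he⟩ | ⟨hf, -⟩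
  · exact he
  · exact Bool.noConfusion hf

end CfsgLib.Monster.Seven
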