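import Cfsg.Agent.CoFive.Data
import Cfsg.Agent.Monster.Seven.Data
import Cfsg.Agent.Golay.MathieuFusion
import Cfsg.Agent.Golay.Centralisers
import Cfsg.Agent.Leech.ModTwoStab
import Cfsg.Agent.Leech.Frame

/-!
# An involution conjugate to a sign change inverting the element of order seven

The word evaluation on packed coordinates follows the development for the element of order five.
-/

set_option autoImplicit false
set_option maxRecDepth 100000
set_option maxHeartbeats 1000000

namespace CfsgLib.Monster.Seven.Word

open Cfsg CfsgLib CfsgLib.Golay CfsgLib.Golay.SylowCert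
open CfsgLib.CoFive (permLists srcLists signMasks)

attribute [local irreducible] CfsgLib.Leech.shortVecs CfsgLib.Leech.halfTable CfsgLib.Leech.quarterTable

/-! ### Coordinate lists -/

/-- The coordinates of a vector. -/
def toL (x : GolayPt → ℤ) : List ℤ := (List.range 24).map fun i => x (pt i)

theorem toL_getD (x : GolayPt → ℤ) {i : ℕ} (hi : i < 24) : (toL x).getD i 0 = x (pt i) := by
  rw [List.getD_eq_getElem _ _ (by simpa [toL] using hi)]
  simp [toL]

theorem toL_getD_idx (x : GolayPt → ℤ) (p : GolayPt) : (toL x).getD (idx p) 0 = x p := by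
  rw [toL_getD x (idx_lt p), pt_idx]

theorem toL_injective : Function.Injective toL := fun x y h => funext fun p => by
  rw [← toL_getD_idx x p, h, toL_getD_idx]

/-- Eight times a unit vector. -/
def unitL (q : ℕ) : List ℤ := (List.range 24).map fun i => if i = q then 8 else 0

theorem toL_eightAt (q : GolayPt) : toL (Leech.eightAt q : GolayPt → ℤ) = unitL (idx q) := by
  refine List.map_congr_left fun i hi => ?_
  rw [Leech.eightAt_apply]
  refine if_congr ⟨fun h => ?_, fun h => ?_⟩ rfl rfl
  · rw [← h, idx_pt i (List.mem_range.1 hi)]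
  · rw [h, pt_idx]

/-- A field of a packed vector. -/
def fld (n j : ℕ) : ℕ := Nat.land (Nat.shiftRight n (Nat.mul 8 j)) 255

/-- Pack values. -/
noncomputable def packF {α : Type} (f : α → ℕ) (l : List α) : ℕ :=
  List.rec (motive := fun _ => ℕ) 0 (fun a _ r => Nat.lor (f a) (Nat.shiftLeft r 8)) l

/-- An entry of a list. -/
noncomputable def nthD {α : Type} (l : List α) (d : α) (i : ℕ) : α :=
  List.rec (motive := fun _ => ℕ → α) (fun _ => d)
    (fun a _ r j => Bool.rec (r (Nat.sub j 1)) a (Nat.beq j 0)) l i

theorem nthD_eq {α : Type} : ∀ (l : List α) (d : α) (i : ℕ), nthD l d i = l.getD i d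
  | [], _, _ => rfl
  | a :: l, d, i => by
    show Bool.rec (motive := fun _ => α) (nthD l d (Nat.sub i 1)) a (Nat.beq i 0) = _
    rcases i with _ | i
    · rfl
    · show nthD l d i = _
      rw [nthD_eq l d i, List.getD_cons_succ]

theorem fld_packF {α : Type} (f : α → ℕ) : ∀ (l : List α), (∀ a ∈ l, f a < 256) → ∀ j < l.length,
    fld (packF f l) j = (l.map f).getD j 0
  | [], _, j, hj => absurd hj (Nat.not_lt_zero j)
  | a :: l, h, j, hj => by
    have ha : f a < 256 := h a (List.mem_cons.2 (Or.inl rfl))
    show (f a ||| packF f l <<< 8) >>> (8 * j) &&& 255 = _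
    rw [Nat.lor_comm, ← Nat.shiftLeft_add_eq_or_of_lt (show f a < 2 ^ 8 by norm_num; omega)]
    rcases j with _ | j
    · rw [Nat.mul_zero, Nat.shiftRight_zero, show (255 : ℕ) = 2 ^ 8 - 1 by norm_num,
        Nat.and_two_pow_sub_one_eq_mod, List.map_cons, List.getD_cons_zero, Nat.shiftLeft_eq]
      norm_num
      omega
    · rw [show 8 * (j + 1) = 8 + 8 * j by ring, Nat.shiftRight_add, Nat.shiftRight_eq_div_pow _ 8, Nat.shiftLeft_eq,
        show (packF f l * 2 ^ 8 + f a) / 2 ^ 8 = packF f l by norm_num; omega, List.map_cons, List.getD_cons_succ]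
      exact fld_packF f l (fun b hb => h b (List.mem_cons.2 (Or.inr hb))) j (by simpa using hj)

theorem packF_map {α : Type} (f : α → ℕ) : ∀ l : List α, packF f l = packF id (l.map f)
  | [] => rfl
  | a :: l => by
    show f a ||| packF f l <<< 8 = f a ||| packF id (l.map f) <<< 8
    rw [packF_map f l]

/-- An offset coordinate. -/
def off (a : ℤ) : ℕ := (a + 128).toNat

/-- Packed coordinates. -/
noncomputable def encL (l : List ℤ) : ℕ := packF off l

/-- Small entries. -/
def Small (l : List ℤ) : Prop := l.length = 24 ∧ ∀ a ∈ l, -8 ≤ a ∧ a ≤ 8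

theorem fld_encL {l : List ℤ} (hl : Small l) {j : ℕ} (hj : j < 24) : fld (encL l) j = off (l.getD j 0) := by
  rw [encL, fld_packF off l (fun a ha => by have := hl.2 a ha; simp only [off]; omega) j (hl.1 ▸ hj),
    List.getD_eq_getElem _ _ (by simpa [hl.1] using hj), List.getElem_map,
    List.getD_eq_getElem _ _ (by simpa [hl.1] using hj)]

theorem encL_inj {l m : List ℤ} (hl : Small l) (hm : Small m) (h : encL l = encL m) : l = m := by
  refine List.ext_getElem (hl.1.trans hm.1.symm) fun i h1 h2 => ?_
  have hi : i < 24 := hl.1 ▸ h1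
  have e := fld_encL hl hi
  rw [h, fld_encL hm hi, List.getD_eq_getElem _ _ h1, List.getD_eq_getElem _ _ h2] at e
  have b1 := hl.2 _ (List.getElem_mem h1); have b2 := hm.2 _ (List.getElem_mem h2)
  simp only [off] at e
  omega

theorem small_toL {v : leechLattice} (h : sqNorm (v : GolayPt → ℤ) = 64) : Small (toL (v : GolayPt → ℤ)) := by
  refine ⟨by simp [toL], fun a ha => ?_⟩
  obtain ⟨i, -, rfl⟩ := List.mem_map.1 ha
  have h1 : (v : GolayPt → ℤ) (pt i) ^ 2 ≤ 64 := h ▸
    Finset.single_le_sum (f := fun p => (v : GolayPt → ℤ) p ^ 2) (fun p _ => sq_nonneg _) (Finset.mem_univ (pt i))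
  constructor <;> nlinarith

theorem norm_unit (g : Co0) (q : GolayPt) :
    sqNorm ((g • Leech.eightAt q : leechLattice) : GolayPt → ℤ) = 64 :=
  (Leech.sqNorm_smul _ _).trans (Leech.sqNorm_eightAt q)

/-- Pass an evaluated number on. -/
def forceN {α : Type} (n : ℕ) (f : ℕ → α) : α :=
  match n with
  | 0 => f 0
  | m + 1 => f (m + 1)

theorem forceN_eq {α : Type} (n : ℕ) (f : ℕ → α) : forceN n f = f n := by cases n <;> rfl

/-! ### Letters -/

/-- The sum over a tetrad. -/
def tetL (l : List ℤ) (a : ℕ) : ℤ :=
  l.getD (Leech.sextetList.getD (4 * a + 0) 0) 0 + l.getD (Leech.sextetList.getD (4 * a + 1) 0) 0 +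
    l.getD (Leech.sextetList.getD (4 * a + 2) 0) 0 + l.getD (Leech.sextetList.getD (4 * a + 3) 0) 0

/-- The action of a letter on coordinates. -/
def appL (k : ℕ) (l : List ℤ) : List ℤ :=
  if k < 16 then (srcLists.getD k []).map fun j => l.getD j 0
  else if k < 28 then (List.range 24).map fun i =>
    if (signMasks.getD (k - 16) 0).testBit i then -l.getD i 0 else l.getD i 0
  else (List.range 24).map fun i =>
    (if Leech.tetradList.getD i 0 = 0 then -1 else 1) * (l.getD i 0 - tetL l (Leech.tetradList.getD i 0) / 2)

theorem perm_ok : ∀ k < 16, Good (permLists.getD k []) ∧ (permLists.getD k []).length = 24 ∧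
    PreservesCode (permLists.getD k []) ∧ srcLists.getD k [] = invL (permLists.getD k []) := by
  unfold PreservesCode Good; decide +kernel

theorem sign_ok : ∀ k < 12, signMasks.getD k 0 = word (2 ^ k) := by decide +kernel

theorem tet_ok : ∀ i < 24, (Leech.tetOf (pt i)).val = Leech.tetradList.getD i 0 := by decide +kernel

theorem exists_letter (k : ℕ) : ∃ g : Co0, ∀ v : leechLattice,
    k < 29 → toL ((g • v : leechLattice) : GolayPt → ℤ) = appL k (toL (v : GolayPt → ℤ)) := by
  by_cases h1 : k < 16
  · obtain ⟨hg, hl, hp, hs⟩ := perm_ok k h1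
    refine ⟨Leech.permHom ⟨permL (permLists.getD k []), permL_mem_M24 hg hl hp⟩, fun v _ => ?_⟩
    rw [appL, if_pos h1, hs]
    conv_rhs => rw [← toList_permL hg hl, ← toList_inv]
    show (List.range 24).map _ = ((List.range 24).map _).map _
    rw [List.map_map]
    refine List.map_congr_left fun i _ => ?_
    rw [Leech.permHom_apply]
    simp only [Function.comp_apply]
    rw [toL_getD_idx]
  by_cases h2 : k < 28
  · refine ⟨Leech.signAut ⟨_, vec_word_mem (2 ^ (k - 16))⟩, fun v _ => ?_⟩
    rw [appL, if_neg h1, if_pos h2, sign_ok (k - 16) (by omega)]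
    refine List.map_congr_left fun i hi => ?_
    rw [Leech.signAut_apply, toL_getD _ (List.mem_range.1 hi)]
    simp only [Leech.flipSign, vec, idx_pt i (List.mem_range.1 hi)]
    by_cases hb : (word (2 ^ (k - 16))).testBit i = true
    · simp [hb]
    · simp [hb]
  · refine ⟨Leech.xiAut, fun v hk => ?_⟩
    rw [appL, if_neg h1, if_neg h2]
    refine List.map_congr_left fun i hi => ?_
    rw [Leech.xiAut_apply, toL_getD _ (List.mem_range.1 hi), ← tet_ok i (List.mem_range.1 hi)]
    have hsum : tetL (toL (v : GolayPt → ℤ)) (Leech.tetOf (pt i)).val =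
        Leech.tetSum (v : GolayPt → ℤ) (Leech.tetOf (pt i)) := by
      have hb : ∀ (a : Fin 6) (b : Fin 4),
          (toL (v : GolayPt → ℤ)).getD (Leech.sextetList.getD (4 * a.val + b.val) 0) 0 =
            (v : GolayPt → ℤ) (Leech.tetPt a b) := fun a b => by
        rw [Leech.tetPt, toL_getD]
        exact (by decide +kernel : ∀ (a : Fin 6) (b : Fin 4), Leech.sextetList.getD (4 * a.val + b.val) 0 < 24) a b
      rw [Leech.tetSum, Fin.sum_univ_four, ← hb _ 0, ← hb _ 1, ← hb _ 2, ← hb _ 3]
      rfl
    rw [hsum]
    simp only [Leech.xi, Leech.tetSign]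
    congr 1
    exact if_congr (by rw [Fin.ext_iff]; rfl) rfl rfl

/-- The automorphism of a letter. -/
noncomputable def letterElt (k : ℕ) : Co0 := Classical.choose (exists_letter k)

/-- The automorphism of a word. -/
noncomputable def wordElt (w : List ℕ) : Co0 := (w.map letterElt).prod

/-- The positions. -/
def posList : List ℕ := [0, 1, 2, 3, 4, 5, 6, 7, 8, 9, 10, 11, 12, 13, 14, 15, 16, 17, 18, 19, 20, 21, 22, 23]

theorem posList_eq : posList = List.range 24 := by decide +kernel

/-- Half the sum over a tetrad, offset. -/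
noncomputable def tetN (n a : ℕ) : ℕ :=
  Nat.div (Nat.add
    (Nat.add (fld n (nthD Leech.sextetList 0 (4 * a + 0))) (fld n (nthD Leech.sextetList 0 (4 * a + 1))))
    (Nat.add (fld n (nthD Leech.sextetList 0 (4 * a + 2))) (fld n (nthD Leech.sextetList 0 (4 * a + 3))))) 2

/-- The action of a letter on packed coordinates. -/
noncomputable def appN (k n : ℕ) : ℕ :=
  if k < 16 then packF (fld n) (nthD srcLists [] k)
  else if k < 28 then packF (fun i => cond (Nat.testBit (nthD signMasks 0 (k - 16)) i)
    (Nat.sub 256 (fld n i)) (fld n i)) posList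
  else packF (fun i => cond (Nat.beq (nthD Leech.tetradList 0 i) 0)
    (Nat.sub (tetN n (nthD Leech.tetradList 0 i)) (fld n i))
    (Nat.sub (Nat.add (fld n i) 256) (tetN n (nthD Leech.tetradList 0 i)))) posList

theorem appN_ok {k : ℕ} {l : List ℤ} (hl : Small l) : appN k (encL l) = encL (appL k l) := by
  show appN k (encL l) = packF off (appL k l)
  rw [packF_map off (appL k l), appL, appN]
  split_ifs with h1 h2
  · rw [nthD_eq, packF_map, List.map_map]
    refine congrArg _ (List.map_congr_left fun j hj => ?_)
    have hj' : j < 24 := (by decide +kernel : ∀ k < 16, ∀ j ∈ srcLists.getD k [], j < 24) k h1 j hj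
    exact fld_encL hl hj'
  · rw [packF_map, List.map_map, ← posList_eq]
    refine congrArg _ (List.map_congr_left fun i hi => ?_)
    have hi' : i < 24 := List.mem_range.1 (posList_eq ▸ hi)
    have hb : l.getD i 0 ∈ l := by
      rw [List.getD_eq_getElem _ _ (hl.1.symm ▸ hi')]; exact List.getElem_mem _
    have := hl.2 _ hb
    rw [nthD_eq, fld_encL hl hi', Function.comp_apply]
    generalize l.getD i 0 = x at this ⊢
    cases (signMasks.getD (k - 16) 0).testBit i
    · rfl
    · simp only [cond_true, if_true, off]
      show Nat.sub 256 _ = _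
      rw [Nat.sub_eq]
      omega
  · rw [packF_map, List.map_map, ← posList_eq]
    refine congrArg _ (List.map_congr_left fun i hi => ?_)
    have hi' : i < 24 := List.mem_range.1 (posList_eq ▸ hi)
    have hb : ∀ j < 24, -8 ≤ l.getD j 0 ∧ l.getD j 0 ≤ 8 := fun j hj => hl.2 _ (by
      rw [List.getD_eq_getElem _ _ (hl.1.symm ▸ hj)]; exact List.getElem_mem _)
    obtain ⟨a, ha6, ha⟩ : ∃ a, a < 6 ∧ Leech.tetradList.getD i 0 = a :=
      ⟨_, (by decide +kernel : ∀ i < 24, Leech.tetradList.getD i 0 < 6) i hi', rfl⟩
    have hs : ∀ b < 4, Leech.sextetList.getD (4 * a + b) 0 < 24 :=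
      (by decide +kernel : ∀ a < 6, ∀ b < 4, Leech.sextetList.getD (4 * a + b) 0 < 24) a ha6
    have h0 := hb i hi'
    have q0 := hb _ (hs 0 (by norm_num)); have q1 := hb _ (hs 1 (by norm_num))
    have q2 := hb _ (hs 2 (by norm_num)); have q3 := hb _ (hs 3 (by norm_num))
    simp only [tetN, nthD_eq, ha, fld_encL hl hi', fld_encL hl (hs 0 (by norm_num)),
      fld_encL hl (hs 1 (by norm_num)), fld_encL hl (hs 2 (by norm_num)), fld_encL hl (hs 3 (by norm_num)),
      Function.comp_apply, tetL, ha]
    change cond (Nat.beq a 0) (((_ + _) + (_ + _)) / 2 - _) (_ + 256 - ((_ + _) + (_ + _)) / 2) = _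
    generalize l.getD i 0 = x at h0 ⊢
    generalize l.getD (Leech.sextetList.getD (4 * a + 0) 0) 0 = x0 at q0 ⊢
    generalize l.getD (Leech.sextetList.getD (4 * a + 1) 0) 0 = x1 at q1 ⊢
    generalize l.getD (Leech.sextetList.getD (4 * a + 2) 0) 0 = x2 at q2 ⊢
    generalize l.getD (Leech.sextetList.getD (4 * a + 3) 0) 0 = x3 at q3 ⊢
    rcases a with _ | a
    · simp only [off, if_pos]
      show (_ : ℕ) = _
      simp only [show Nat.beq 0 0 = true from rfl, cond_true]
      omega
    · simp only [off, show Nat.beq (a + 1) 0 = false from rfl, cond_false, if_neg (Nat.succ_ne_zero a)]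
      omega

/-- The action of a word on packed coordinates. -/
noncomputable def evalN : List ℕ → ℕ → ℕ
  | [], n => n
  | k :: w, n => forceN (evalN w n) (appN k)

theorem evalN_wordElt : ∀ {w : List ℕ}, w.all (· < 29) = true → ∀ (g : Co0) (q : GolayPt),
    evalN w (encL (toL ((g • Leech.eightAt q : leechLattice) : GolayPt → ℤ))) =
      encL (toL (((wordElt w * g) • Leech.eightAt q : leechLattice) : GolayPt → ℤ))
  | [], _, g, q => by simp [wordElt, evalN]
  | k :: w, h, g, q => by
    rw [List.all_cons, Bool.and_eq_true, decide_eq_true_eq] at h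
    rw [evalN, forceN_eq, evalN_wordElt h.2 g q, appN_ok (small_toL (norm_unit _ q)),
      ← Classical.choose_spec (exists_letter k) _ h.1, ← mul_smul, ← mul_assoc]
    rfl

/-- A packed unit. -/
noncomputable def unitN (q : ℕ) : ℕ := packF (fun i => cond (Nat.beq i q) 136 128) posList

theorem unitN_eq : ∀ q < 24, unitN q = encL (unitL q) := by decide +kernel

theorem encL_unit {q : ℕ} (hq : q < 24) :
    encL (toL (((1 : Co0) • Leech.eightAt (pt q) : leechLattice) : GolayPt → ℤ)) = unitN q := by
  rw [one_smul, unitN_eq q hq]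
  congr 1
  refine List.map_congr_left fun i hi => ?_
  rw [Leech.eightAt_apply]
  refine if_congr ⟨fun h => ?_, fun h => by rw [h]⟩ rfl rfl
  have e := congrArg idx h
  rwa [idx_pt q hq, idx_pt i (List.mem_range.1 hi)] at e

theorem ext_units {g h : Co0}
    (H : ∀ q < 24, encL (toL ((g • Leech.eightAt (pt q) : leechLattice) : GolayPt → ℤ)) =
      encL (toL ((h • Leech.eightAt (pt q) : leechLattice) : GolayPt → ℤ))) : g = h := by
  refine Leech.eq_of_mat_eq fun p q => ?_
  have := toL_injective (encL_inj (small_toL (norm_unit _ _)) (small_toL (norm_unit _ _)) (H (idx q) (idx_lt q)))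
  rw [pt_idx] at this
  exact congrFun this p

end CfsgLib.Monster.Seven.Word

namespace CfsgLib.Monster.Seven

open Cfsg CfsgLib CfsgLib.Golay CfsgLib.Golay.Cert CfsgLib.Monster.Seven.Word

/-- The automorphism of order seven, on packed coordinates. -/
noncomputable def rhoN (n : ℕ) : ℕ := packF (fld n) (invL sevR)

/-- An involution inverting the element of order seven. -/
noncomputable def invT : Co0 := wordElt invWord

/-- An element conjugating a sign change to it. -/
noncomputable def conjT : Co0 := wordElt conjWord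

/-- A word of weight twelve. -/
def signMask : ℕ := 14213199

theorem signMask_eq : word (signMask % 4096) = signMask := by decide +kernel

/-- The weight twelve word in the code. -/
def signCode : golayCode := ⟨vec signMask, signMask_eq ▸ vec_word_mem _⟩

theorem rhoN_ok (g : Co0) (q : GolayPt) :
    rhoN (encL (toL ((g • Leech.eightAt q : leechLattice) : GolayPt → ℤ))) =
      encL (toL (((Leech.permHom rho * g) • Leech.eightAt q : leechLattice) : GolayPt → ℤ)) := by
  set l := toL ((g • Leech.eightAt q : leechLattice) : GolayPt → ℤ) with hl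
  have hs : Small l := small_toL (norm_unit g q)
  have he : toL (((Leech.permHom rho * g) • Leech.eightAt q : leechLattice) : GolayPt → ℤ) =
      (invL sevR).map fun j => l.getD j 0 := by
    rw [mul_smul, ← toList_rho, ← toList_inv]
    show (List.range 24).map _ = ((List.range 24).map _).map _
    rw [List.map_map]
    refine List.map_congr_left fun i _ => ?_
    rw [Leech.permHom_apply, Function.comp_apply, hl, toL_getD_idx]
  rw [he, rhoN, packF_map]
  show _ = packF off _
  rw [packF_map off, List.map_map]
  refine congrArg _ (List.map_congr_left fun j hj => ?_)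
  exact fld_encL hs ((by decide +kernel : ∀ j ∈ invL sevR, j < 24) j hj)

theorem word_bounds : invWord.all (· < 29) = true ∧ conjWord.all (· < 29) = true ∧
    signWord.all (· < 29) = true := by decide +kernel

theorem inv_check : ∀ q < 24, rhoN (evalN invWord (rhoN (evalN invWord (unitN q)))) = unitN q := by
  decide +kernel

theorem sq_check : ∀ q < 24, evalN invWord (evalN invWord (unitN q)) = unitN q := by decide +kernel

theorem conj_check : ∀ q < 24,
    evalN invWord (evalN conjWord (unitN q)) = evalN conjWord (evalN signWord (unitN q)) := by decide +kernel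

theorem sign_check : ∀ q < 24, evalN signWord (unitN q) =
    encL ((List.range 24).map fun i => if signMask.testBit i then -(unitL q).getD i 0 else (unitL q).getD i 0) := by
  decide +kernel

theorem invT_sq : invT * invT = 1 := ext_units fun q hq => by
  rw [encL_unit hq]
  refine Eq.trans ?_ (sq_check q hq)
  rw [← encL_unit hq, evalN_wordElt word_bounds.1, evalN_wordElt word_bounds.1, invT, mul_one]

/-- The involution inverts. -/
theorem invT_conj : invT * Leech.permHom rho * invT⁻¹ = (Leech.permHom rho)⁻¹ := by
  have h : Leech.permHom rho * invT * Leech.permHom rho * invT = 1 := ext_units fun q hq => by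
    rw [encL_unit hq]
    refine Eq.trans ?_ (inv_check q hq)
    rw [← encL_unit hq, evalN_wordElt word_bounds.1, rhoN_ok, evalN_wordElt word_bounds.1, rhoN_ok, invT]
    simp only [mul_assoc, mul_one]
  have hi : invT⁻¹ = invT := inv_eq_of_mul_eq_one_left invT_sq
  rw [hi]
  refine eq_inv_of_mul_eq_one_right ?_
  rw [← h]
  simp only [mul_assoc]

theorem wordElt_sign : wordElt signWord = Leech.signAut signCode := ext_units fun q hq => by
  have h := evalN_wordElt word_bounds.2.2 1 (pt q)
  rw [encL_unit hq, mul_one, sign_check q hq] at h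
  rw [← h]
  congr 1
  refine List.map_congr_left fun i hi => ?_
  have hiu : (unitL q).getD i 0 = (Leech.eightAt (pt q) : GolayPt → ℤ) (pt i) := by
    rw [← toL_getD (Leech.eightAt (pt q) : GolayPt → ℤ) (List.mem_range.1 hi), toL_eightAt, idx_pt q hq]
  rw [Leech.signAut_apply, hiu]
  show (if signMask.testBit i = true then _ else _) = Leech.flipSign (vec signMask) _ (pt i)
  simp only [Leech.flipSign, vec, idx_pt i (List.mem_range.1 hi)]
  by_cases hb : signMask.testBit i = true <;> simp [hb]

/-- The involution is conjugate to a sign change. -/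
theorem invT_eq : invT = conjT * Leech.signAut signCode * conjT⁻¹ := by
  rw [eq_mul_inv_iff_mul_eq, ← wordElt_sign]
  refine ext_units fun q hq => ?_
  have h := conj_check q hq
  rw [← encL_unit hq, evalN_wordElt word_bounds.2.1, evalN_wordElt word_bounds.1,
    evalN_wordElt word_bounds.2.2, evalN_wordElt word_bounds.2.1, mul_one, mul_one] at h
  exact h

end CfsgLib.Monster.Seven
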