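import Cfsg.Agent.Monster.Seven.Simple
import Cfsg.Agent.Monster.Seven.Witness
import Mathlib.GroupTheory.SpecificGroups.Cyclic

/-!
# The automiser of the group of order seven and an inverting involution
-/

set_option autoImplicit false
set_option maxRecDepth 100000
set_option maxHeartbeats 1000000
set_option linter.style.haveILetI false
set_option linter.unusedSectionVars false

namespace CfsgLib.Monster.Seven

open Cfsg CfsgLib CfsgLib.Golay CfsgLib.Leech CfsgLib.Extra2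

attribute [local irreducible] shortVecs halfTable quarterTable codeFinset

variable {G : Type*} [Group G] [Finite G] {z s : G} (c : Cfg z s)

theorem relIndex_CB :
    (CB c).relIndex (Subgroup.normalizer (Subgroup.zpowers c.β : Set G)) = 6 := by
  set B := Subgroup.zpowers c.β with hB
  haveI : IsCyclic B := inferInstance
  have hBc : Nat.card B = 7 := by rw [hB, Nat.card_zpowers, c.ord]
  show ((CB c).subgroupOf (Subgroup.normalizer (B : Set G))).index = 6
  rw [show CB c = Subgroup.centralizer (B : Set G) from rfl, ← Subgroup.normalizerMonoidHom_ker,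
    Subgroup.index_ker]
  have hsurj : Function.Surjective B.normalizerMonoidHom := by
    intro α
    obtain ⟨k, hk, hk'⟩ : ∃ k < 7, c.β ^ k = (α ⟨c.β, Subgroup.mem_zpowers _⟩ : G) := by
      obtain ⟨i, hi⟩ := Subgroup.mem_zpowers_iff.1 (α ⟨c.β, Subgroup.mem_zpowers _⟩).2
      refine ⟨(i % 7).toNat, by omega, ?_⟩
      rw [← hi, ← zpow_natCast, Int.toNat_of_nonneg (Int.emod_nonneg i (by norm_num))]
      conv_rhs => rw [← zpow_mod_orderOf, c.ord]
      rfl
    have hk0 : k ≠ 0 := fun e => by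
      rw [e, pow_zero] at hk'
      have hβ : (⟨c.β, Subgroup.mem_zpowers _⟩ : B) = 1 := α.map_eq_one_iff.1 (Subtype.ext hk'.symm)
      have := c.ord
      rw [show c.β = 1 from congrArg Subtype.val hβ, orderOf_one] at this
      omega
    obtain ⟨n, -, hn⟩ := exists_conj_pow hk hk0
    obtain ⟨y, hy, -⟩ := exists_lift_pow c hn
    have hyN : (y : G) ∈ Subgroup.normalizer (B : Set G) := by
      have hmap : B.map (MulAut.conj (y : G)).toMonoidHom = B := by
        rw [hB, MonoidHom.map_zpowers]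
        refine Subgroup.eq_of_le_of_card_ge (Subgroup.zpowers_le.2 ?_) ?_
        · show (y : G) * c.β * (y : G)⁻¹ ∈ Subgroup.zpowers c.β
          rw [hy]; exact Subgroup.npow_mem_zpowers _ _
        · rw [Nat.card_zpowers, Nat.card_zpowers, show (MulAut.conj (y : G)).toMonoidHom c.β =
            MulAut.conj (y : G) c.β from rfl, MulEquiv.orderOf_eq]
      rw [Subgroup.mem_normalizer_iff]
      intro u
      constructor
      · intro hu; rw [← hmap]; exact ⟨u, hu, rfl⟩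
      · intro hu
        rw [← hmap] at hu
        obtain ⟨v, hv, e⟩ := hu
        rwa [show u = v from ((MulAut.conj (y : G)).injective e).symm]
    refine ⟨⟨_, hyN⟩, MulEquiv.ext fun u => ?_⟩
    obtain ⟨v, hv⟩ := u
    obtain ⟨i, rfl⟩ := Subgroup.mem_zpowers_iff.1 hv
    rw [show (⟨c.β ^ i, hv⟩ : B) = (⟨c.β, Subgroup.mem_zpowers _⟩ : B) ^ i from Subtype.ext rfl,
      map_zpow, map_zpow]
    congr 1
    refine Subtype.ext ?_
    show (y : G) * c.β * (y : G)⁻¹ = _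
    rw [hy, hk']
  rw [MonoidHom.range_eq_top.2 hsurj, Subgroup.card_top, IsCyclic.card_mulAut, hBc,
    Nat.totient_prime seven_prime]

/-- The elements of both conjugate subgroups commute. -/
theorem inter_abelian {g : G} (hg : g * z * g⁻¹ = s) {x y : G}
    (hx : x ∈ c.D.Q ⊓ c.D.Q.map (MulAut.conj g).toMonoidHom)
    (hy : y ∈ c.D.Q ⊓ c.D.Q.map (MulAut.conj g).toMonoidHom) : x * y = y * x := by
  refine mul_inv_eq_iff_eq_mul.1 ((mul_inv_eq_one (a := x * y * x⁻¹) (b := y)).1 ?_)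
  rcases c.D.gen.comm x hx.1 y hy.1 with e | e
  · exact e
  exfalso
  obtain ⟨x', hx', hxe⟩ := hx.2
  obtain ⟨y', hy', hye⟩ := hy.2
  have he : x * y * x⁻¹ * y⁻¹ = g * (x' * y' * x'⁻¹ * y'⁻¹) * g⁻¹ := by
    rw [← hxe, ← hye]
    show g * x' * g⁻¹ * (g * y' * g⁻¹) * (g * x' * g⁻¹)⁻¹ * (g * y' * g⁻¹)⁻¹ = _
    group
  rcases c.D.gen.comm x' hx' y' hy' with e' | e' <;> rw [e', e] at he
  · rw [mul_one, mul_inv_cancel] at he; exact c.D.gen.ne_one he
  · exact c.hsz (hg ▸ he.symm)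

/-- Elements of order two lying over the sign changes. -/
theorem exists_sign_lift (w : golayCode) (hw : mk1 (signAut w) ≠ 1) :
    ∃ y : Subgroup.centralizer ({z} : Set G), y * y = 1 ∧ c.D.π y = mk1 (signAut w) := by
  obtain ⟨g, hg⟩ := c.hconj
  obtain ⟨y, hyP, hyπ⟩ := (conj_structure_at c.D c.hs c.hsz hg c.cls_s (sqNorm_eightAt none)
    (g₀ := 1) (one_smul _ _)).1 w
  have hyπ' : c.D.π y = mk1 (signAut w) := by
    rw [hyπ]
    show mk1 (1⁻¹ * signAut w * 1) = _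
    rw [inv_one, one_mul, mul_one]
  have hyQ : g⁻¹ * (y : G) * g ∈ c.D.Q := (mem_map_conj_iff c.D).1 hyP.1
  rcases c.D.gen.square _ hyQ with e | e
  · refine ⟨y, Subtype.ext ?_, hyπ'⟩
    calc (y : G) * y = g * (g⁻¹ * (y : G) * g * (g⁻¹ * (y : G) * g)) * g⁻¹ := by group
      _ = 1 := by rw [e]; group
  set A := c.D.Q ⊓ c.D.Q.map (MulAut.conj g).toMonoidHom with hA
  set A' := A.map (MulAut.conj g⁻¹).toMonoidHom with hA'
  have hmemA' : ∀ {q : G}, q ∈ A → g⁻¹ * q * g ∈ A' := fun {q} hq => ⟨q, hq, by simp⟩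
  have hA'Q : A' ≤ c.D.Q := by
    rintro _ ⟨q, hq, rfl⟩
    show g⁻¹ * q * g⁻¹⁻¹ ∈ c.D.Q
    rw [inv_inv]
    exact (mem_map_conj_iff c.D).1 hq.2
  obtain ⟨q, hq, hqy⟩ : ∃ q ∈ A, q * (y : G) ≠ (y : G) * q := by
    by_contra hne
    push Not at hne
    have hsA : s ∈ A := ⟨c.hs, (mem_map_conj_iff c.D).2 (by
      have e0 : g⁻¹ * s * g = z := by rw [← hg]; group
      rw [e0]; exact c.D.gen.mem)⟩
    have hzA' : z ∈ A' := by
      have e0 : g⁻¹ * s * g = z := by rw [← hg]; group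
      exact e0 ▸ hmemA' hsA
    have h1 := card_mul_card_centralizer c.D.gen hzA' hA'Q
    have hcA : Nat.card A' = 2 ^ 13 := by
      rw [hA', Subgroup.card_map_of_injective (MulAut.conj g⁻¹).injective]
      exact (conj_structure c.D c.hs c.hsz hg).2.1
    rw [hcA, c.D.card] at h1
    have hle : A' ≤ c.D.Q ⊓ Subgroup.centralizer (A' : Set G) := by
      refine le_inf hA'Q fun u hu => Subgroup.mem_centralizer_iff.2 fun v hv => ?_
      obtain ⟨u', hu', rfl⟩ := hu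
      obtain ⟨v', hv', rfl⟩ := hv
      show (MulAut.conj g⁻¹) v' * (MulAut.conj g⁻¹) u' = (MulAut.conj g⁻¹) u' * (MulAut.conj g⁻¹) v'
      rw [← map_mul, ← map_mul, inter_abelian c hg hv' hu']
    have heq := Subgroup.eq_of_le_of_card_ge hle (by rw [hcA]; omega)
    have hyA : g⁻¹ * (y : G) * g ∈ A' := by
      rw [heq]
      refine ⟨hyQ, Subgroup.mem_centralizer_iff.2 fun v hv => ?_⟩
      obtain ⟨v', hv', rfl⟩ := hv
      show g⁻¹ * v' * g⁻¹⁻¹ * (g⁻¹ * (y : G) * g) = g⁻¹ * (y : G) * g * (g⁻¹ * v' * g⁻¹⁻¹)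
      calc g⁻¹ * v' * g⁻¹⁻¹ * (g⁻¹ * (y : G) * g) = g⁻¹ * (v' * (y : G)) * g := by group
        _ = g⁻¹ * ((y : G) * v') * g := by rw [hne v' hv']
        _ = _ := by group
    obtain ⟨u, hu, hue⟩ := hyA
    have hueq : u = (y : G) := (MulAut.conj g⁻¹).injective (hue.trans (by simp))
    exact hw (hyπ'.symm.trans ((c.D.mem_ker y).2 (hueq ▸ hu.1)))
  have hq2 : q * q = 1 := by
    rcases c.D.gen.square q hq.1 with e1 | e1
    · exact e1
    exfalso
    rcases c.D.gen.square _ ((mem_map_conj_iff c.D).1 hq.2) with e2 | e2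
    · refine c.D.gen.ne_one ?_
      rw [← e1, show q * q = g * (g⁻¹ * q * g * (g⁻¹ * q * g)) * g⁻¹ by group, e2]
      group
    · refine c.hsz ?_
      calc s = g * (g⁻¹ * q * g * (g⁻¹ * q * g)) * g⁻¹ := by rw [e2, hg]
        _ = q * q := by group
        _ = z := e1
  refine ⟨y * ⟨q, c.D.le_C hq.1⟩, Subtype.ext ?_, ?_⟩
  · set a := g⁻¹ * (y : G) * g
    set b := g⁻¹ * q * g
    have hbQ : b ∈ c.D.Q := (mem_map_conj_iff c.D).1 hq.2
    have hb2 : b * b = 1 := by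
      show g⁻¹ * q * g * (g⁻¹ * q * g) = 1
      rw [show g⁻¹ * q * g * (g⁻¹ * q * g) = g⁻¹ * (q * q) * g by group, hq2]; group
    have hab : b * a * b⁻¹ = a * z := by
      rcases conj_eq c.D.gen hbQ hyQ with e' | e'
      · refine absurd ?_ hqy
        calc q * (y : G) = g * (b * a * b⁻¹ * b) * g⁻¹ := by simp only [a, b]; group
          _ = g * (a * b) * g⁻¹ := by rw [e']
          _ = (y : G) * q := by simp only [a, b]; group
      · exact e'.trans (c.D.gen.comm_z a hyQ).symm.eq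
    show (y : G) * q * ((y : G) * q) = 1
    calc (y : G) * q * ((y : G) * q) = g * (a * (b * a * b⁻¹) * (b * b)) * g⁻¹ := by simp only [a, b]; group
      _ = g * (z * z) * g⁻¹ := by rw [hb2, mul_one, hab, ← mul_assoc a a z, e]
      _ = 1 := by rw [c.D.gen.sq]; group
  · rw [map_mul, (c.D.mem_ker ⟨q, c.D.le_C hq.1⟩).2 hq.1, mul_one, hyπ']

theorem signCode_ne : mk1 (signAut signCode) ≠ 1 := by
  intro h
  have hinv : mk1 invT = 1 := by
    rw [invT_eq, map_mul, map_mul, h, mul_one, ← map_mul, mul_inv_cancel, map_one]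
  have h1 : mk1 bh = mk1 bh⁻¹ := by
    conv_rhs => rw [bh, ← invT_conj, map_mul, map_mul, map_inv, hinv, one_mul, inv_one, mul_one]
    rfl
  rcases eq_or_neg_of_mk (a := bh ^ 2) (b := 1) (by
    rw [map_pow, map_one, pow_two]
    nth_rewrite 2 [h1]
    rw [← map_mul, mul_inv_cancel, map_one]) with e | e
  · have := orderOf_dvd_of_pow_eq_one e.symm
    rw [orderOf_bh] at this
    norm_num at this
  · have h14 : (bh ^ 2) ^ 7 = 1 := by rw [← pow_mul, mul_comm, pow_mul, bh_pow_seven, one_pow]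
    have e2 : bh ^ 2 = negAut := by
      calc bh ^ 2 = negAut * (negAut * bh ^ 2) := by rw [← mul_assoc, negAut_sq, one_mul]
        _ = negAut := by rw [← e, mul_one]
    rw [e2, show (7 : ℕ) = 2 * 3 + 1 from rfl, pow_succ, pow_mul, pow_two, negAut_sq, one_pow, one_mul] at h14
    exact negAut_ne_one h14

/-- Some involution inverts the element of order seven. -/
theorem exists_inverting : ∃ t : G, orderOf t = 2 ∧ t * c.β * t⁻¹ = c.β⁻¹ := by
  haveI : Fact (Nat.Prime 7) := ⟨seven_prime⟩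
  haveI : Fact (Nat.Prime 2) := ⟨Nat.prime_two⟩
  obtain ⟨y, hy2, hyπ⟩ := exists_sign_lift c signCode signCode_ne
  obtain ⟨u, hu⟩ := c.D.surj (mk1 conjT)
  set b := bC c with hb
  obtain ⟨t, ht⟩ : ∃ t : Subgroup.centralizer ({z} : Set G), t = u * y * u⁻¹ := ⟨_, rfl⟩
  have ht2 : t * t = 1 := by rw [ht, conj_mul, hy2, mul_one, mul_inv_cancel]
  have htπ : c.D.π t = mk1 invT := by
    rw [ht, invT_eq, map_mul, map_mul, map_mul, map_mul, map_inv, map_inv, hu, hyπ]
  obtain ⟨t', ht'⟩ : ∃ t' : Subgroup.centralizer ({z} : Set G), t' = b * t * b⁻¹ := ⟨_, rfl⟩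
  have ht'2 : t' * t' = 1 := by rw [ht', conj_mul, ht2, mul_one, mul_inv_cancel]
  obtain ⟨d, hd⟩ : ∃ d : Subgroup.centralizer ({z} : Set G), d = t * t' := ⟨_, rfl⟩
  have hπb : orderOf (c.D.π b) = 7 := orderOf_π c.D seven_prime (by norm_num) (orderOf_bC c)
  have hπd : c.D.π d = c.D.π b ^ (-2 : ℤ) := by
    have hinv : c.D.π t * c.D.π b * (c.D.π t)⁻¹ = (c.D.π b)⁻¹ := by
      rw [htπ, hb, π_bC]
      show mk1 invT * mk1 bh * (mk1 invT)⁻¹ = (mk1 bh)⁻¹
      rw [← map_inv, ← map_inv, ← map_mul, ← map_mul]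
      exact congrArg mk1 invT_conj
    have htt : c.D.π t * c.D.π t = 1 := by rw [← map_mul, ht2, map_one]
    calc c.D.π d = c.D.π t * c.D.π b * (c.D.π t)⁻¹ * (c.D.π t * c.D.π t) * (c.D.π b)⁻¹ := by
          rw [hd, ht', map_mul, map_mul, map_mul, map_inv]
          simp [mul_assoc]
      _ = (c.D.π b)⁻¹ * 1 * (c.D.π b)⁻¹ := by rw [hinv, htt]
      _ = _ := by group
  have htd : t * d * t⁻¹ = d⁻¹ := by
    rw [hd, mul_inv_rev, inv_eq_of_mul_eq_one_right ht'2, inv_eq_of_mul_eq_one_right ht2]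
    calc t * (t * t') * t = (t * t) * t' * t := by group
      _ = t' * t := by rw [ht2, one_mul]
  set v := (d ^ 2 ^ 25) ^ (5 : ℕ) with hv
  have hπv : c.D.π v = c.D.π b := by
    rw [hv, map_pow, map_pow, hπd, ← zpow_natCast, ← zpow_natCast, ← zpow_mul, ← zpow_mul]
    conv_rhs => rw [← zpow_one (c.D.π b)]
    rw [zpow_eq_zpow_iff_modEq, hπb]
    norm_num [Int.ModEq]
  have hv7 : v ^ 7 = 1 := by
    have h7Q : ((d ^ 7 : Subgroup.centralizer ({z} : Set G)) : G) ∈ c.D.Q := by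
      refine (c.D.mem_ker _).1 ?_
      rw [map_pow, hπd, ← zpow_natCast, ← zpow_mul, mul_comm, zpow_mul, zpow_natCast, ← hπb,
        pow_orderOf_eq_one, one_zpow]
    have h := Subgroup.orderOf_dvd_natCard c.D.Q h7Q
    rw [c.D.card, Subgroup.orderOf_coe] at h
    have h1 : (d ^ 7) ^ 2 ^ 25 = 1 := orderOf_dvd_iff_pow_eq_one.1 h
    rw [hv, ← pow_mul, ← pow_mul, show 2 ^ 25 * (5 * 7) = 7 * 2 ^ 25 * 5 by ring, pow_mul, pow_mul, h1,
      one_pow]
  have hv1 : v ≠ 1 := fun e => by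
    rw [e, map_one] at hπv
    rw [← hπv, orderOf_one] at hπb
    omega
  have hvt : t * v * t⁻¹ = v⁻¹ := by
    rw [hv, ← conj_pow, ← conj_pow, htd, inv_pow, inv_pow]
  obtain ⟨q, -, hqv⟩ := conj_in_Q c.D (orderOf_eq_prime hv7 hv1)
    (by rw [hb, ← Subgroup.orderOf_coe]; exact c.ord) hπv
  have hfin : (q * t * q⁻¹) * b * (q * t * q⁻¹)⁻¹ = b⁻¹ := by
    rw [← hqv]
    calc q * t * q⁻¹ * (q * v * q⁻¹) * (q * t * q⁻¹)⁻¹ = q * (t * v * t⁻¹) * q⁻¹ := by group
      _ = (q * v * q⁻¹)⁻¹ := by rw [hvt]; group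
  have hsq : (q * t * q⁻¹) * (q * t * q⁻¹) = 1 := by rw [conj_mul, ht2, mul_one, mul_inv_cancel]
  have hne : (((q * t * q⁻¹ : Subgroup.centralizer ({z} : Set G))) : G) ≠ 1 := fun e => by
    have e' : q * t * q⁻¹ = 1 := Subtype.ext e
    rw [e', one_mul, inv_one, mul_one] at hfin
    have hb2 : (b : G) ^ 2 = 1 := by
      rw [pow_two]
      exact congrArg Subtype.val (mul_eq_one_iff_eq_inv.2 hfin : b * b = 1)
    have := orderOf_dvd_of_pow_eq_one hb2
    rw [hb, orderOf_bC] at this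
    norm_num at this
  refine ⟨(q * t * q⁻¹ : Subgroup.centralizer ({z} : Set G)), orderOf_eq_prime ?_ hne, congrArg Subtype.val hfin⟩
  rw [pow_two]; exact congrArg Subtype.val hsq

theorem map_conj_CB {t : G} (ht : t * c.β * t⁻¹ = c.β⁻¹) {x : G} (hx : x ∈ CB c) :
    t * x * t⁻¹ ∈ CB c := by
  rw [mem_CB] at hx ⊢
  have h := congrArg (fun u => u⁻¹) ht
  simp only [mul_inv_rev, inv_inv] at h
  rw [← h, show t * x * t⁻¹ * (t * (c.β⁻¹ * t⁻¹)) = t * (x * c.β⁻¹) * t⁻¹ by group,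
    show t * (c.β⁻¹ * t⁻¹) * (t * x * t⁻¹) = t * (c.β⁻¹ * x) * t⁻¹ by group,
    (show Commute x c.β from hx).inv_right.eq]

/-- An inverting element normalises the layer. -/
theorem layer_stable {t : G} (hti : t * c.β * t⁻¹ = c.β⁻¹) (hti' : t⁻¹ * c.β * t⁻¹⁻¹ = c.β⁻¹)
    {x : G} (hx : x ∈ (Cfsg.layer (CB c)).map (CB c).subtype) :
    t * x * t⁻¹ ∈ (Cfsg.layer (CB c)).map (CB c).subtype := by
  let e : CB c ≃* CB c :=
    { toFun := fun u => ⟨t * u * t⁻¹, map_conj_CB c hti u.2⟩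
      invFun := fun u => ⟨t⁻¹ * u * t⁻¹⁻¹, map_conj_CB c hti' u.2⟩
      left_inv := fun u => Subtype.ext (by simp [mul_assoc])
      right_inv := fun u => Subtype.ext (by simp [mul_assoc])
      map_mul' := fun u v => Subtype.ext (conj_mul).symm }
  obtain ⟨u, hu, rfl⟩ := hx
  exact ⟨e u, Comp.map_layer_le e ⟨u, hu, rfl⟩, rfl⟩

/-- An inverting element induces no inner automorphism of the layer. -/
theorem not_inner {t : G} (hti : t * c.β * t⁻¹ = c.β⁻¹) {l : G}
    (hl : l ∈ (Cfsg.layer (CB c)).map (CB c).subtype) :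
    ∃ x ∈ (Cfsg.layer (CB c)).map (CB c).subtype, t * x * t⁻¹ ≠ l * x * l⁻¹ := by
  by_contra hne
  push Not at hne
  obtain ⟨l', hl', rfl⟩ := hl
  have hlβ : (l' : G) * c.β = c.β * (l' : G) := (mem_CB c).1 l'.2
  have hfix : ∀ {x : G}, x ∈ R c → x * x = 1 → ((l' : G)⁻¹ * t) * x * ((l' : G)⁻¹ * t)⁻¹ = x := by
    intro x hx hx2
    have hm : x ∈ (Cfsg.layer (CB c)).map (CB c).subtype :=
      ⟨rC c ⟨x, hx⟩, mem_layer c (Subtype.ext hx2), rfl⟩
    calc ((l' : G)⁻¹ * t) * x * ((l' : G)⁻¹ * t)⁻¹ = (l' : G)⁻¹ * (t * x * t⁻¹) * (l' : G) := by group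
      _ = x := by rw [hne x hm]; show (l' : G)⁻¹ * ((l' : G) * x * (l' : G)⁻¹) * (l' : G) = x; group
  set u := (l' : G)⁻¹ * t with hu
  have huC : u ∈ Subgroup.centralizer ({z} : Set G) := mem_C_of_conj (hfix (z_mem_R c) c.D.gen.sq)
  obtain ⟨g0, hg0⟩ := c.hconj
  have hus : u * s * u⁻¹ = s := hfix (s_mem_R c) (by
    rw [← hg0, conj_mul, c.D.gen.sq, mul_one, mul_inv_cancel])
  have huβ : u * c.β * u⁻¹ = c.β⁻¹ := by
    calc u * c.β * u⁻¹ = (l' : G)⁻¹ * (t * c.β * t⁻¹) * (l' : G) := by rw [hu]; group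
      _ = c.β⁻¹ := by
        rw [hti, mul_assoc, ← ((show Commute (l' : G) c.β from hlβ).inv_right).eq, inv_mul_cancel_left]
  obtain ⟨g, hg⟩ := exists_lift c.D ⟨u, huC⟩
  have h6 : c.β⁻¹ = c.β ^ 6 :=
    inv_eq_of_mul_eq_one_right (by
      rw [← pow_succ', show (6 : ℕ) + 1 = orderOf c.β from c.ord.symm, pow_orderOf_eq_one])
  have hcm : g * bh = bh ^ 6 * g := conj_of_mk (by
    have e : (⟨u, huC⟩ : Subgroup.centralizer ({z} : Set G)) * bC c = bC c ^ 6 * ⟨u, huC⟩ := Subtype.ext (by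
      show u * c.β = c.β ^ 6 * u
      rw [← h6, ← huβ, inv_mul_cancel_right])
    have h' := congrArg c.D.π e
    rw [map_mul, map_mul, map_pow, hg, π_bC] at h'
    exact h')
  refine invert_moves hcm ?_
  have h1 := c.D.act ⟨u, huC⟩ g hg s c.hs _ c.cls_s
  rw [hus, c.cls_s] at h1
  exact h1.symm

end CfsgLib.Monster.Seven
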