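import Cfsg.Agent.Monster.Seven.Normaliser
import Mathlib.LinearAlgebra.Matrix.SpecialLinearGroup

/-!
# The centraliser acts as the full linear group of a three-dimensional space
-/

set_option autoImplicit false
set_option maxRecDepth 100000
set_option maxHeartbeats 1000000
set_option linter.style.haveILetI false

namespace CfsgLib.Monster.Seven

open Cfsg CfsgLib CfsgLib.Golay CfsgLib.Golay.Cert CfsgLib.Leech

attribute [local irreducible] shortVecs halfTable quarterTable codeFinset

theorem card_sl32 : Nat.card (Matrix.SpecialLinearGroup (Fin 3) (ZMod 2)) = 168 := by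
  rw [Nat.card_eq_fintype_card]; decide +kernel

/-- The action of a signed permutation on a coordinate list. -/
def actL (m : ℕ) (L : List ℕ) (l : List ℤ) : List ℤ :=
  (List.range 24).map fun i => if m.testBit i then -(l.getD (L.idxOf i) 0) else l.getD (L.idxOf i) 0

theorem vL_monoAut (m : ℕ) (hm : vec m ∈ golayCode) (σ : M24) (v : leechLattice) :
    vL ((monoAut (⟨vec m, hm⟩, σ) • v : leechLattice) : GolayPt → ℤ) =
      actL m (toList σ.1) (vL (v : GolayPt → ℤ)) := by
  refine List.map_congr_left fun i hi => ?_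
  have hi' := List.mem_range.1 hi
  have hj : ((σ : Equiv.Perm GolayPt)⁻¹ (pt i)) = pt ((toList σ.1).idxOf i) := by
    have h := toList_getD_idx ((σ : Equiv.Perm GolayPt)⁻¹) (pt i)
    rw [idx_pt i hi', toList_inv, invL, List.getD_eq_getElem _ _ (by simpa using hi'), List.getElem_map,
      List.getElem_range] at h
    rw [h, pt_idx]
  have hlt : (toList σ.1).idxOf i < 24 := by
    have h := toList_getD_idx ((σ : Equiv.Perm GolayPt)⁻¹) (pt i)
    rw [idx_pt i hi', toList_inv, invL, List.getD_eq_getElem _ _ (by simpa using hi'), List.getElem_map,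
      List.getElem_range] at h
    rw [h]; exact idx_lt _
  rw [monoAut, mul_smul, signAut_apply]
  simp only [flipSign, permHom_apply, vec, idx_pt i hi', hj, ← vL_getD _ hlt]
  by_cases hb : m.testBit i = true <;> simp [hb]

theorem cls_zero_iff (l : GolayPt → ℤ) : cls l = 0 ↔ clsB (vL l) (vL 0) = true := by
  rw [clsB_iff, cls_zero]

/-! ### The subspace -/

/-- The seven classes in the orbit of the first one. -/
def orbO : Finset (Fin 14) := {0, 6, 7, 8, 9, 10, 11}

/-- The two permutations of the classes. -/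
def actP (r : Fin 2) (j : Fin 14) : Fin 14 := Fin.ofNat 14 ((genAct.getD r.1 []).getD j.1 0)

theorem gens_ok : ∀ r : Fin 2, genOK (genPerm.getD r []) = true ∧
    conjB sevR sevR (genPerm.getD r []) = true ∧ genSign.getD r 0 ∈ fixWords ∧
    ∀ j : Fin 14, clsB (actL (genSign.getD r 0) (genPerm.getD r []) (embL (repA.getD j [])))
      (embL (repA.getD (actP r j) [])) = true := by decide +kernel

/-- The two elements fixing the first class. -/
theorem exists_gen (r : Fin 2) : ∃ g ∈ monoGroup ⊓ C0, ∀ j : Fin 14,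
    cls ((g • repV j : leechLattice) : GolayPt → ℤ) = cls (repV (actP r j) : GolayPt → ℤ) := by
  obtain ⟨h1, h2, h3, h4⟩ := gens_ok r
  have hm : vec (genSign.getD r 0) ∈ golayCode := by
    rw [← (fixWords_ok.2.2 _ h3).2.1]; exact vec_word_mem _
  have hc : ofList (genPerm.getD r []) * rho = rho * ofList (genPerm.getD r []) := conjB_iff.mp (by
    rw [toList_rho, toList_ofList h1]; exact h2)
  refine ⟨monoAut (⟨_, hm⟩, ofList (genPerm.getD r [])), mem_mono_C0.2 ⟨_, rfl,
    fixW_eq.2 ⟨_, h3, rfl⟩, ?_⟩, fun j => ?_⟩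
  · rw [Subgroup.mem_centralizer_iff]
    rintro x ⟨i, rfl⟩
    exact ((Commute.zpow_right (hc : Commute (ofList (genPerm.getD r [])) rho) i).eq).symm
  · rw [← clsB_iff, vL_monoAut, toList_ofList h1]
    show clsB (actL _ _ (vL (embA _))) (vL (embA _)) = true
    rw [vL_embA, vL_embA]
    exact h4 j

/-- Points reachable by words of length at most six. -/
def clos : ℕ → List (Fin 14) → List (Fin 14)
  | 0, l => l
  | n + 1, l => (clos n l ++ (clos n l).map (actP 0) ++ (clos n l).map (actP 1)).eraseDups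

theorem clos_sub {S : Finset (Fin 14)} (h : ∀ r, ∀ x ∈ S, actP r x ∈ S) :
    ∀ (n : ℕ) {l : List (Fin 14)}, (∀ x ∈ l, x ∈ S) → ∀ x ∈ clos n l, x ∈ S
  | 0, _, hl, x, hx => hl x hx
  | n + 1, l, hl, x, hx => by
    rw [clos, List.mem_eraseDups, List.mem_append, List.mem_append, List.mem_map, List.mem_map] at hx
    rcases hx with (hx | ⟨y, hy, rfl⟩) | ⟨y, hy, rfl⟩
    exacts [clos_sub h n hl x hx, h 0 y (clos_sub h n hl y hy), h 1 y (clos_sub h n hl y hy)]

/-- The orbit of a representative. -/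
def repOf (x : Fin 14) : Fin 14 :=
  if x = 0 then 0 else if x ∈ ([1, 12, 13] : List (Fin 14)) then 1
    else if x ∈ ([2, 3, 4, 5] : List (Fin 14)) then 2 else 6

theorem clos_ok : ∀ x : Fin 14, x ∈ clos 6 [repOf x] ∧ repOf x ∈ clos 6 [x] := by decide +kernel

theorem union_ok : ∀ b1 b2 b6 : Bool,
    (Finset.univ.filter fun x : Fin 14 => (repOf x = 0) ∨ (b1 = true ∧ repOf x = 1) ∨
      (b2 = true ∧ repOf x = 2) ∨ (b6 = true ∧ repOf x = 6)).card = 7 → b1 = false ∧ b2 = false ∧ b6 = true := by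
  decide +kernel

theorem repOf_cases : ∀ x, repOf x = 0 ∨ repOf x = 1 ∨ repOf x = 2 ∨ repOf x = 6 := by decide +kernel

theorem orbO_eq : (Finset.univ.filter fun x : Fin 14 => repOf x = 0 ∨ repOf x = 6) = orbO := by decide +kernel

theorem closed_eq {S : Finset (Fin 14)} (h0 : (0 : Fin 14) ∈ S) (hcard : S.card = 7)
    (h : ∀ r, ∀ x ∈ S, actP r x ∈ S) : S = orbO := by
  have hiff : ∀ x, x ∈ S ↔ repOf x ∈ S := fun x =>
    ⟨fun hx => clos_sub h 6 (l := [x]) (by simp [hx]) _ (clos_ok x).2,
      fun hx => clos_sub h 6 (l := [repOf x]) (by simp [hx]) _ (clos_ok x).1⟩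
  have hS : S = Finset.univ.filter fun x : Fin 14 => (repOf x = 0) ∨
      (decide ((1 : Fin 14) ∈ S) = true ∧ repOf x = 1) ∨ (decide ((2 : Fin 14) ∈ S) = true ∧ repOf x = 2) ∨
      (decide ((6 : Fin 14) ∈ S) = true ∧ repOf x = 6) := by
    ext x
    rw [Finset.mem_filter, hiff]
    rcases repOf_cases x with e | e | e | e <;> simp [e, h0]
  obtain ⟨e1, e2, e6⟩ := union_ok _ _ _ (hS ▸ hcard)
  rw [hS, ← orbO_eq]
  refine Finset.filter_congr fun x _ => ?_
  simp [e1, e2, e6]

theorem cls_eight_eq : cls (eightAt none : GolayPt → ℤ) = cls (repV 0 : GolayPt → ℤ) := by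
  have : ∀ p : GolayPt, embA (repA.getD 0 []) p = if p = pt 9 then 8 else 0 := by decide +kernel
  rw [← cls_eightAt (pt 9)]
  congr 1
  funext p
  rw [eightAt_apply]
  exact (this p).symm

/-- The orbit of the first class under the centraliser. -/
theorem range_C0 : Set.range (fun g : C0 => classIx ⟨g, C0_le_N0 g.2⟩) = (orbO : Set (Fin 14)) := by
  classical
  set R := Set.range (fun g : C0 => classIx ⟨g, C0_le_N0 g.2⟩) with hR
  have hspec : ∀ {g : Co0} (hg : g ∈ C0) {j : Fin 14},
      classIx ⟨g, C0_le_N0 hg⟩ = j ↔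
        cls ((g • eightAt none : leechLattice) : GolayPt → ℤ) = cls (repV j : GolayPt → ℤ) := fun {g} hg {j} =>
    ⟨fun e => e ▸ classIx_spec ⟨g, C0_le_N0 hg⟩,
      fun e => repV_injective ((classIx_spec ⟨g, C0_le_N0 hg⟩).symm.trans e)⟩
  have hc : R.toFinset.card = 7 := by
    have h := card_eq_range C0 C0_le_N0
    rw [card_C0, card_mono_C0, ← hR] at h
    rw [Set.toFinset_card, ← Nat.card_eq_fintype_card]
    omega
  have h0 : (0 : Fin 14) ∈ R.toFinset := by
    rw [Set.mem_toFinset]
    exact ⟨1, (hspec (one_mem C0)).2 (by rw [one_smul]; exact cls_eight_eq)⟩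
  have hcl : ∀ r, ∀ x ∈ R.toFinset, actP r x ∈ R.toFinset := by
    intro r x hx
    rw [Set.mem_toFinset] at hx ⊢
    obtain ⟨g, hg⟩ := hx
    obtain ⟨a, ⟨-, ha⟩, haj⟩ := exists_gen r
    refine ⟨⟨a * g, mul_mem ha g.2⟩, (hspec (mul_mem ha g.2)).2 ?_⟩
    rw [mul_smul]
    exact (cls_smul a ((hspec g.2).1 hg)).trans (haj x)
  rw [← closed_eq h0 hc hcl, Set.coe_toFinset]

/-- The centraliser permutes the seven classes. -/
theorem smul_orbO {g : Co0} (hg : g ∈ C0) {j : Fin 14} (hj : j ∈ orbO) :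
    ∃ i ∈ orbO, cls ((g • repV j : leechLattice) : GolayPt → ℤ) = cls (repV i : GolayPt → ℤ) := by
  obtain ⟨⟨h, hh⟩, rfl⟩ := (Set.ext_iff.1 range_C0 j).2 hj
  refine ⟨classIx ⟨g * h, C0_le_N0 (mul_mem hg hh)⟩, ?_, ?_⟩
  · exact (Set.ext_iff.1 range_C0 _).1 ⟨⟨g * h, mul_mem hg hh⟩, rfl⟩
  · rw [← classIx_spec, mul_smul]
    exact cls_smul g (classIx_spec ⟨h, C0_le_N0 hh⟩).symm

/-- The three spanning vectors. -/
def baseW (i : Fin 3) : leechLattice := repV (Fin.ofNat 14 (basisIx.getD i.1 0))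

/-- The class of a combination of the spanning vectors. -/
def clsW : (Fin 3 → ZMod 2) → (GolayPt → ℤ) ⧸ twoLeech :=
  fun c => ∑ i, (c i).val • cls (baseW i : GolayPt → ℤ)

theorem nsmul_add_val {A : Type*} [AddCommGroup A] {x : A} (hx : x + x = 0) (a b : ZMod 2) :
    (a + b).val • x = a.val • x + b.val • x := by
  rcases eq_zero_or_one a with rfl | rfl <;> rcases eq_zero_or_one b with rfl | rfl <;>
    simp [hx, show (1 + 1 : ZMod 2) = 0 from rfl, ZMod.val_one]

/-- The same, as a homomorphism. -/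
def clsWHom : (Fin 3 → ZMod 2) →+ (GolayPt → ℤ) ⧸ twoLeech :=
  AddMonoidHom.mk' clsW fun a b => by
    simp only [clsW, Pi.add_apply, nsmul_add_val (cls_two_smul _), Finset.sum_add_distrib]

/-- The coordinate list of a combination. -/
def combL (c : Fin 3 → ZMod 2) : List ℤ :=
  (List.range 24).map fun k => ∑ i : Fin 3, ((c i).val : ℤ) *
    (embL (repA.getD (Fin.ofNat 14 (basisIx.getD i.1 0)).val [])).getD k 0

theorem comb_ok : ∀ c : Fin 3 → ZMod 2, (c = 0 ∨ clsB (combL c) (vL 0) = false) ∧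
    (c = 0 ∨ ∃ j ∈ orbO, clsB (combL c) (embL (repA.getD j.val [])) = true) := by decide +kernel

theorem comb_surj : ∀ j ∈ orbO, ∃ c : Fin 3 → ZMod 2,
    clsB (combL c) (embL (repA.getD j.val [])) = true := by decide +kernel

/-- The vector of a combination. -/
def vecW (c : Fin 3 → ZMod 2) : leechLattice := ∑ i, (c i).val • baseW i

theorem cls_vecW (c : Fin 3 → ZMod 2) : cls (vecW c : GolayPt → ℤ) = clsW c := by
  rw [← clsHom_apply, vecW, AddSubmonoidClass.coe_finset_sum, map_sum]
  exact Finset.sum_congr rfl fun i _ => by rw [AddSubmonoidClass.coe_nsmul, map_nsmul, clsHom_apply]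

theorem vL_vecW (c : Fin 3 → ZMod 2) : vL (vecW c : GolayPt → ℤ) = combL c := by
  refine List.map_congr_left fun k hk => ?_
  rw [vecW, AddSubmonoidClass.coe_finset_sum, Finset.sum_apply]
  refine Finset.sum_congr rfl fun i _ => ?_
  rw [AddSubmonoidClass.coe_nsmul, Pi.smul_apply, nsmul_eq_mul, ← vL_embA,
    vL_getD _ (List.mem_range.1 hk)]
  rfl

theorem clsW_eq_zero {c : Fin 3 → ZMod 2} (h : clsW c = 0) : c = 0 := by
  rcases (comb_ok c).1 with e | e
  · exact e
  · rw [← cls_vecW, cls_zero_iff, vL_vecW, e] at h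
    exact absurd h (by decide)

theorem clsW_injective : Function.Injective clsW := fun a b h => by
  have h1 : clsWHom (a - b) = 0 := by
    rw [map_sub]; exact sub_eq_zero.2 h
  exact sub_eq_zero.1 (clsW_eq_zero h1)

theorem clsW_single (i : Fin 3) : clsW (Pi.single i 1) = cls (baseW i : GolayPt → ℤ) := by
  simp only [clsW]
  rw [Finset.sum_eq_single i (fun j _ hj => by simp [hj]) (by simp), Pi.single_eq_same]
  exact one_nsmul _

theorem clsW_orbO {j : Fin 14} (hj : j ∈ orbO) : ∃ c, clsW c = cls (repV j : GolayPt → ℤ) := by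
  obtain ⟨c, hc⟩ := comb_surj j hj
  exact ⟨c, by rw [← cls_vecW, ← clsB_iff, vL_vecW]; show clsB _ (vL (embA _)) = true; rwa [vL_embA]⟩

theorem basis_mem : ∀ i : Fin 3, (Fin.ofNat 14 (basisIx.getD i.1 0)) ∈ orbO := by decide +kernel

theorem exists_col {g : Co0} (hg : g ∈ C0) (i : Fin 3) :
    ∃ c, clsW c = cls ((g • baseW i : leechLattice) : GolayPt → ℤ) := by
  obtain ⟨j, hj, e⟩ := smul_orbO hg (basis_mem i)
  obtain ⟨c, hc⟩ := clsW_orbO hj
  exact ⟨c, hc.trans e.symm⟩

/-- The matrix of an element of the centraliser. -/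
noncomputable def matW (g : C0) : Matrix (Fin 3) (Fin 3) (ZMod 2) :=
  Matrix.of fun r i => Classical.choose (exists_col g.2 i) r

theorem matW_col (g : C0) (i : Fin 3) :
    clsW (fun r => matW g r i) = cls ((g.1 • baseW i : leechLattice) : GolayPt → ℤ) :=
  Classical.choose_spec (exists_col g.2 i)

theorem cls_smul_vecW (g : C0) (c : Fin 3 → ZMod 2) :
    cls ((g.1 • vecW c : leechLattice) : GolayPt → ℤ) = clsW ((matW g).mulVec c) := by
  have h1 : cls ((g.1 • vecW c : leechLattice) : GolayPt → ℤ) =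
      ∑ i, (c i).val • clsWHom (fun r => matW g r i) := by
    rw [← clsHom_apply, vecW, smul_sum', AddSubmonoidClass.coe_finset_sum, map_sum]
    refine Finset.sum_congr rfl fun i _ => ?_
    rw [show g.1 • ((c i).val • baseW i) = (c i).val • (g.1 • baseW i) from map_nsmul (toAddHom g.1) _ _,
      AddSubmonoidClass.coe_nsmul, map_nsmul, clsHom_apply]
    exact congrArg _ (matW_col g i).symm
  rw [h1, Finset.sum_congr rfl fun i _ => (map_nsmul clsWHom (c i).val _).symm, ← map_sum]
  refine congrArg clsW (funext fun r => ?_)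
  rw [Finset.sum_apply]
  show _ = ∑ i, matW g r i * c i
  refine Finset.sum_congr rfl fun i _ => ?_
  rw [Pi.smul_apply, nsmul_eq_mul, ZMod.natCast_val, ZMod.cast_id, mul_comm]

theorem matW_mul (a b : C0) : matW (a * b) = matW a * matW b := by
  ext r i
  have h : (fun r => matW (a * b) r i) = (matW a).mulVec (fun r => matW b r i) := by
    refine clsW_injective ?_
    rw [matW_col, ← cls_smul_vecW, Subgroup.coe_mul, mul_smul]
    exact cls_smul a.1 ((cls_vecW _).trans (matW_col b i)).symm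
  exact congrFun h r

theorem matW_one : matW 1 = 1 := by
  ext r i
  have h : (fun r => matW 1 r i) = Pi.single i 1 :=
    clsW_injective ((matW_col 1 i).trans (by rw [OneMemClass.coe_one, one_smul, clsW_single]))
  rw [congrFun h r, Matrix.one_apply, Pi.single_apply]

theorem det_matW (g : C0) : (matW g).det = 1 := by
  have h : (matW g).det * (matW g⁻¹).det = 1 := by
    rw [← Matrix.det_mul, ← matW_mul, mul_inv_cancel, matW_one, Matrix.det_one]
  rcases eq_zero_or_one (matW g).det with e | e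
  · rw [e, zero_mul] at h; exact absurd h zero_ne_one
  · exact e

/-- The linear action. -/
noncomputable def φ0 : C0 →* Matrix.SpecialLinearGroup (Fin 3) (ZMod 2) where
  toFun g := ⟨matW g, det_matW g⟩
  map_one' := Subtype.ext matW_one
  map_mul' a b := Subtype.ext (matW_mul a b)

theorem kernel_check : ∀ m ∈ fixWords, ∀ L ∈ sevN, conjB sevR sevR L = true →
    clsB (actL m L (embL (repA.getD 6 []))) (embL (repA.getD 6 [])) = true →
    clsB (actL m L (embL (repA.getD 7 []))) (embL (repA.getD 7 [])) = true →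
      (m = 0 ∨ m = 16777215) ∧ L ∈ sevPow := by decide +kernel

theorem sevPow_len : sevPow.length = 7 := by decide +kernel

/-- The kernel of the linear action. -/
theorem φ0_ker {g : C0} (h : φ0 g = 1) : ∃ k < 7, g.1 = bh ^ k ∨ g.1 = negAut * bh ^ k := by
  have hfix : ∀ i : Fin 3, cls ((g.1 • baseW i : leechLattice) : GolayPt → ℤ) =
      cls (baseW i : GolayPt → ℤ) := by
    intro i
    rw [← matW_col, show matW g = 1 from congrArg Subtype.val h, ← clsW_single]
    refine congrArg clsW (funext fun r => ?_)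
    rw [Matrix.one_apply, Pi.single_apply]
  have hm : g.1 ∈ monoGroup := by
    show cls ((g.1 • eightAt none : leechLattice) : GolayPt → ℤ) = _
    rw [cls_eight_eq]
    exact (cls_smul g.1 cls_eight_eq).trans (hfix 0)
  obtain ⟨⟨w, σ⟩, hg, hw, hσ⟩ := mem_mono_C0.1 ⟨hm, g.2⟩
  obtain ⟨m, hmW, hwm⟩ := fixW_eq.1 hw
  obtain ⟨hwm', rfl⟩ : ∃ hm' : vec m ∈ golayCode, w = ⟨vec m, hm'⟩ := ⟨hwm ▸ w.2, Subtype.ext hwm⟩
  have hc : conjB sevR sevR (toList σ.1) = true := (List.mem_filter.1 (mem_cent_rho.1 hσ)).2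
  have hchk : ∀ i : Fin 3, clsB (actL m (toList σ.1) (embL (repA.getD (Fin.ofNat 14 (basisIx.getD i.1 0)).val [])))
      (embL (repA.getD (Fin.ofNat 14 (basisIx.getD i.1 0)).val [])) = true := by
    intro i
    rw [← vL_embA]
    show clsB (actL m (toList σ.1) (vL (baseW i : GolayPt → ℤ))) (vL (baseW i : GolayPt → ℤ)) = true
    rw [← vL_monoAut m hwm' σ (baseW i), clsB_iff, hg]
    exact hfix i
  obtain ⟨h1, h2⟩ := kernel_check m hmW _ (List.mem_filter.1 (mem_cent_rho.1 hσ)).1 hc (hchk 1) (hchk 2)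
  obtain ⟨k, hk, hkL⟩ := List.getElem_of_mem h2
  rw [sevPow_len] at hk
  refine ⟨k, hk, ?_⟩
  have hσk : σ = rho ^ k := toList_coe_injective (by
    show toList σ.1 = toList (rho ^ k).1
    rw [toList_rho_pow, sevPow_ok k hk, List.getD_eq_getElem _ _ (by rw [sevPow_len]; exact hk), hkL])
  rcases h1 with rfl | rfl
  · left
    rw [← hg, monoAut, hσk, map_pow, show (⟨vec 0, hwm'⟩ : golayCode) = 0 from Subtype.ext vec_zero,
      signAut_zero, one_mul]
    rfl
  · right
    rw [← hg, monoAut, hσk, map_pow, show (⟨vec 16777215, hwm'⟩ : golayCode) = oneWord from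
      Subtype.ext ((by decide +kernel : vec 16777215 = (1 : GolayPt → ZMod 2))), signAut_one]
    rfl

theorem φ0_surjective : Function.Surjective φ0 := by
  rw [← MonoidHom.range_eq_top]
  refine Subgroup.eq_top_of_card_eq _ (le_antisymm (Subgroup.card_le_card_group _) ?_)
  rw [card_sl32]
  have hk : Nat.card φ0.ker ≤ 14 := by
    have hsurj : ∀ g : φ0.ker, ∃ p : Fin 7 × Bool,
        g.1.1 = (if p.2 then negAut else 1) * bh ^ p.1.1 := fun g => by
      obtain ⟨k, hk, e | e⟩ := φ0_ker g.2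
      exacts [⟨(⟨k, hk⟩, false), by simp [e]⟩, ⟨(⟨k, hk⟩, true), by simp [e]⟩]
    choose f hf using hsurj
    calc Nat.card φ0.ker ≤ Nat.card (Fin 7 × Bool) := Nat.card_le_card_of_injective f fun a b e =>
          Subtype.ext (Subtype.ext ((hf a).trans (e ▸ (hf b).symm)))
      _ = 14 := by simp
  have h := Subgroup.card_mul_index φ0.ker
  rw [Subgroup.index_ker, card_C0] at h
  nlinarith

end CfsgLib.Monster.Seven
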