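import Cfsg.Agent.Monster.Seven.Fixed
import Cfsg.Agent.Monster.Seven.Witness
import Cfsg.Agent.Leech.CentralizerP
import Cfsg.Agent.Leech.Frame
import Cfsg.Agent.Leech.Irreducible
import Mathlib.GroupTheory.Sylow

/-!
# The normaliser and the centraliser of the element of order seven
-/

set_option autoImplicit false
set_option maxRecDepth 100000
set_option maxHeartbeats 1000000
set_option linter.style.haveILetI false

namespace CfsgLib.Monster.Seven

open Cfsg CfsgLib CfsgLib.Golay CfsgLib.Golay.Cert CfsgLib.Leech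

attribute [local irreducible] shortVecs halfTable quarterTable codeFinset

theorem permHom_injective : Function.Injective permHom := by
  refine (injective_iff_map_eq_one _).2 fun σ hσ => permHom_central (by rw [hσ]; exact one_mem _)

theorem orderOf_bh : orderOf bh = 7 := by
  rw [bh, orderOf_injective permHom permHom_injective, orderOf_rho]

theorem bh_ne : bh ≠ 1 := fun e => by
  have := orderOf_bh
  rw [e, orderOf_one] at this
  omega

/-- The subgroup of order seven. -/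
noncomputable def B0 : Subgroup Co0 := Subgroup.zpowers bh

/-- Its normaliser. -/
noncomputable def N0 : Subgroup Co0 := Subgroup.normalizer (B0 : Set Co0)

/-- The centraliser of the element. -/
noncomputable def C0 : Subgroup Co0 := Subgroup.centralizer ({bh} : Set Co0)

theorem mem_C0 {g : Co0} : g ∈ C0 ↔ g * bh = bh * g := Subgroup.mem_centralizer_singleton_iff

theorem mem_N0 {g : Co0} : g ∈ N0 ↔ ∃ k < 7, k ≠ 0 ∧ g * bh = bh ^ k * g := by
  haveI : Fact (Nat.Prime 7) := ⟨by norm_num⟩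
  constructor
  · intro h
    have hm : g * bh * g⁻¹ ∈ Subgroup.zpowers bh :=
      (Subgroup.mem_normalizer_iff.mp h bh).mp (Subgroup.mem_zpowers bh)
    obtain ⟨k, hk⟩ := mem_powers_iff_mem_zpowers.mpr hm
    dsimp only at hk
    obtain ⟨k, hk7, hk⟩ : ∃ k < 7, g * bh * g⁻¹ = bh ^ k :=
      ⟨k % 7, Nat.mod_lt _ (by norm_num), by rw [← orderOf_bh, pow_mod_orderOf, hk]⟩
    refine ⟨k, hk7, fun e => bh_ne ?_, mul_inv_eq_iff_eq_mul.1 hk⟩
    rw [e, pow_zero] at hk
    exact conj_eq_one_iff.1 hk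
  · rintro ⟨k, hk7, hk0, hk⟩
    rw [N0, Subgroup.mem_normalizer_iff_map_conj_eq, B0, MonoidHom.map_zpowers]
    show Subgroup.zpowers (g * bh * g⁻¹) = _
    rw [hk, mul_inv_cancel_right]
    refine Subgroup.eq_of_le_of_card_ge (Subgroup.zpowers_le.mpr (pow_mem (Subgroup.mem_zpowers bh) k)) ?_
    rw [Nat.card_zpowers, Nat.card_zpowers, orderOf_pow' _ hk0, orderOf_bh,
      Nat.Coprime.gcd_eq_one ((Nat.Prime.coprime_iff_not_dvd (by norm_num)).mpr fun h =>
        absurd (Nat.le_of_dvd (by omega) h) (by omega)), Nat.div_one]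

theorem C0_le_N0 : C0 ≤ N0 := fun g hg =>
  mem_N0.2 ⟨1, by norm_num, one_ne_zero, by rw [pow_one]; exact mem_C0.1 hg⟩

/-! ### The monomial part -/

/-- A code word moved by a permutation. -/
def moveW (σ : M24) (w : golayCode) : golayCode :=
  ⟨fun i => (w : GolayPt → ZMod 2) ((σ : Equiv.Perm GolayPt)⁻¹ i), M24_code (inv_mem σ.2) w.2⟩

theorem monoAut_mul_bh (w : golayCode) (σ : M24) : monoAut (w, σ) * bh = monoAut (w, σ * rho) := by
  rw [monoAut, monoAut, bh, mul_assoc, ← map_mul]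

theorem bh_pow_mul_monoAut (k : ℕ) (w : golayCode) (σ : M24) :
    bh ^ k * monoAut (w, σ) = monoAut (moveW (rho ^ k) w, rho ^ k * σ) := by
  rw [monoAut, monoAut, bh, ← map_pow, ← mul_assoc, permHom_mul_signAut, mul_assoc, ← map_mul]
  rfl

/-- The code words fixed by the permutation of order seven. -/
def fixW : Set golayCode := {w | ∀ p, (w : GolayPt → ZMod 2) ((rho : Equiv.Perm GolayPt) p) = (w : GolayPt → ZMod 2) p}

theorem fixW_iff {w : golayCode} {k : ℕ} (hk : k < 7) (hk0 : k ≠ 0) :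
    moveW (rho ^ k) w = w ↔ w ∈ fixW := by
  let S : Subgroup M24 :=
    { carrier := {τ | ∀ p, (w : GolayPt → ZMod 2) ((τ : Equiv.Perm GolayPt) p) = (w : GolayPt → ZMod 2) p}
      one_mem' := fun p => rfl
      mul_mem' := fun {a b} ha hb p => (ha _).trans (hb p)
      inv_mem' := fun {a} ha p => by
        rw [← ha (((a⁻¹ : M24) : Equiv.Perm GolayPt) p)]
        simp }
  have h1 : moveW (rho ^ k) w = w ↔ (rho ^ k)⁻¹ ∈ S := by
    constructor
    · intro h p
      exact congrFun (congrArg Subtype.val h) p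
    · exact fun h => Subtype.ext (funext h)
  rw [h1, inv_mem_iff]
  show _ ↔ rho ∈ S
  refine ⟨fun h => ?_, fun h => pow_mem h k⟩
  refine (Subgroup.zpowers_le.2 h : Subgroup.zpowers (rho ^ k) ≤ S) ?_
  rw [zpowers_pow hk hk0]
  exact Subgroup.mem_zpowers rho

theorem mono_conj_iff {w : golayCode} {σ : M24} {k : ℕ} (hk : k < 7) (hk0 : k ≠ 0) :
    monoAut (w, σ) * bh = bh ^ k * monoAut (w, σ) ↔ w ∈ fixW ∧ σ * rho = rho ^ k * σ := by
  rw [monoAut_mul_bh, bh_pow_mul_monoAut, ← fixW_iff hk hk0]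
  constructor
  · intro h
    have h' := monoAut_injective h
    rw [Prod.mk.injEq] at h'
    exact ⟨h'.1.symm, h'.2⟩
  · rintro ⟨h, h'⟩
    rw [h, h']

theorem mem_norm_rho {σ : M24} : σ ∈ Subgroup.normalizer (Subgroup.zpowers rho : Set M24) ↔
    ∃ k < 7, k ≠ 0 ∧ σ * rho = rho ^ k * σ := by
  constructor
  · intro h
    obtain ⟨-, -, h3⟩ := sev_list.2.2.2.2 _ (sev_norm_list h)
    obtain ⟨k, hk, hk'⟩ := List.any_eq_true.mp h3
    rw [Bool.and_eq_true, bne_iff_ne] at hk'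
    refine ⟨k, List.mem_range.1 hk, hk'.1, conjB_iff.mp ?_⟩
    rw [toList_rho, toList_rho_pow]
    exact hk'.2
  · rintro ⟨k, hk, hk0, he⟩
    rw [Subgroup.mem_normalizer_iff_map_conj_eq, MonoidHom.map_zpowers]
    show Subgroup.zpowers (σ * rho * σ⁻¹) = _
    rw [he, mul_inv_cancel_right, zpowers_pow hk hk0]

theorem mem_mono_N0 {g : Co0} : g ∈ monoGroup ⊓ N0 ↔
    ∃ x : golayCode × M24, monoAut x = g ∧ x.1 ∈ fixW ∧
      x.2 ∈ Subgroup.normalizer (Subgroup.zpowers rho : Set M24) := by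
  constructor
  · rintro ⟨hm, hn⟩
    obtain ⟨⟨w, σ⟩, rfl⟩ := (mem_monoGroup_iff g).1 hm
    obtain ⟨k, hk, hk0, he⟩ := mem_N0.1 hn
    obtain ⟨h1, h2⟩ := (mono_conj_iff hk hk0).1 he
    exact ⟨_, rfl, h1, mem_norm_rho.2 ⟨k, hk, hk0, h2⟩⟩
  · rintro ⟨⟨w, σ⟩, rfl, h1, h2⟩
    obtain ⟨k, hk, hk0, he⟩ := mem_norm_rho.1 h2
    exact ⟨(mem_monoGroup_iff _).2 ⟨_, rfl⟩, mem_N0.2 ⟨k, hk, hk0, (mono_conj_iff hk hk0).2 ⟨h1, he⟩⟩⟩

theorem mem_mono_C0 {g : Co0} : g ∈ monoGroup ⊓ C0 ↔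
    ∃ x : golayCode × M24, monoAut x = g ∧ x.1 ∈ fixW ∧
      x.2 ∈ Subgroup.centralizer (Subgroup.zpowers rho : Set M24) := by
  have hc : ∀ σ : M24, σ ∈ Subgroup.centralizer (Subgroup.zpowers rho : Set M24) ↔ σ * rho = rho ^ 1 * σ := by
    intro σ
    rw [pow_one]
    constructor
    · exact fun h => (Subgroup.mem_centralizer_iff.mp h rho (Subgroup.mem_zpowers rho)).symm
    · intro h
      rw [Subgroup.mem_centralizer_iff]
      rintro x ⟨i, rfl⟩
      exact ((Commute.zpow_right (h : Commute σ rho) i).eq).symm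
  constructor
  · rintro ⟨hm, hn⟩
    obtain ⟨⟨w, σ⟩, rfl⟩ := (mem_monoGroup_iff g).1 hm
    obtain ⟨h1, h2⟩ := (mono_conj_iff (k := 1) (by norm_num) one_ne_zero).1 (by rw [pow_one]; exact mem_C0.1 hn)
    exact ⟨_, rfl, h1, (hc σ).2 h2⟩
  · rintro ⟨⟨w, σ⟩, rfl, h1, h2⟩
    exact ⟨(mem_monoGroup_iff _).2 ⟨_, rfl⟩, mem_C0.2 (by
      have := (mono_conj_iff (k := 1) (by norm_num) one_ne_zero).2 ⟨h1, (hc σ).1 h2⟩
      rwa [pow_one] at this)⟩

theorem fixWords_ok : fixWords.Nodup ∧ fixWords.length = 8 ∧ ∀ m ∈ fixWords, m < 2 ^ 24 ∧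
    word (m % 4096) = m ∧ ∀ i < 24, m.testBit (sevR.getD i 0) = m.testBit i := by decide +kernel

theorem fixWords_complete : ∀ c < 4096,
    ((List.range 24).all fun i => (word c).testBit (sevR.getD i 0) == (word c).testBit i) = true →
      word c ∈ fixWords :=
  forall_lt_4096 (by decide +kernel)

theorem fixW_eq {w : golayCode} : w ∈ fixW ↔ ∃ m ∈ fixWords, (w : GolayPt → ZMod 2) = vec m := by
  constructor
  · intro h
    obtain ⟨c, hc, hw⟩ := (mem_code_iff _).1 w.2
    refine ⟨word c, fixWords_complete c hc (List.all_eq_true.2 fun i hi => ?_), hw⟩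
    rw [List.mem_range] at hi
    have := h (pt i)
    rw [hw, vec, vec, ← toList_getD_idx, toList_rho, idx_pt i hi] at this
    rw [beq_iff_eq]
    revert this
    cases (word c).testBit (sevR.getD i 0) <;> cases (word c).testBit i <;> simp
  · rintro ⟨m, hm, hw⟩ p
    rw [hw, vec, vec, ← toList_getD_idx, toList_rho, (fixWords_ok.2.2 m hm).2.2 _ (idx_lt p)]

theorem card_fixW : Nat.card fixW = 8 := by
  have hmem : ∀ m ∈ fixWords, vec m ∈ golayCode := fun m hm => by
    rw [← (fixWords_ok.2.2 m hm).2.1]; exact vec_word_mem _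
  have e : {m // m ∈ fixWords} ≃ fixW := Equiv.ofBijective
    (fun m => ⟨⟨vec m.1, hmem m m.2⟩, fixW_eq.2 ⟨m.1, m.2, rfl⟩⟩)
    ⟨fun a b h => Subtype.ext (vec_inj (fixWords_ok.2.2 a a.2).1 (fixWords_ok.2.2 b b.2).1
      (congrArg (fun x : fixW => ((x : golayCode) : GolayPt → ZMod 2)) h)),
    fun w => by
      obtain ⟨m, hm, hw⟩ := fixW_eq.1 w.2
      exact ⟨⟨m, hm⟩, Subtype.ext (Subtype.ext hw.symm)⟩⟩
  rw [← Nat.card_congr e, Nat.card_eq_fintype_card,
    Fintype.card_of_subtype fixWords.toFinset (fun _ => List.mem_toFinset),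
    List.toFinset_card_of_nodup fixWords_ok.1]
  exact fixWords_ok.2.1

theorem card_mono_sub {H : Subgroup Co0} {K : Subgroup M24}
    (h : ∀ g : Co0, g ∈ H ↔ ∃ x : golayCode × M24, monoAut x = g ∧ x.1 ∈ fixW ∧ x.2 ∈ K) :
    Nat.card H = 8 * Nat.card K := by
  have e : fixW × K ≃ H := Equiv.ofBijective
    (fun x => ⟨monoAut (x.1.1, x.2.1), (h _).2 ⟨_, rfl, x.1.2, x.2.2⟩⟩)
    ⟨fun a b hab => by
      have := monoAut_injective (congrArg Subtype.val hab)
      rw [Prod.mk.injEq] at this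
      exact Prod.ext (Subtype.ext this.1) (Subtype.ext this.2),
    fun g => by
      obtain ⟨⟨w, σ⟩, hg, hw, hσ⟩ := (h g.1).1 g.2
      exact ⟨(⟨w, hw⟩, ⟨σ, hσ⟩), Subtype.ext hg⟩⟩
  rw [← Nat.card_congr e, Nat.card_prod, card_fixW]

theorem card_mono_N0 : Nat.card ↥(monoGroup ⊓ N0) = 1008 := by
  rw [card_mono_sub fun g => mem_mono_N0, card_norm_rho]

theorem card_mono_C0 : Nat.card ↥(monoGroup ⊓ C0) = 336 := by
  rw [card_mono_sub fun g => mem_mono_C0, card_cent_rho]

/-! ### The action on the fourteen classes -/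

theorem bh_mem_mono : bh ∈ monoGroup :=
  (mem_monoGroup_iff _).2 ⟨(0, rho), by rw [monoAut, signAut_zero, one_mul]; rfl⟩

theorem exists_index {n : Co0} (hn : n ∈ N0) :
    ∃ j, cls ((n • eightAt none : leechLattice) : GolayPt → ℤ) = cls (repV j : GolayPt → ℤ) := by
  refine fixed_class ((sqNorm_smul n _).trans (sqNorm_eightAt none)) ?_
  obtain ⟨k, -, hk0, hk⟩ := mem_N0.1 (inv_mem hn)
  have e : bh * n = n * bh ^ k := by
    calc bh * n = n * (n⁻¹ * bh) * n := by group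
      _ = n * (bh ^ k * n⁻¹) * n := by rw [hk]
      _ = n * bh ^ k := by group
  rw [← mul_smul, e, mul_smul]
  exact cls_smul n (pow_mem bh_mem_mono k)

/-- The index of the class of the image of the standard frame. -/
noncomputable def classIx (n : N0) : Fin 14 := Classical.choose (exists_index n.2)

theorem classIx_spec (n : N0) :
    cls ((n.1 • eightAt none : leechLattice) : GolayPt → ℤ) = cls (repV (classIx n) : GolayPt → ℤ) :=
  Classical.choose_spec (exists_index n.2)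

theorem classIx_eq_iff (a b : N0) : classIx a = classIx b ↔ a.1⁻¹ * b.1 ∈ monoGroup := by
  show _ ↔ cls (((a.1⁻¹ * b.1) • eightAt none : leechLattice) : GolayPt → ℤ) =
    cls (eightAt none : GolayPt → ℤ)
  constructor
  · intro h
    have h1 := (classIx_spec b).trans ((h ▸ classIx_spec a).symm)
    have h2 := cls_smul a.1⁻¹ h1
    rwa [← mul_smul, inv_smul_smul] at h2
  · intro h
    have h2 := cls_smul a.1 h
    rw [mul_smul, smul_inv_smul] at h2
    exact repV_injective ((classIx_spec a).symm.trans (h2.symm.trans (classIx_spec b)))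

theorem card_eq_range (H : Subgroup Co0) (hH : H ≤ N0) :
    Nat.card H = Nat.card (Set.range fun g : H => classIx ⟨g, hH g.2⟩) * Nat.card ↥(monoGroup ⊓ H) := by
  let f : H → Fin 14 := fun g => classIx ⟨g, hH g.2⟩
  set K := monoGroup.subgroupOf H with hK
  have hf : ∀ a b : H, f a = f b ↔ a⁻¹ * b ∈ K := fun a b => by
    rw [Subgroup.mem_subgroupOf]; exact classIx_eq_iff _ _
  have e : H ⧸ K ≃ Set.range f := Equiv.ofBijective
    (fun q => Quotient.liftOn' q (fun g => (⟨f g, g, rfl⟩ : Set.range f))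
      fun a b hab => Subtype.ext ((hf a b).2 (QuotientGroup.leftRel_apply.mp hab)))
    ⟨fun a b => Quotient.inductionOn₂' a b fun a b h =>
        Quotient.sound' (QuotientGroup.leftRel_apply.mpr ((hf a b).1 (congrArg Subtype.val h))),
      fun ⟨_, g, hg⟩ => ⟨QuotientGroup.mk g, Subtype.ext hg⟩⟩
  rw [← Subgroup.card_mul_index K, mul_comm]
  congr 1
  · exact Nat.card_congr e
  · rw [hK, ← Subgroup.inf_subgroupOf_right monoGroup H]
    exact Nat.card_congr (Subgroup.subgroupOfEquivOfLe inf_le_right).toEquiv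

theorem classIx_surjective : Function.Surjective classIx := by
  intro j
  obtain ⟨g, hg⟩ := frame_transitive (v := eightAt none) (w := repV j) (sqNorm_eightAt none) (repV_norm j)
  set m := g⁻¹ * bh * g with hm
  have hmfix : m • eightAt none = eightAt none := by
    rw [hm, mul_smul, mul_smul, hg, repV_fixed, ← hg, inv_smul_smul]
  have hmm : m ∈ monoGroup := by
    show cls ((m • eightAt none : leechLattice) : GolayPt → ℤ) = _
    rw [hmfix]
  haveI : Fact (Nat.Prime 7) := ⟨by norm_num⟩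
  have hfac : (4096 * 244823040 : ℕ).factorization 7 = 1 := by
    rw [show (4096 * 244823040 : ℕ) = 7 * 143256453120 by norm_num, Nat.factorization_mul (by norm_num) (by norm_num),
      Finsupp.add_apply, Nat.Prime.factorization_self (by norm_num),
      Nat.factorization_eq_zero_of_not_dvd (by norm_num)]
  have hord : orderOf m = 7 := by
    rw [← orderOf_bh, ← MulEquiv.orderOf_eq (MulAut.conj g⁻¹) bh, MulAut.conj_apply, inv_inv]
  have hc1 : Nat.card (Subgroup.zpowers (⟨bh, bh_mem_mono⟩ : monoGroup)) =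
      7 ^ (Nat.card monoGroup).factorization 7 := by
    rw [card_monoGroup, hfac, pow_one, Nat.card_zpowers, Subgroup.orderOf_mk, orderOf_bh]
  have hc2 : Nat.card (Subgroup.zpowers (⟨m, hmm⟩ : monoGroup)) =
      7 ^ (Nat.card monoGroup).factorization 7 := by
    rw [card_monoGroup, hfac, pow_one, Nat.card_zpowers, Subgroup.orderOf_mk, hord]
  obtain ⟨h, hh⟩ := MulAction.exists_smul_eq monoGroup (Sylow.ofCard _ hc1) (Sylow.ofCard _ hc2)
  have hh' : (Subgroup.zpowers (⟨bh, bh_mem_mono⟩ : monoGroup)).map (MulAut.conj h).toMonoidHom =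
      Subgroup.zpowers ⟨m, hmm⟩ := by
    have := congrArg Sylow.toSubgroup hh
    simp only [Sylow.coe_subgroup_smul, Sylow.coe_ofCard] at this
    exact this
  rw [MonoidHom.map_zpowers] at hh'
  obtain ⟨i, hi⟩ : h * ⟨bh, bh_mem_mono⟩ * h⁻¹ ∈ Subgroup.zpowers (⟨m, hmm⟩ : monoGroup) :=
    hh' ▸ Subgroup.mem_zpowers _
  have hi' : m ^ i = h.1 * bh * h.1⁻¹ := congrArg Subtype.val hi
  have hn : g * h.1 ∈ N0 := by
    rw [N0, Subgroup.mem_normalizer_iff_map_conj_eq, B0, MonoidHom.map_zpowers]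
    show Subgroup.zpowers (g * h.1 * bh * (g * h.1)⁻¹) = _
    refine Subgroup.eq_of_le_of_card_ge (Subgroup.zpowers_le.mpr ?_) (le_of_eq ?_)
    · rw [show g * h.1 * bh * (g * h.1)⁻¹ = g * (h.1 * bh * h.1⁻¹) * g⁻¹ by group, ← hi',
        ← conj_zpow, show g * m * g⁻¹ = bh by rw [hm]; group]
      exact zpow_mem (Subgroup.mem_zpowers bh) i
    · rw [Nat.card_zpowers, Nat.card_zpowers]
      exact (MulEquiv.orderOf_eq (MulAut.conj (g * h.1)) bh).symm
  refine ⟨⟨g * h.1, hn⟩, repV_injective ((classIx_spec _).symm.trans ?_)⟩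
  have hh2 : cls ((h.1 • eightAt none : leechLattice) : GolayPt → ℤ) =
      cls (eightAt none : GolayPt → ℤ) := h.2
  show cls (((g * h.1) • eightAt none : leechLattice) : GolayPt → ℤ) = _
  rw [mul_smul]
  exact (cls_smul g hh2).trans (by rw [hg])

theorem card_N0 : Nat.card N0 = 14112 := by
  rw [card_eq_range N0 le_rfl]
  have : Set.range (fun g : N0 => classIx ⟨g, g.2⟩) = Set.univ := classIx_surjective.range_eq
  rw [this, Nat.card_univ, Nat.card_eq_fintype_card, Fintype.card_fin, card_mono_N0]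

theorem two_conj : ∃ σ : M24, σ * rho = rho ^ 2 * σ := by
  obtain ⟨L, hL, hc⟩ := List.any_eq_true.mp
    (by decide +kernel : (sevN.any fun L => genOK L && conjB sevR (powL sevR 2) L) = true)
  rw [Bool.and_eq_true] at hc
  refine ⟨ofList L, conjB_iff.mp ?_⟩
  rw [toList_rho, toList_rho_pow, toList_ofList hc.1]
  exact hc.2

theorem permHom_two : ∃ g ∈ monoGroup ⊓ N0, g * bh = bh ^ 2 * g := by
  obtain ⟨σ, hσ⟩ := two_conj
  refine ⟨permHom σ, ⟨(mem_monoGroup_iff _).2 ⟨(0, σ), by rw [monoAut, signAut_zero, one_mul]⟩,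
    mem_N0.2 ⟨2, by norm_num, by norm_num, ?_⟩⟩, ?_⟩ <;>
  rw [bh, ← map_pow, ← map_mul, ← map_mul, hσ]

theorem invT_mem : invT ∈ N0 := by
  refine mem_N0.2 ⟨6, by norm_num, by norm_num, mul_inv_eq_iff_eq_mul.1 ?_⟩
  rw [bh, invT_conj, inv_eq_of_mul_eq_one_left (show permHom rho ^ 6 * permHom rho = 1 by
    rw [← pow_succ]; exact bh_pow_seven)]

/-- Every exponent is realised. -/
theorem exists_conj_pow {k : ℕ} (hk : k < 7) (hk0 : k ≠ 0) : ∃ g ∈ N0, g * bh = bh ^ k * g := by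
  obtain ⟨u, ⟨-, hu⟩, hue⟩ := permHom_two
  have ht : invT * bh = bh ^ 6 * invT := by
    rw [← mul_inv_eq_iff_eq_mul, bh, invT_conj]
    exact inv_eq_of_mul_eq_one_left (by rw [← pow_succ]; exact bh_pow_seven)
  have comp : ∀ {a b : Co0} {i j : ℕ}, a * bh = bh ^ i * a → b * bh = bh ^ j * b →
      (a * b) * bh = bh ^ (i * j % 7) * (a * b) := by
    intro a b i j ha hb
    rw [mul_assoc, hb, ← mul_assoc, (SemiconjBy.pow_right (ha : SemiconjBy a bh (bh ^ i)) j).eq, ← pow_mul,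
      mul_assoc]
    congr 1
    conv_lhs => rw [← pow_mod_orderOf, orderOf_bh]
  have h1 : (1 : Co0) * bh = bh ^ 1 * 1 := by simp
  rcases (by omega : k = 1 ∨ k = 2 ∨ k = 3 ∨ k = 4 ∨ k = 5 ∨ k = 6) with rfl | rfl | rfl | rfl | rfl | rfl
  · exact ⟨1, one_mem _, h1⟩
  · exact ⟨u, hu, hue⟩
  · exact ⟨invT * (u * u), mul_mem invT_mem (mul_mem hu hu), comp ht (comp hue hue)⟩
  · exact ⟨u * u, mul_mem hu hu, comp hue hue⟩
  · exact ⟨invT * u, mul_mem invT_mem hu, comp ht hue⟩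
  · exact ⟨invT, invT_mem, ht⟩

theorem card_C0 : Nat.card C0 = 2352 := by
  set K := C0.subgroupOf N0 with hK
  have hspec : ∀ g : N0, ∃ k : Fin 7, k.1 ≠ 0 ∧ g.1 * bh = bh ^ k.1 * g.1 := fun g => by
    obtain ⟨k, hk, hk0, he⟩ := mem_N0.1 g.2
    exact ⟨⟨k, hk⟩, hk0, he⟩
  choose ex hex0 hex using hspec
  have huniq : ∀ (g : Co0) (i j : ℕ), i < 7 → j < 7 → g * bh = bh ^ i * g → g * bh = bh ^ j * g → i = j := by
    intro g i j hi hj h1 h2
    exact pow_injOn_Iio_orderOf (x := bh) (by rw [Set.mem_Iio, orderOf_bh]; exact hi)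
      (by rw [Set.mem_Iio, orderOf_bh]; exact hj) (mul_right_cancel (h1.symm.trans h2))
  have hf : ∀ a b : N0, ex a = ex b ↔ a⁻¹ * b ∈ K := by
    intro a b
    rw [Subgroup.mem_subgroupOf, mem_C0]
    show _ ↔ a.1⁻¹ * b.1 * bh = bh * (a.1⁻¹ * b.1)
    constructor
    · intro h
      rw [mul_assoc, hex b, ← h, ← mul_assoc, ← mul_assoc]
      congr 1
      rw [inv_mul_eq_iff_eq_mul, ← mul_assoc, hex a, mul_assoc, mul_inv_cancel, mul_one]
    · intro h
      refine Fin.ext (huniq b.1 _ _ (ex a).2 (ex b).2 ?_ (hex b))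
      calc b.1 * bh = a.1 * (a.1⁻¹ * b.1 * bh) := by group
        _ = a.1 * bh * (a.1⁻¹ * b.1) := by rw [h]; group
        _ = bh ^ (ex a).1 * b.1 := by rw [hex a]; group
  have e : N0 ⧸ K ≃ {k : Fin 7 // k.1 ≠ 0} := Equiv.ofBijective
    (fun q => Quotient.liftOn' q (fun g => (⟨ex g, hex0 g⟩ : {k : Fin 7 // k.1 ≠ 0}))
      fun a b hab => Subtype.ext ((hf a b).2 (QuotientGroup.leftRel_apply.mp hab)))
    ⟨fun a b => Quotient.inductionOn₂' a b fun a b h =>
        Quotient.sound' (QuotientGroup.leftRel_apply.mpr ((hf a b).1 (congrArg Subtype.val h))),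
      fun ⟨k, hk⟩ => by
        obtain ⟨g, hg, he⟩ := exists_conj_pow k.2 hk
        exact ⟨QuotientGroup.mk ⟨g, hg⟩, Subtype.ext (Fin.ext (huniq g _ _ (ex ⟨g, hg⟩).2 k.2 (hex ⟨g, hg⟩) he))⟩⟩
  have h1 := Subgroup.card_mul_index K
  have h6 : K.index = 6 := by
    rw [Subgroup.index, Nat.card_congr e, Nat.card_eq_fintype_card]
    decide
  rw [h6, card_N0, Nat.card_congr (Subgroup.subgroupOfEquivOfLe C0_le_N0).toEquiv] at h1
  omega

end CfsgLib.Monster.Seven
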