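import Cfsg.Agent.Monster.Seven.Fusion
import Cfsg.Agent.Monster.ExtraBasics
import Cfsg.Agent.Classical.Transvections

/-!
# The centraliser of the element of order seven modulo the group it generates is of Held type
-/

set_option autoImplicit false
set_option maxRecDepth 100000
set_option maxHeartbeats 1000000
set_option linter.style.haveILetI false
set_option linter.unusedSectionVars false

namespace CfsgLib.Monster.Seven

open Cfsg CfsgLib CfsgLib.Golay CfsgLib.Leech CfsgLib.Extra2

attribute [local irreducible] shortVecs halfTable quarterTable codeFinset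

theorem sl32_simple : IsSimpleGroup (Matrix.SpecialLinearGroup (Fin 3) (ZMod 2)) := by
  haveI := CfsgLib.Linear.isSimpleGroup_PSL (ι := Fin 3) (F := ZMod 2) (Or.inl (by simp))
  have hbot : Subgroup.center (Matrix.SpecialLinearGroup (Fin 3) (ZMod 2)) = ⊥ := by
    rw [eq_bot_iff]
    intro g hg
    obtain ⟨r, hr, hgr⟩ := Matrix.SpecialLinearGroup.mem_center_iff.1 hg
    have hr1 : r = 1 := (show ∀ r : ZMod 2, r ^ 3 = 1 → r = 1 by decide +revert) r (by simpa using hr)
    rw [Subgroup.mem_bot]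
    refine Subtype.ext ?_
    rw [← hgr, hr1, map_one]; rfl
  exact ((QuotientGroup.quotientMulEquivOfEq hbot).trans QuotientGroup.quotientBot).symm.isSimpleGroup

variable {G : Type*} [Group G] {z s : G} (c : Cfg z s)

/-- The centraliser of the element of order seven. -/
abbrev CB : Subgroup G := Subgroup.centralizer (Subgroup.zpowers c.β : Set G)

theorem mem_CB {x : G} : x ∈ CB c ↔ x * c.β = c.β * x := by
  rw [CB, Subgroup.zpowers_eq_closure, Subgroup.centralizer_closure,
    Subgroup.mem_centralizer_singleton_iff]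

/-- The group generated by the element, inside its centraliser. -/
abbrev BB : Subgroup (CB c) := (Subgroup.zpowers c.β).subgroupOf (CB c)

instance normal_BB : (BB c).Normal := ⟨fun n hn g => by
  rw [Subgroup.mem_subgroupOf] at hn ⊢
  have h := Subgroup.mem_centralizer_iff.1 g.2 n hn
  rw [Subgroup.coe_mul, Subgroup.coe_mul, InvMemClass.coe_inv, ← h, mul_inv_cancel_right]
  exact hn⟩

/-- The section. -/
abbrev HB : Type _ := CB c ⧸ BB c

/-- The projection. -/
abbrev qH : CB c →* HB c := QuotientGroup.mk' (BB c)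

theorem qH_eq {x y : CB c} : qH c x = qH c y ↔ (x : G)⁻¹ * y ∈ Subgroup.zpowers c.β := QuotientGroup.eq

theorem qH_eq_one {x : CB c} : qH c x = 1 ↔ (x : G) ∈ Subgroup.zpowers c.β :=
  QuotientGroup.eq_one_iff x

theorem B_Q {x : G} (hxB : x ∈ Subgroup.zpowers c.β) (hxQ : x ∈ c.D.Q) : x = 1 := by
  have h1 := Subgroup.orderOf_dvd_natCard _ hxB
  have h2 := Subgroup.orderOf_dvd_natCard c.D.Q hxQ
  rw [Nat.card_zpowers, c.ord] at h1
  rw [c.D.card] at h2
  have := Nat.dvd_gcd h1 h2
  rw [show Nat.gcd 7 (2 ^ 25) = 1 by norm_num] at this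
  exact orderOf_eq_one_iff.1 (Nat.dvd_one.1 this)

theorem B_sq {x : G} (hxB : x ∈ Subgroup.zpowers c.β) (h : x * x = 1) : x = 1 := by
  have h1 := Subgroup.orderOf_dvd_natCard _ hxB
  rw [Nat.card_zpowers, c.ord] at h1
  have := Nat.dvd_gcd h1 (orderOf_dvd_of_pow_eq_one (by rw [pow_two]; exact h : x ^ 2 = 1))
  exact orderOf_eq_one_iff.1 (Nat.dvd_one.1 this)

/-- The fixed subgroup inside the centraliser. -/
def rC : R c →* CB c where
  toFun r := ⟨(r : G), (mem_CB c).2 ((mem_R c).1 r.2).2.symm⟩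
  map_one' := rfl
  map_mul' _ _ := rfl

/-- The image of the central involution. -/
noncomputable def zb : HB c := qH c (rC c ⟨z, z_mem_R c⟩)

/-- The fixed subgroup in the section. -/
noncomputable def rb : R c →* HB c := (qH c).comp (rC c)

theorem rb_injective : Function.Injective (rb c) := by
  rw [injective_iff_map_eq_one]
  intro r hr
  exact Subtype.ext (B_Q c ((qH_eq_one c).1 hr) ((mem_R c).1 r.2).1)

theorem zb_sq : zb c * zb c = 1 := by
  show rb c _ * rb c _ = 1
  rw [← map_mul, show (⟨z, z_mem_R c⟩ : R c) * ⟨z, z_mem_R c⟩ = 1 from Subtype.ext c.D.gen.sq, map_one]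

theorem zb_ne_one : zb c ≠ 1 := fun e =>
  c.D.gen.ne_one (congrArg Subtype.val (rb_injective c (e.trans (map_one _).symm)))

theorem orderOf_zb : orderOf (zb c) = 2 :=
  haveI : Fact (Nat.Prime 2) := ⟨Nat.prime_two⟩
  orderOf_eq_prime (by rw [pow_two, zb_sq]) (zb_ne_one c)

/-- An element of the section centralising the involution lifts to its centraliser. -/
theorem mem_C_of_comm {x : CB c} (h : qH c x * zb c = zb c * qH c x) :
    (x : G) ∈ Subgroup.centralizer ({z} : Set G) := by
  set zC : CB c := rC c ⟨z, z_mem_R c⟩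
  have h1 : qH c (zC * x) = qH c (x * zC) := by rw [map_mul, map_mul]; exact h.symm
  have h2 := (qH_eq c).1 h1
  set β := ((zC * x : CB c) : G)⁻¹ * ((x * zC : CB c) : G) with hβ
  have hcomm : ∀ y : CB c, β * (y : G) = (y : G) * β := fun y =>
    Subgroup.mem_centralizer_iff.1 y.2 β h2
  have e : (x : G) * z * (x : G)⁻¹ = z * β := by
    have e0 : (x : G) * z = z * (x : G) * β := by
      rw [hβ]; simp [zC, rC, mul_assoc]
    rw [e0, mul_assoc z, ← hcomm x, ← mul_assoc, mul_inv_cancel_right]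
  have hz : β * z = z * β := hcomm zC
  have hβ2 : β * β = 1 := by
    have h5 : ((x : G) * z * (x : G)⁻¹) * ((x : G) * z * (x : G)⁻¹) = 1 := by
      rw [conj_mul, c.D.gen.sq, mul_one, mul_inv_cancel]
    rw [e, show z * β * (z * β) = z * (β * z) * β by group, hz,
      show z * (z * β) * β = (z * z) * (β * β) by group, c.D.gen.sq, one_mul] at h5
    exact h5
  exact mem_C_of_conj (e.trans (by rw [B_sq c h2 hβ2, mul_one]))

/-- The centraliser of the element inside that of the involution, inside that of the element. -/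
def inK : Kc c →* CB c where
  toFun k := ⟨((k : Subgroup.centralizer ({z} : Set G)) : G), (mem_CB c).2
      (congrArg Subtype.val (Subgroup.mem_centralizer_singleton_iff.1 k.2))⟩
  map_one' := rfl
  map_mul' _ _ := rfl

/-- The same, mapped into the section. -/
noncomputable def fK : Kc c →* Subgroup.centralizer ({zb c} : Set (HB c)) :=
  ((qH c).comp (inK c)).codRestrict _ fun k => Subgroup.mem_centralizer_singleton_iff.2 (by
    show qH c (inK c k) * qH c (rC c ⟨z, z_mem_R c⟩) = qH c (rC c ⟨z, z_mem_R c⟩) * qH c (inK c k)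
    rw [← map_mul, ← map_mul]
    exact congrArg (qH c) (Subtype.ext
      (Subgroup.mem_centralizer_singleton_iff.1 (k : Subgroup.centralizer ({z} : Set G)).2)))

theorem coe_fK (k : Kc c) : (fK c k : HB c) = qH c (inK c k) := rfl

theorem fK_surjective : Function.Surjective (fK c) := by
  rintro ⟨y, hy⟩
  obtain ⟨x, rfl⟩ := QuotientGroup.mk'_surjective (BB c) y
  exact ⟨⟨⟨(x : G), mem_C_of_comm c (Subgroup.mem_centralizer_singleton_iff.1 hy)⟩,
    Subgroup.mem_centralizer_singleton_iff.2 (Subtype.ext ((mem_CB c).1 x.2))⟩, Subtype.ext (coe_fK c _)⟩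

theorem fK_ker : (fK c).ker ≤ (φC c).ker := by
  intro k hk
  have h0 : qH c (inK c k) = 1 := (coe_fK c k).symm.trans (congrArg Subtype.val hk)
  have h1 : ((k : Subgroup.centralizer ({z} : Set G)) : G) ∈ Subgroup.zpowers c.β := (qH_eq_one c).1 h0
  obtain ⟨j, hj⟩ := Subgroup.mem_zpowers_iff.1 h1
  refine φC_b c k (Subgroup.mem_zpowers_iff.2 ⟨j, ?_⟩)
  rw [← map_zpow]
  exact congrArg c.D.π (Subtype.ext hj)

/-- The action of the centraliser in the section. -/
noncomputable def Φ : Subgroup.centralizer ({zb c} : Set (HB c)) →*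
    Matrix.SpecialLinearGroup (Fin 3) (ZMod 2) :=
  (fK c).liftOfSurjective (fK_surjective c) ⟨φC c, fK_ker c⟩

theorem Φ_fK (k : Kc c) : Φ c (fK c k) = φC c k :=
  MonoidHom.liftOfRightInverse_comp_apply (fK c) _ _ ⟨φC c, fK_ker c⟩ k

/-- The extraspecial subgroup of the section. -/
noncomputable abbrev RB : Subgroup (Subgroup.centralizer ({zb c} : Set (HB c))) := (Φ c).ker

variable [Finite G]

theorem Φ_surjective : Function.Surjective (Φ c) := fun p => by
  obtain ⟨k, hk⟩ := φC_surjective c p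
  exact ⟨fK c k, (Φ_fK c k).trans hk⟩

theorem rb_comm (r : R c) : rb c r ∈ Subgroup.centralizer ({zb c} : Set (HB c)) :=
  Subgroup.mem_centralizer_singleton_iff.2 (by
    show rb c r * rb c _ = rb c _ * rb c r
    rw [← map_mul, ← map_mul]
    exact congrArg (rb c) (Subtype.ext (c.D.gen.comm_z r ((mem_R c).1 r.2).1).symm.eq.symm))

theorem rb_mem (r : R c) : (⟨rb c r, rb_comm c r⟩ : Subgroup.centralizer ({zb c} : Set (HB c))) ∈ RB c := by
  let k : Kc c := ⟨⟨(r : G), c.D.le_C ((mem_R c).1 r.2).1⟩,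
    Subgroup.mem_centralizer_singleton_iff.2 (Subtype.ext ((mem_R c).1 r.2).2.symm)⟩
  rw [show (⟨rb c r, rb_comm c r⟩ : Subgroup.centralizer ({zb c} : Set (HB c))) = fK c k from Subtype.ext rfl,
    MonoidHom.mem_ker, Φ_fK]
  refine φC_b c k ?_
  rw [show c.D.π (k : Subgroup.centralizer ({z} : Set G)) = 1 from (c.D.mem_ker _).2 ((mem_R c).1 r.2).1]
  exact one_mem _

/-- The fixed subgroup onto the extraspecial subgroup of the section. -/
noncomputable def rR : R c →* RB c :=
  MonoidHom.mk' (fun r => ⟨⟨rb c r, rb_comm c r⟩, rb_mem c r⟩)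
    fun a b => Subtype.ext (Subtype.ext (map_mul (rb c) a b))

theorem rR_bijective : Function.Bijective (rR c) := by
  refine ⟨fun a b h => rb_injective c (congrArg (fun w : RB c => ((w : Subgroup.centralizer
    ({zb c} : Set (HB c))) : HB c)) h), ?_⟩
  rintro ⟨y, hy⟩
  obtain ⟨k, rfl⟩ := fK_surjective c y
  rw [MonoidHom.mem_ker, Φ_fK] at hy
  obtain ⟨j, hj⟩ := φC_ker c hy
  set kk := ((k : Subgroup.centralizer ({z} : Set G)) : G) with hkk
  have hkβ : kk * c.β = c.β * kk := congrArg Subtype.val (Subgroup.mem_centralizer_singleton_iff.1 k.2)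
  have hcomm : c.β * (kk * (c.β ^ j)⁻¹) = kk * (c.β ^ j)⁻¹ * c.β :=
    ((show Commute c.β kk from hkβ.symm).mul_right (((Commute.refl c.β).zpow_right j).inv_right)).eq
  refine ⟨⟨_, (mem_R c).2 ⟨hj, hcomm⟩⟩, Subtype.ext (Subtype.ext ?_)⟩
  show qH c (rC c _) = qH c (inK c k)
  rw [qH_eq]
  show (kk * (c.β ^ j)⁻¹)⁻¹ * kk ∈ Subgroup.zpowers c.β
  rw [show (kk * (c.β ^ j)⁻¹)⁻¹ * kk = c.β ^ j by group]
  exact Subgroup.mem_zpowers_iff.2 ⟨j, rfl⟩

theorem card_RB : Nat.card (RB c) = 2 ^ (2 * 3 + 1) := by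
  rw [← Nat.card_eq_of_bijective _ (rR_bijective c), card_R]

theorem extraspecial_RB : IsExtraspecial 2 (RB c) := by
  let e : R c ≃* RB c := MulEquiv.ofBijective (rR c) (rR_bijective c)
  have hzc : ∀ r : R c, (r : G) = 1 ∨ (r : G) = z → e r ∈ Subgroup.center (RB c) := fun r hr => by
    rw [Subgroup.mem_center_iff]
    intro y
    obtain ⟨x, rfl⟩ := e.surjective y
    rw [← map_mul, ← map_mul]
    refine congrArg e (Subtype.ext ?_)
    show (x : G) * r = r * x
    rcases hr with he | he <;> rw [he]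
    · simp
    · exact (c.D.gen.comm_z x ((mem_R c).1 x.2).1).eq
  refine isExtraspecial_of (IsPGroup.of_card (card_RB c)) ?_ ?_ ?_ ?_
  · let F : Bool → Subgroup.center (RB c) := fun b =>
      if b then ⟨e ⟨z, z_mem_R c⟩, hzc _ (Or.inr rfl)⟩ else 1
    have hF : Function.Bijective F := by
      have hne : e ⟨z, z_mem_R c⟩ ≠ 1 := fun h =>
        c.D.gen.ne_one (congrArg Subtype.val (e.map_eq_one_iff.1 h))
      constructor
      · intro a b h
        have h' := congrArg Subtype.val h
        cases a <;> cases b <;> simp [F, hne, Ne.symm hne] at h' ⊢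
      · rintro ⟨y, hy⟩
        obtain ⟨r, rfl⟩ := e.surjective y
        rcases R_center c r.2 (fun x hx => congrArg Subtype.val (e.injective
          ((map_mul e r ⟨x, hx⟩).trans ((Subgroup.mem_center_iff.1 hy (e ⟨x, hx⟩)).symm.trans
            (map_mul e ⟨x, hx⟩ r).symm)))) with he | he
        · exact ⟨false, Subtype.ext (by simp [F, show r = 1 from Subtype.ext he])⟩
        · exact ⟨true, Subtype.ext (by simp [F, show r = ⟨z, z_mem_R c⟩ from Subtype.ext he])⟩
    rw [← Nat.card_eq_of_bijective F hF, Nat.card_eq_fintype_card, Fintype.card_bool]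
  · intro x y
    obtain ⟨r, rfl⟩ := e.surjective x
    obtain ⟨r', rfl⟩ := e.surjective y
    rw [← map_inv, ← map_inv, ← map_mul, ← map_mul, ← map_mul]
    exact hzc _ (c.D.gen.comm r ((mem_R c).1 r.2).1 r' ((mem_R c).1 r'.2).1)
  · intro x
    obtain ⟨r, rfl⟩ := e.surjective x
    rw [← map_mul]
    exact hzc _ (c.D.gen.square r ((mem_R c).1 r.2).1)
  · obtain ⟨a, ha, b, hb, -, -, hne⟩ := R_pair c
    refine ⟨e ⟨a, ha⟩, e ⟨b, hb⟩, fun h => hne ?_⟩
    rw [← map_mul, ← map_mul] at h
    exact congrArg Subtype.val (e.injective h)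

theorem Fstar_RB : generalizedFittingSubgroup (Subgroup.centralizer ({zb c} : Set (HB c))) = RB c := by
  haveI : Fact (Nat.Prime 2) := ⟨Nat.prime_two⟩
  let e := QuotientGroup.quotientKerEquivOfSurjective (Φ c) (Φ_surjective c)
  haveI := sl32_simple
  haveI : IsSimpleGroup (Subgroup.centralizer ({zb c} : Set (HB c)) ⧸ RB c) := e.isSimpleGroup
  refine Fstar_eq_of_simple_quotient (RB c) (IsPGroup.of_card (card_RB c))
    (not_solvable_of_simple (p := 3) (q := 7) (by norm_num) seven_prime (by norm_num) ?_ ?_) ?_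
  · rw [Nat.card_congr e.toEquiv, card_sl32]; norm_num
  · rw [Nat.card_congr e.toEquiv, card_sl32]; norm_num
  intro y hy
  obtain ⟨k, rfl⟩ := fK_surjective c y
  rw [MonoidHom.mem_ker, Φ_fK]
  refine φC_of_centralising c fun r hr => ?_
  have h1 := (Subgroup.mem_centralizer_iff.1 hy) _ (rb_mem c ⟨r, hr⟩)
  have hrQ := ((mem_R c).1 hr).1
  set kk := ((k : Subgroup.centralizer ({z} : Set G)) : G) with hkk
  have h3 : (r * kk)⁻¹ * (kk * r) ∈ Subgroup.zpowers c.β := by
    have h2 : rb c ⟨r, hr⟩ * (fK c k : HB c) = (fK c k : HB c) * rb c ⟨r, hr⟩ := congrArg Subtype.val h1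
    have h2' : qH c (rC c ⟨r, hr⟩ * inK c k) = qH c (inK c k * rC c ⟨r, hr⟩) := by
      rw [map_mul, map_mul]; exact h2
    exact (qH_eq c).1 h2' 
  have h4 : (r * kk)⁻¹ * (kk * r) ∈ c.D.Q := by
    have hkC : kk⁻¹ ∈ Subgroup.centralizer ({z} : Set G) :=
      inv_mem (k : Subgroup.centralizer ({z} : Set G)).2
    rw [show (r * kk)⁻¹ * (kk * r) = (kk⁻¹ * r⁻¹ * kk⁻¹⁻¹) * r by group]
    exact mul_mem (conj_mem c.D hkC (inv_mem hrQ)) hrQ
  have h5 := B_Q c h3 h4
  calc kk * r * kk⁻¹ = (r * kk) * ((r * kk)⁻¹ * (kk * r)) * kk⁻¹ := by group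
    _ = r := by rw [h5]; group

theorem isConj_rb {r : R c} :
    IsConj (zb c) (rb c r) ↔ (r : G) = z ∨ ∃ j, c.D.cl r = cls (repV j : GolayPt → ℤ) := by
  constructor
  · intro h
    by_cases hrz : (r : G) = z
    · exact Or.inl hrz
    right
    obtain ⟨y, hy⟩ := isConj_iff.1 h
    obtain ⟨x, rfl⟩ := QuotientGroup.mk'_surjective (BB c) y
    have h1 : qH c (rC c r) = qH c (x * rC c ⟨z, z_mem_R c⟩ * x⁻¹) := by
      rw [map_mul, map_mul, map_inv]; exact hy.symm
    have h2 := (qH_eq c).1 h1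
    have hr2 : (r : G) * r = 1 := by
      have e : rb c (r * r) = 1 := by
        rw [map_mul, ← hy]
        calc _ = qH c x * (zb c * zb c) * (qH c x)⁻¹ := by group
          _ = 1 := by rw [zb_sq, mul_one, mul_inv_cancel]
      exact congrArg Subtype.val (rb_injective c (e.trans (map_one _).symm))
    set β := ((rC c r : CB c) : G)⁻¹ * ((x * rC c ⟨z, z_mem_R c⟩ * x⁻¹ : CB c) : G) with hβ
    have hcomm : β * (r : G) = (r : G) * β := Subgroup.mem_centralizer_iff.1 (rC c r).2 β h2
    have he : (x : G) * z * (x : G)⁻¹ = (r : G) * β := by rw [hβ]; simp [rC, mul_assoc]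
    have hβ2 : β * β = 1 := by
      have h5 : ((x : G) * z * (x : G)⁻¹) * ((x : G) * z * (x : G)⁻¹) = 1 := by
        rw [conj_mul, c.D.gen.sq, mul_one, mul_inv_cancel]
      rw [he, show (r : G) * β * ((r : G) * β) = (r : G) * (β * r) * β by group, hcomm,
        show (r : G) * ((r : G) * β) * β = ((r : G) * r) * (β * β) by group, hr2, one_mul] at h5
      exact h5
    rw [B_sq c h2 hβ2, mul_one] at he
    exact class_of_conj c r.2 (isConj_iff.2 ⟨x, he⟩) hrz
  · rintro (h | ⟨j, hj⟩)
    · rw [show r = ⟨z, z_mem_R c⟩ from Subtype.ext h]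
      exact IsConj.refl _
    · obtain ⟨x, hxβ, hxz⟩ := fusion c r.2 hj
      refine isConj_iff.2 ⟨qH c ⟨x, (mem_CB c).2 hxβ⟩, ?_⟩
      show qH c _ * qH c _ * (qH c _)⁻¹ = qH c (rC c r)
      rw [← map_inv, ← map_mul, ← map_mul]
      exact congrArg (qH c) (Subtype.ext hxz)

theorem ncard_conj :
    Set.ncard {x : Subgroup.centralizer ({zb c} : Set (HB c)) | x ∈ RB c ∧ IsConj (zb c) (x : HB c)} = 29 := by
  choose q hq hcl using fun j : Fin 14 => exists_R_of_fixed c (repV_fixed j)
  have hQ : ∀ j, q j ∈ c.D.Q := fun j => ((mem_R c).1 (hq j)).1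
  have hclF : ∀ j (e : Bool), c.D.cl (q j * (if e then z else 1)) = cls (repV j : GolayPt → ℤ) := by
    intro j e
    cases e
    · simp [hcl]
    · simp [cl_mul_z c.D (hQ j), hcl]
  let pick : Option (Fin 14 × Bool) → R c := fun o => match o with
    | none => ⟨z, z_mem_R c⟩
    | some x => ⟨q x.1 * (if x.2 then z else 1), mul_mem (hq _) (by
        split; exacts [z_mem_R c, one_mem _])⟩
  let F : Option (Fin 14 × Bool) →
      {x : Subgroup.centralizer ({zb c} : Set (HB c)) // x ∈ RB c ∧ IsConj (zb c) (x : HB c)} := fun o =>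
    ⟨rR c (pick o), (rR c (pick o)).2, (isConj_rb c).2 (match o with
      | none => Or.inl rfl
      | some x => Or.inr ⟨x.1, hclF x.1 x.2⟩)⟩
  have hinj : Function.Injective pick := by
    have hne : ∀ x, (pick (some x) : G) ≠ z := fun x =>
      (ne_of_cls c.D ((mem_R c).1 (pick (some x)).2).1 (hclF x.1 x.2) (Or.inr (Or.inr (repV_norm _)))).2
    rintro (_ | ⟨j, e⟩) (_ | ⟨j', e'⟩) h
    · rfl
    · exact absurd (congrArg Subtype.val h).symm (hne (j', e'))
    · exact absurd (congrArg Subtype.val h) (hne (j, e))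
    · have h' : q j * (if e then z else 1) = q j' * (if e' then z else 1) := congrArg Subtype.val h
      obtain rfl : j = j' := repV_injective (by rw [← hclF j e, ← hclF j' e', h'])
      have h'' := mul_left_cancel h'
      cases e <;> cases e' <;> simp at h'' ⊢ <;>
        first | exact c.D.gen.ne_one h'' | exact c.D.gen.ne_one h''.symm
  have hFp : ∀ o r, pick o = r → (F o).1 = (rR c r : Subgroup.centralizer ({zb c} : Set (HB c))) :=
    fun o r h => by subst h; rfl
  have hbij : Function.Bijective F := by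
    refine ⟨fun a b h => hinj ((rR_bijective c).1 (Subtype.ext
      ((hFp a _ rfl).symm.trans ((congrArg (fun y => y.1) h).trans (hFp b _ rfl))))), ?_⟩
    rintro ⟨x, hx, hxc⟩
    obtain ⟨r, hr⟩ := (rR_bijective c).2 ⟨x, hx⟩
    have hx' : x = (rR c r : Subgroup.centralizer ({zb c} : Set (HB c))) := (congrArg Subtype.val hr).symm
    subst hx'
    rcases (isConj_rb c).1 hxc with e | ⟨j, hj⟩
    · exact ⟨none, Subtype.ext (hFp none r (Subtype.ext e.symm))⟩
    · rcases eq_or_mul_of_cl_eq c.D (hQ j) ((mem_R c).1 r.2).1 ((hcl j).trans hj.symm) with e | e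
      · exact ⟨some (j, false), Subtype.ext (hFp (some (j, false)) r (Subtype.ext (by simp [pick, e])))⟩
      · exact ⟨some (j, true), Subtype.ext (hFp (some (j, true)) r (Subtype.ext (by simp [pick, e])))⟩
  rw [← Nat.card_coe_set_eq]
  refine (Nat.card_eq_of_bijective F hbij).symm.trans ?_
  simp [Nat.card_eq_fintype_card]

theorem not_weakly_closed : ∃ g : HB c, (∃ hg : g * zb c * g⁻¹ ∈ Subgroup.centralizer ({zb c} : Set (HB c)),
    (⟨_, hg⟩ : Subgroup.centralizer ({zb c} : Set (HB c))) ∈ RB c) ∧ g * zb c * g⁻¹ ≠ zb c := by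
  obtain ⟨g, hg⟩ := isConj_iff.1 ((isConj_rb c (r := ⟨s, s_mem_R c⟩)).2
    (Or.inr ⟨0, c.cls_s.trans cls_eight_eq⟩))
  refine ⟨g, ⟨hg ▸ rb_comm c _, ?_⟩, fun e => c.hsz ?_⟩
  · have e : (⟨g * zb c * g⁻¹, hg ▸ rb_comm c _⟩ : Subgroup.centralizer ({zb c} : Set (HB c))) =
        ⟨rb c ⟨s, s_mem_R c⟩, rb_comm c _⟩ := Subtype.ext hg
    rw [e]; exact rb_mem c _
  · exact congrArg Subtype.val (rb_injective c (hg.symm.trans e))

theorem isOfHeldType : IsOfHeldType (HB c) :=
  ⟨zb c, RB c, inferInstance,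
    ⟨orderOf_zb c, Fstar_RB c, extraspecial_RB c, card_RB c, not_weakly_closed c⟩,
    ⟨QuotientGroup.quotientKerEquivOfSurjective (Φ c) (Φ_surjective c)⟩, ncard_conj c⟩

end CfsgLib.Monster.Seven
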