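import Cfsg.Agent.Monster.Seven.Linear
import Cfsg.Agent.Leech.Linear

/-!
# The fixed sublattice modulo two
-/

set_option autoImplicit false
set_option maxRecDepth 100000
set_option maxHeartbeats 1000000

namespace CfsgLib.Monster.Seven

open Cfsg CfsgLib CfsgLib.Golay CfsgLib.Golay.Cert CfsgLib.Leech

attribute [local irreducible] shortVecs halfTable quarterTable codeFinset

theorem baseA_ok : ∀ i : Fin 6, memB (embL (baseA.getD i.1 [])) = true := by decide +kernel

/-- The basis of the fixed sublattice. -/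
def fV (i : Fin 6) : leechLattice :=
  ⟨embA (baseA.getD i.1 []), by rw [← memB_iff, vL_embA]; exact baseA_ok i⟩

theorem fV_fixed (i : Fin 6) : bh • fV i = fV i := embA_fixed _ _

/-- A combination of the basis. -/
def fVec (c : Fin 6 → ZMod 2) : leechLattice := ∑ i, (c i).val • fV i

theorem fVec_fixed (c : Fin 6 → ZMod 2) : bh • fVec c = fVec c := by
  rw [fVec, smul_sum']
  refine Finset.sum_congr rfl fun i _ => ?_
  rw [show bh • ((c i).val • fV i) = (c i).val • (bh • fV i) from map_nsmul (toAddHom bh) _ _, fV_fixed]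

/-- The class of a combination. -/
def fCls : (Fin 6 → ZMod 2) →+ (GolayPt → ℤ) ⧸ twoLeech :=
  AddMonoidHom.mk' (fun c => ∑ i, (c i).val • cls (fV i : GolayPt → ℤ)) fun a b => by
    simp only [Pi.add_apply, nsmul_add_val (cls_two_smul _), Finset.sum_add_distrib]

theorem cls_fVec (c : Fin 6 → ZMod 2) : cls (fVec c : GolayPt → ℤ) = fCls c := by
  rw [← clsHom_apply, fVec, AddSubmonoidClass.coe_finset_sum, map_sum]
  exact Finset.sum_congr rfl fun i _ => by rw [AddSubmonoidClass.coe_nsmul, map_nsmul, clsHom_apply]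

/-- The pairing on combinations. -/
def pairB (c : Fin 6 → ZMod 2) (i : Fin 6) : Bool :=
  decide (((List.range 24).map fun k => (∑ j : Fin 6, ((c j).val : ℤ) * (embL (baseA.getD j.1 [])).getD k 0) *
    (embL (baseA.getD i.1 [])).getD k 0).sum % 16 = 0)

theorem pairB_spec (c : Fin 6 → ZMod 2) (i : Fin 6) :
    pairB c i = true ↔ (16 : ℤ) ∣ dotInt (fVec c : GolayPt → ℤ) (fV i : GolayPt → ℤ) := by
  rw [pairB, decide_eq_true_eq, Int.dvd_iff_emod_eq_zero, dotInt, sum_vL, vL]
  refine Eq.congr_left (congrArg (fun l : List ℤ => l.sum % 16) (List.map_congr_left fun k hk => ?_))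
  have hk' := List.mem_range.1 hk
  rw [fVec, AddSubmonoidClass.coe_finset_sum, Finset.sum_apply]
  congr 1
  · refine Finset.sum_congr rfl fun j _ => ?_
    rw [AddSubmonoidClass.coe_nsmul, Pi.smul_apply, nsmul_eq_mul, ← vL_embA, vL_getD _ hk']
    rfl
  · rw [← vL_embA, vL_getD _ hk']
    rfl

theorem pair_ok : ∀ c : Fin 6 → ZMod 2, c = 0 ∨ ∃ i, pairB c i = false := by decide +kernel

/-- The pairing on the fixed classes is nondegenerate. -/
theorem exists_odd {c : Fin 6 → ZMod 2} (hc : c ≠ 0) :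
    ∃ i, ¬ (16 : ℤ) ∣ dotInt (fVec c : GolayPt → ℤ) (fV i : GolayPt → ℤ) := by
  obtain ⟨i, hi⟩ := (pair_ok c).resolve_left hc
  refine ⟨i, fun h => ?_⟩
  rw [← pairB_spec, hi] at h
  exact absurd h (by decide)

theorem sixteen_dvd_two_dot {x y : leechLattice} :
    (16 : ℤ) ∣ dotInt (fun p => 2 * (x : GolayPt → ℤ) p) (y : GolayPt → ℤ) := by
  obtain ⟨m, hm⟩ := eight_dvd_dot x.2 y.2
  refine ⟨m, ?_⟩
  simp only [dotInt] at hm ⊢
  rw [Finset.sum_congr rfl fun p _ => mul_assoc (2 : ℤ) _ _, ← Finset.mul_sum, hm]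
  ring

theorem fCls_injective : Function.Injective fCls := by
  refine (injective_iff_map_eq_zero fCls).2 fun c hc => ?_
  by_contra hne
  obtain ⟨i, hi⟩ := exists_odd hne
  rw [← cls_fVec, ← cls_zero, cls_eq_iff] at hc
  obtain ⟨w, hw, he⟩ := hc
  refine hi ?_
  rw [show (fVec c : GolayPt → ℤ) = fun p => 2 * w p from funext fun p => by
    have := congrFun he p
    simpa [Pi.sub_apply, Pi.smul_apply, nsmul_eq_mul] using this]
  exact sixteen_dvd_two_dot (x := ⟨w, hw⟩)

theorem tail_ok : ∀ d e f : Fin 8, memB (embL [0, 0, 0, d.1, e.1, f.1]) = true →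
    d.1 % 4 = 0 ∧ e.1 % 4 = 0 ∧ (d.1 + e.1 + f.1) % 8 = 0 := by decide +kernel

/-- The coefficients are integral. -/
theorem exists_coeff {a : List ℤ} (ha : a.length = 6) (h : embA a ∈ leechLattice) :
    ∃ k : Fin 6 → ℤ, embA a = ∑ i, k i • (fV i : GolayPt → ℤ) := by
  obtain ⟨x₀, x₁, x₂, x₃, x₄, x₅, rfl⟩ : ∃ x₀ x₁ x₂ x₃ x₄ x₅, a = [x₀, x₁, x₂, x₃, x₄, x₅] := by
    rcases a with _ | ⟨x₀, _ | ⟨x₁, _ | ⟨x₂, _ | ⟨x₃, _ | ⟨x₄, _ | ⟨x₅, _ | ⟨x₆, t⟩⟩⟩⟩⟩⟩⟩ <;>
      simp at ha
    exact ⟨_, _, _, _, _, _, rfl⟩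
  have hp := (mem_leech h).par
  have e0 := hp (pt 9); have e1 := hp (pt 17); have e2 := hp (pt 18); have e3 := hp (pt 0)
  simp only [embA, idx_pt 9 (by norm_num), idx_pt 17 (by norm_num), idx_pt 18 (by norm_num),
    idx_pt 0 (by norm_num), show idx (none : GolayPt) = 23 from rfl, orbIx,
    List.getD_cons_zero, List.getD_cons_succ] at e0 e1 e2 e3
  obtain ⟨k1, hk1⟩ : ∃ k1, x₁ + x₀ = 2 * k1 := ⟨(x₁ + x₀) / 2, by omega⟩
  obtain ⟨k2, hk2⟩ : ∃ k2, x₂ + x₀ = 2 * k2 := ⟨(x₂ + x₀) / 2, by omega⟩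
  have hfv : ∀ (k : Fin 6 → ℤ) (p : GolayPt), (∑ i, k i • (fV i : GolayPt → ℤ)) p =
      ([k 0, -k 0 + 2 * k 1, -k 0 + 2 * k 2, -k 0 - 2 * k 1 + 4 * k 3, -k 0 - 2 * k 2 + 4 * k 4,
        -3 * k 0 - 4 * k 1 - 4 * k 2 - 4 * k 3 - 4 * k 4 + 8 * k 5] : List ℤ).getD
          (orbIx.getD (idx p) 0) 0 := by
    intro k p
    have hlt : orbIx.getD (idx p) 0 < 6 := (orbit_path _ (idx_lt p)).1
    simp only [Finset.sum_apply, Pi.smul_apply, smul_eq_mul, Fin.sum_univ_six, fV, embA]
    generalize orbIx.getD (idx p) 0 = o at hlt ⊢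
    interval_cases o <;> simp [baseA] <;> ring
  set k' : Fin 6 → ℤ := ![x₀, k1, k2, 0, 0, 0] with hk'
  have hres : embA [0, 0, 0, x₃ + x₀ + 2 * k1, x₄ + x₀ + 2 * k2, x₅ + 3 * x₀ + 4 * k1 + 4 * k2] ∈
      leechLattice := by
    have hm : (∑ i, k' i • (fV i : GolayPt → ℤ)) ∈ leechLattice :=
      sum_mem fun i _ => zsmul_mem (fV i).2 _
    have := sub_mem h hm
    convert this using 1
    funext p
    have hlt : orbIx.getD (idx p) 0 < 6 := (orbit_path _ (idx_lt p)).1
    rw [Pi.sub_apply, hfv]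
    show List.getD _ _ 0 = List.getD _ _ 0 - List.getD _ _ 0
    generalize orbIx.getD (idx p) 0 = o at hlt ⊢
    interval_cases o <;>
      simp only [hk', List.getD_cons_zero, List.getD_cons_succ, Matrix.cons_val_zero, Matrix.cons_val_one,
        Matrix.cons_val_two, Matrix.cons_val, Matrix.head_cons, Matrix.tail_cons] <;> omega
  set d := x₃ + x₀ + 2 * k1 with hd
  set e := x₄ + x₀ + 2 * k2 with he
  set f := x₅ + 3 * x₀ + 4 * k1 + 4 * k2 with hf
  have hsix : memB (embL [0, 0, 0, d % 8, e % 8, f % 8]) = true := by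
    rw [← vL_embA, memB_iff]
    have h8 : ∀ o : ℕ, (embA ((List.range 6).map fun i => if i = o then (8 : ℤ) else 0)) ∈ leechLattice := by
      intro o
      have : embA ((List.range 6).map fun i => if i = o then (8 : ℤ) else 0) =
          ∑ p : GolayPt, (if orbIx.getD (idx p) 0 = o then (1 : ℤ) else 0) • (eightAt p : GolayPt → ℤ) := by
        funext q
        have hlt : orbIx.getD (idx q) 0 < 6 := (orbit_path _ (idx_lt q)).1
        rw [embA, List.getD_eq_getElem _ _ (by simpa using hlt), List.getElem_map, List.getElem_range,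
          Finset.sum_apply, Finset.sum_eq_single q (fun p _ hp => by simp [eightAt_apply, Ne.symm hp]) (by simp)]
        simp [eightAt_apply]
      rw [this]
      exact sum_mem fun p _ => zsmul_mem (eightAt p).2 _
    have := sub_mem (sub_mem (sub_mem hres (zsmul_mem (h8 3) (d / 8))) (zsmul_mem (h8 4) (e / 8)))
      (zsmul_mem (h8 5) (f / 8))
    convert this using 1
    funext p
    have hlt : orbIx.getD (idx p) 0 < 6 := (orbit_path _ (idx_lt p)).1
    simp only [Pi.sub_apply, Pi.smul_apply, smul_eq_mul, embA]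
    generalize orbIx.getD (idx p) 0 = o at hlt ⊢
    interval_cases o <;> simp [List.range_succ] <;> omega
  have hd8 := tail_ok ⟨(d % 8).toNat, by omega⟩ ⟨(e % 8).toNat, by omega⟩ ⟨(f % 8).toNat, by omega⟩ (by
    simp only [Int.toNat_of_nonneg (Int.emod_nonneg _ (by norm_num : (8 : ℤ) ≠ 0))]
    exact hsix)
  simp only at hd8
  obtain ⟨k3, hk3⟩ : ∃ k3, d = 4 * k3 := ⟨d / 4, by omega⟩
  obtain ⟨k4, hk4⟩ : ∃ k4, e = 4 * k4 := ⟨e / 4, by omega⟩
  obtain ⟨k5, hk5⟩ : ∃ k5, f + 4 * k3 + 4 * k4 = 8 * k5 := ⟨(f + 4 * k3 + 4 * k4) / 8, by omega⟩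
  refine ⟨![x₀, k1, k2, k3, k4, k5], funext fun p => ?_⟩
  rw [hfv]
  show List.getD _ _ 0 = List.getD _ _ 0
  have hlt : orbIx.getD (idx p) 0 < 6 := (orbit_path _ (idx_lt p)).1
  generalize orbIx.getD (idx p) 0 = o at hlt ⊢
  interval_cases o <;>
    simp only [List.getD_cons_zero, List.getD_cons_succ, Matrix.cons_val_zero, Matrix.cons_val_one,
      Matrix.cons_val_two, Matrix.cons_val, Matrix.head_cons, Matrix.tail_cons] <;> omega

/-- Every invariant class is a combination of the basis. -/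
theorem exists_comb {v : leechLattice}
    (h : cls ((bh • v : leechLattice) : GolayPt → ℤ) = cls (v : GolayPt → ℤ)) :
    ∃ c, fCls c = cls (v : GolayPt → ℤ) := by
  obtain ⟨w, hw, hwv⟩ := fixed_of_class h
  have he := eq_embA hw
  obtain ⟨k, hk⟩ := exists_coeff (a := orbRep.map fun r => (w : GolayPt → ℤ) (pt r)) (by simp [orbRep])
    (he ▸ w.2)
  refine ⟨fun i => (k i : ZMod 2), ?_⟩
  rw [← hwv, he, hk, ← clsHom_apply, map_sum]
  show ∑ i, ((k i : ZMod 2)).val • cls (fV i : GolayPt → ℤ) = _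
  refine Finset.sum_congr rfl fun i _ => ?_
  rw [map_zsmul, clsHom_apply]
  have h2 := cls_two_smul (fV i)
  rcases Int.even_or_odd' (k i) with ⟨m, e | e⟩ <;> rw [e] <;>
    simp [mul_comm (2 : ℤ) m, mul_zsmul, add_zsmul, two_zsmul, h2, ZMod.val_one,
      show (2 : ZMod 2) = 0 from rfl]

theorem cert_ok : ∀ i : Fin 6, clsB (embL (baseA.getD i.1 []))
    ((List.range 24).map fun k => ((baseCert.getD i.1 []).map fun j => (embL (repA.getD j [])).getD k 0).sum) = true ∧
    ∀ j ∈ baseCert.getD i.1 [], j < 14 := by decide +kernel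

/-- An additive set containing the fourteen classes contains every invariant class. -/
theorem reps_span (P : AddSubmonoid ((GolayPt → ℤ) ⧸ twoLeech)) (h : ∀ j, cls (repV j : GolayPt → ℤ) ∈ P)
    (c : Fin 6 → ZMod 2) : fCls c ∈ P := by
  show ∑ i, (c i).val • cls (fV i : GolayPt → ℤ) ∈ P
  refine sum_mem fun i _ => nsmul_mem ?_ _
  obtain ⟨h1, h2⟩ := cert_ok i
  have hv : cls (fV i : GolayPt → ℤ) =
      cls ((baseCert.getD i.1 []).map fun j => embA (repA.getD j [])).sum := by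
    rw [← clsB_iff]
    show clsB (vL (embA _)) _ = true
    rw [vL_embA]
    convert h1 using 2
    refine List.map_congr_left fun k hk => ?_
    rw [Pi.list_sum_apply, List.map_map]
    refine congrArg List.sum (List.map_congr_left fun j _ => ?_)
    rw [Function.comp_apply, ← vL_embA, vL_getD _ (List.mem_range.1 hk)]
  rw [hv, ← clsHom_apply, map_list_sum]
  refine list_sum_mem fun x hx => ?_
  rw [List.map_map] at hx
  obtain ⟨j, hj, rfl⟩ := List.mem_map.1 hx
  exact h ⟨j, h2 j hj⟩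

theorem invert_ok : ∀ L ∈ sevN, conjB sevR (powL sevR 6) L = false := by decide +kernel

/-- An inverting element moves the first class. -/
theorem invert_moves {g : Co0} (h : g * bh = bh ^ 6 * g) :
    cls ((g • eightAt none : leechLattice) : GolayPt → ℤ) ≠ cls (eightAt none : GolayPt → ℤ) := by
  intro he
  obtain ⟨⟨w, σ⟩, rfl⟩ := (mem_monoGroup_iff g).1 he
  have h2 := ((mono_conj_iff (k := 6) (by norm_num) (by norm_num)).1 h).2
  have hn : σ ∈ Subgroup.normalizer (Subgroup.zpowers rho : Set M24) :=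
    mem_norm_rho.2 ⟨6, by norm_num, by norm_num, h2⟩
  have hc : conjB sevR (powL sevR 6) (toList σ.1) = true := by
    rw [← toList_rho_pow, ← toList_rho]
    exact conjB_iff.mpr h2
  rw [invert_ok _ (sev_norm_list hn)] at hc
  exact Bool.noConfusion hc

end CfsgLib.Monster.Seven
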